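import Mathlib
set_option linter.all false

/-!
# A rank one Bruhat decomposition: index, double transitivity, regularity

`G` a finite group, `H` a subgroup, `S ≤ H` normalised by `H`, `w ∉ H`, every `g ∉ H` lies in `S w H`, and
`S ∩ w H w⁻¹ = 1`.
-/

set_option autoImplicit false

namespace Cfsg.Agent.LieRecognition.RankOneAbstract

open Pointwise

/-- rank one Bruhat data -/
structure Data {G : Type*} [Group G] (H S : Subgroup G) (w : G) : Prop where
  w_not_mem : w ∉ H
  le : S ≤ H
  norm : ∀ h ∈ H, ∀ s ∈ S, h * s * h⁻¹ ∈ S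
  bruhat : ∀ g : G, g ∉ H → ∃ s ∈ S, (s * w)⁻¹ * g ∈ H
  inter : ∀ s ∈ S, w⁻¹ * s * w ∈ H → s = 1

variable {G : Type*} [Group G] {H S : Subgroup G} {w : G}

theorem Data.exists_eq (D : Data H S w) (x : G ⧸ H) (hx : x ≠ QuotientGroup.mk 1) :
    ∃ s : S, ((s : G) • (QuotientGroup.mk w : G ⧸ H)) = x := by
  induction x using QuotientGroup.induction_on with
  | H g =>
    have hg : g ∉ H := by
      intro hg
      apply hx
      rw [QuotientGroup.eq]
      simpa using H.inv_mem hg
    obtain ⟨s, hs, h⟩ := D.bruhat g hg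
    refine ⟨⟨s, hs⟩, ?_⟩
    show (QuotientGroup.mk (s * w) : G ⧸ H) = QuotientGroup.mk g
    rw [QuotientGroup.eq]
    exact h

theorem Data.smul_w_ne (D : Data H S w) (s : S) :
    ((s : G) • (QuotientGroup.mk w : G ⧸ H)) ≠ QuotientGroup.mk 1 := by
  intro h
  have h : (QuotientGroup.mk ((s : G) * w) : G ⧸ H) = QuotientGroup.mk 1 := h
  rw [QuotientGroup.eq] at h
  apply D.w_not_mem
  have h1 : (s : G) * w ∈ H := by simpa using H.inv_mem h
  have h2 := H.mul_mem (H.inv_mem (D.le s.2)) h1
  simpa using h2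

theorem Data.smul_w_inj (D : Data H S w) (s t : S)
    (h : ((s : G) • (QuotientGroup.mk w : G ⧸ H)) = (t : G) • (QuotientGroup.mk w : G ⧸ H)) : s = t := by
  have h : (QuotientGroup.mk ((s : G) * w) : G ⧸ H) = QuotientGroup.mk ((t : G) * w) := h
  rw [QuotientGroup.eq] at h
  have h1 : w⁻¹ * ((s : G)⁻¹ * (t : G)) * w ∈ H := by
    simpa [mul_assoc] using h
  have h2 := D.inter _ (S.mul_mem (S.inv_mem s.2) t.2) h1
  apply Subtype.ext
  exact (inv_mul_eq_one.mp h2)

/-- `S` is regular on the cosets other than `H` -/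
theorem Data.regular (D : Data H S w) (x y : G ⧸ H) (hx : x ≠ QuotientGroup.mk 1)
    (hy : y ≠ QuotientGroup.mk 1) : ∃! s : S, (s : G) • x = y := by
  obtain ⟨s, rfl⟩ := D.exists_eq x hx
  obtain ⟨t, rfl⟩ := D.exists_eq y hy
  refine ⟨t * s⁻¹, ?_, ?_⟩
  · show ((t * s⁻¹ : S) : G) • ((s : G) • (QuotientGroup.mk w : G ⧸ H)) = _
    rw [smul_smul]
    simp
  · intro r hr
    have hr : (r : G) • ((s : G) • (QuotientGroup.mk w : G ⧸ H)) = (t : G) • (QuotientGroup.mk w : G ⧸ H) := hr
    rw [smul_smul, ← Subgroup.coe_mul] at hr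
    have := D.smul_w_inj _ _ hr
    exact eq_mul_inv_of_mul_eq this

/-- the cosets are parametrised by `Option S` -/
noncomputable def Data.equiv (D : Data H S w) : Option S ≃ G ⧸ H :=
  Equiv.ofBijective (fun o => match o with
    | none => QuotientGroup.mk 1
    | some s => (s : G) • (QuotientGroup.mk w : G ⧸ H)) (by
    constructor
    · intro a b hab
      match a, b, hab with
      | none, none, _ => rfl
      | none, some s, h => exact absurd h.symm (D.smul_w_ne s)
      | some s, none, h => exact absurd h (D.smul_w_ne s)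
      | some s, some t, h => rw [D.smul_w_inj s t h]
    · intro x
      by_cases hx : x = QuotientGroup.mk 1
      · exact ⟨none, hx.symm⟩
      · obtain ⟨s, hs⟩ := D.exists_eq x hx
        exact ⟨some s, hs⟩)

theorem Data.index [Finite G] (D : Data H S w) : H.index = Nat.card S + 1 := by
  rw [Subgroup.index, ← Nat.card_congr D.equiv, Finite.card_option]

theorem Data.two_pretransitive (D : Data H S w) :
    MulAction.IsMultiplyPretransitive G (G ⧸ H) 2 := by
  rw [MulAction.is_two_pretransitive_iff]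
  -- every pair of distinct points can be moved to `(H, w H)`
  have key : ∀ a b : G ⧸ H, a ≠ b → ∃ g : G, g • (QuotientGroup.mk 1 : G ⧸ H) = a ∧
      g • (QuotientGroup.mk w : G ⧸ H) = b := by
    intro a b hab
    induction a using QuotientGroup.induction_on with
    | H g =>
      have hb : g⁻¹ • b ≠ (QuotientGroup.mk 1 : G ⧸ H) := by
        intro h
        apply hab
        rw [inv_smul_eq_iff] at h
        rw [h]
        show _ = (QuotientGroup.mk (g * 1) : G ⧸ H)
        rw [mul_one]
      obtain ⟨s, hs⟩ := D.exists_eq _ hb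
      refine ⟨g * s, ?_, ?_⟩
      · show (QuotientGroup.mk (g * s * 1) : G ⧸ H) = _
        rw [QuotientGroup.eq]
        simpa using H.inv_mem (D.le s.2)
      · rw [mul_smul, hs, smul_inv_smul]
  intro a b c d hab hcd
  obtain ⟨g, hg1, hg2⟩ := key a b hab
  obtain ⟨k, hk1, hk2⟩ := key c d hcd
  refine ⟨k * g⁻¹, ?_, ?_⟩
  · rw [← hg1, mul_smul, inv_smul_smul, hk1]
  · rw [← hg2, mul_smul, inv_smul_smul, hk2]

/-- the normaliser of `S` is `H` -/
theorem Data.normalizer_eq (D : Data H S w) (hS : S ≠ ⊥) : Subgroup.normalizer (S : Set G) = H := by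
  apply le_antisymm
  · intro g hg
    by_contra hgH
    apply hS
    rw [Subgroup.eq_bot_iff_forall]
    intro s hs
    -- `s` fixes the coset `g H`
    have h1 : (s : G) • (QuotientGroup.mk g : G ⧸ H) = QuotientGroup.mk g := by
      show (QuotientGroup.mk (s * g) : G ⧸ H) = QuotientGroup.mk g
      rw [QuotientGroup.eq]
      have h2 : g⁻¹ * s⁻¹ * g ∈ S := by
        have h3 := (Subgroup.mem_normalizer_iff''.mp hg (s⁻¹)).mp (S.inv_mem hs)
        exact h3
      have : (s * g)⁻¹ * g = g⁻¹ * s⁻¹ * g := by group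
      rw [this]
      exact D.le h2
    have hg1 : (QuotientGroup.mk g : G ⧸ H) ≠ QuotientGroup.mk 1 := by
      intro h
      rw [QuotientGroup.eq] at h
      apply hgH
      simpa using H.inv_mem h
    obtain ⟨r, hr, hr'⟩ := D.regular _ _ hg1 hg1
    have e1 := hr' ⟨s, hs⟩ h1
    have e2 := hr' 1 (by simp)
    have e3 : (⟨s, hs⟩ : S) = 1 := by rw [e1, e2]
    exact congrArg Subtype.val e3
  · intro h hh
    rw [Subgroup.mem_normalizer_iff]
    intro s
    constructor
    · intro hs
      exact D.norm h hh s hs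
    · intro hs
      have := D.norm h⁻¹ (H.inv_mem hh) _ hs
      simpa [mul_assoc] using this

end Cfsg.Agent.LieRecognition.RankOneAbstract
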