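import Mathlib
import Cfsg.Prelude.Def_LieRecognition
set_option linter.all false

set_option autoImplicit false

/-!
The group of pairs `(a, b)` with `b + σ b = a * σ a` (`σ` an involutory automorphism of a field of
characteristic two), product `(a, b) (c, d) = (a + c, b + d + a * σ c)`: the Sylow 2-subgroup of `SU₃`.
-/

namespace Cfsg.Agent.LieRecognition.HermHeis

variable {F : Type*} [Field F]

/-- Pairs `(a, b)` with `b + σ b = a * σ a`. -/
@[ext] structure Heis (σ : F →+* F) where
  /-- first coordinate -/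
  a : F
  /-- second coordinate -/
  b : F
  h : b + σ b = a * σ a

variable [CharP F 2] {σ : F →+* F} [hσ : Fact (∀ x, σ (σ x) = x)]

omit [CharP F 2] in
theorem sig (x : F) : σ (σ x) = x := hσ.out x

instance instMulHeis : Mul (Heis σ) :=
  ⟨fun x y => ⟨x.a + y.a, x.b + y.b + x.a * σ y.a, by
    have h1 := x.h
    have h2 := y.h
    simp only [map_add, map_mul, sig]
    linear_combination h1 + h2⟩⟩

instance instOneHeis : One (Heis σ) := ⟨⟨0, 0, by simp⟩⟩

instance instInvHeis : Inv (Heis σ) :=
  ⟨fun x => ⟨x.a, σ x.b, by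
    have h1 := x.h
    simp only [sig]
    linear_combination h1⟩⟩

@[simp] theorem mul_a (x y : Heis σ) : (x * y).a = x.a + y.a := rfl
@[simp] theorem mul_b (x y : Heis σ) : (x * y).b = x.b + y.b + x.a * σ y.a := rfl
@[simp] theorem one_a : (1 : Heis σ).a = 0 := rfl
@[simp] theorem one_b : (1 : Heis σ).b = 0 := rfl
@[simp] theorem inv_a (x : Heis σ) : (x⁻¹).a = x.a := rfl
@[simp] theorem inv_b (x : Heis σ) : (x⁻¹).b = σ x.b := rfl

instance instGroupHeis : Group (Heis σ) :=
  Group.ofLeftAxioms
    (by
      intro x y z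
      ext
      · simp [add_assoc]
      · simp only [mul_b, mul_a, map_add]; ring)
    (by
      intro x
      ext <;> simp)
    (by
      intro x
      have h := x.h
      ext
      · simp [CharTwo.add_self_eq_zero]
      · simp only [mul_b, inv_b, inv_a, one_b]
        linear_combination h + (CharTwo.add_self_eq_zero (x.a * σ x.a)))

/-- Membership in the set of fixed elements, second coordinate of elements with `a = 0`. -/
theorem b_fixed_of_a_eq_zero {x : Heis σ} (hx : x.a = 0) : σ x.b = x.b := by
  have h := x.h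
  rw [hx] at h
  simp only [zero_mul] at h
  have := CharTwo.add_eq_zero.mp h
  exact this.symm

/-- The element `(0, b)`. -/
def zet (b : F) (hb : σ b = b) : Heis σ := ⟨0, b, by rw [hb]; simp [CharTwo.add_self_eq_zero]⟩

omit hσ in
@[simp] theorem zet_a (b : F) (hb : σ b = b) : (zet b hb : Heis σ).a = 0 := rfl
omit hσ in
@[simp] theorem zet_b (b : F) (hb : σ b = b) : (zet b hb : Heis σ).b = b := rfl

theorem mul_self_eq_one_iff (x : Heis σ) : x * x = 1 ↔ x.a = 0 := by
  constructor
  · intro h
    have h2 := congrArg Heis.b h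
    simp only [mul_b, one_b, CharTwo.add_self_eq_zero, zero_add] at h2
    rcases mul_eq_zero.mp h2 with h3 | h3
    · exact h3
    · exact (map_eq_zero σ).mp h3
  · intro h
    ext
    · simp [CharTwo.add_self_eq_zero]
    · simp [h, CharTwo.add_self_eq_zero]

theorem commute_iff (x y : Heis σ) : x * y = y * x ↔ x.a * σ y.a = y.a * σ x.a := by
  constructor
  · intro h
    have h2 := congrArg Heis.b h
    simp only [mul_b] at h2
    linear_combination h2
  · intro h
    ext
    · simp [add_comm]
    · simp only [mul_b]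
      linear_combination h

/-- The automorphism `(a, b) ↦ (l a, l² b)` for `l` fixed by `σ`. -/
def scale (l : F) (hl : σ l = l) (x : Heis σ) : Heis σ :=
  ⟨l * x.a, l ^ 2 * x.b, by
    have h := x.h
    simp only [map_mul, map_pow, hl]
    linear_combination l ^ 2 * h⟩

/-- The fixed units. -/
def fixUnits (σ : F →+* F) : Subgroup Fˣ where
  carrier := {u | σ (u : F) = u}
  mul_mem' := by
    intro u v hu hv
    simp only [Set.mem_ofPred_eq, Units.val_mul, map_mul] at *
    rw [hu, hv]
  one_mem' := by simp
  inv_mem' := by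
    intro u hu
    simp only [Set.mem_ofPred_eq, Units.val_inv_eq_inv_val, map_inv₀] at *
    rw [hu]

/-- The homomorphism from the fixed units to the automorphisms. -/
def scaleHom (σ : F →+* F) [hσ : Fact (∀ x, σ (σ x) = x)] : fixUnits σ →* MulAut (Heis σ) where
  toFun u :=
    { toFun := scale (u : Fˣ) u.2
      invFun := scale ((u⁻¹ : fixUnits σ) : Fˣ) (u⁻¹).2
      left_inv := by
        intro x
        ext
        · simp [scale]
        · simp [scale]
      right_inv := by
        intro x
        ext
        · simp [scale]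
        · simp [scale]
      map_mul' := by
        intro x y
        have hu : σ ((u : Fˣ) : F) = (u : Fˣ) := u.2
        ext
        · simp [scale]; ring
        · simp only [scale, mul_b, map_mul, hu]; ring }
  map_one' := by
    ext x
    · simp [scale]
    · simp [scale]
  map_mul' := by
    intro u v
    ext x
    · simp [scale, mul_assoc]
    · simp [scale, mul_pow, mul_assoc]

theorem scaleHom_apply_a (u : fixUnits σ) (x : Heis σ) :
    (scaleHom σ u x).a = (u : Fˣ) * x.a := rfl
theorem scaleHom_apply_b (u : fixUnits σ) (x : Heis σ) :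
    (scaleHom σ u x).b = ((u : Fˣ) : F) ^ 2 * x.b := rfl

/-! ### Counting -/

/-- The additive map `x ↦ x + σ x`. -/
def tr (σ : F →+* F) : F →+ F where
  toFun x := x + σ x
  map_zero' := by simp
  map_add' := by intro x y; simp only [map_add]; ring

omit [CharP F 2] hσ in
theorem tr_apply (x : F) : tr σ x = x + σ x := rfl

omit hσ in
theorem mem_ker_tr (x : F) : x ∈ (tr σ).ker ↔ σ x = x := by
  rw [AddMonoidHom.mem_ker, tr_apply, CharTwo.add_eq_zero]
  exact eq_comm

omit [CharP F 2] in
theorem fixed_of_mem_range (x : F) (hx : x ∈ (tr σ).range) : σ x = x := by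
  obtain ⟨y, rfl⟩ := hx
  rw [tr_apply, map_add, sig, add_comm]

omit [CharP F 2] hσ in
theorem card_fixed_le [Finite F] {q : ℕ} (hq : 1 < q) (hs : ∀ x, σ x = x ^ q) :
    Nat.card {x : F // σ x = x} ≤ q := by
  classical
  let P : Polynomial F := Polynomial.X ^ q - Polynomial.X
  have hP : P ≠ 0 := FiniteField.X_pow_card_sub_X_ne_zero F hq
  have hdeg : P.natDegree = q := FiniteField.X_pow_card_sub_X_natDegree_eq F hq
  have h1 : Nat.card {x : F // σ x = x} ≤ P.roots.toFinset.card := by
    rw [← Fintype.card_coe, ← Nat.card_eq_fintype_card]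
    refine Nat.card_le_card_of_injective
      (fun x : {x : F // σ x = x} => (⟨x.1, ?_⟩ : {y // y ∈ P.roots.toFinset}))
      (fun y z h => Subtype.ext (Subtype.mk.inj h))
    rw [Multiset.mem_toFinset, Polynomial.mem_roots hP, Polynomial.IsRoot.def]
    simp only [P, Polynomial.eval_sub, Polynomial.eval_pow, Polynomial.eval_X]
    rw [← hs, x.2, sub_self]
  exact h1.trans ((Multiset.toFinset_card_le _).trans ((Polynomial.card_roots' P).trans hdeg.le))

/-- The number of fixed elements of the `q`-power map on a field with `q ^ 2` elements. -/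
theorem card_fixed [Finite F] {q : ℕ} (hq : 1 < q) (hs : ∀ x, σ x = x ^ q)
    (hF : Nat.card F = q ^ 2) : Nat.card {x : F // σ x = x} = q ∧
      ∀ c : F, σ c = c → ∃ b : F, b + σ b = c := by
  have hle := card_fixed_le (σ := σ) hq hs
  have hker : Nat.card (tr σ).ker = Nat.card {x : F // σ x = x} :=
    Nat.card_congr (Equiv.subtypeEquivRight (fun x => mem_ker_tr x))
  have hrange : Nat.card (tr σ).range ≤ Nat.card {x : F // σ x = x} :=
    Nat.card_le_card_of_injective (fun y : (tr σ).range => ⟨y.1, fixed_of_mem_range y.1 y.2⟩)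
      (fun y z h => Subtype.ext (Subtype.mk.inj h))
  have hprod : Nat.card F = Nat.card (tr σ).range * Nat.card (tr σ).ker := by
    rw [AddSubgroup.card_eq_card_quotient_mul_card_addSubgroup (tr σ).ker,
      Nat.card_congr (QuotientAddGroup.quotientKerEquivRange (tr σ)).toEquiv]
  rw [hF, hker] at hprod
  have hfix : Nat.card {x : F // σ x = x} = q := by
    nlinarith
  refine ⟨hfix, fun c hc => ?_⟩
  have hr : Nat.card (tr σ).range = q := by
    rw [hfix] at hprod
    have : 0 < q := by omega
    nlinarith
  -- the range is everything fixed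
  have hsub : ((tr σ).range : Set F) = {x : F | σ x = x} := by
    refine Set.eq_of_subset_of_ncard_le (fun x hx => fixed_of_mem_range x hx) ?_ (Set.toFinite _)
    have e1 : Set.ncard {x : F | σ x = x} = q := by
      rw [← Nat.card_coe_set_eq]; exact hfix
    have e2 : Set.ncard ((tr σ).range : Set F) = q := by
      rw [← Nat.card_coe_set_eq]; exact hr
    rw [e1, e2]
  have : c ∈ ((tr σ).range : Set F) := by rw [hsub]; exact hc
  obtain ⟨b, hb⟩ := this
  exact ⟨b, hb⟩

theorem nonempty_heis_equiv (h : ∀ c : F, σ c = c → ∃ b : F, b + σ b = c) :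
    Nonempty (Heis σ ≃ F × {x : F // σ x = x}) := by
  have hfix : ∀ a : F, σ (a * σ a) = a * σ a := fun a => by rw [map_mul, sig, mul_comm]
  choose b hb using fun a : F => h (a * σ a) (hfix a)
  exact ⟨{
    toFun := fun x => (x.a, ⟨x.b + b x.a, by
      have h1 := x.h
      have h2 := hb x.a
      rw [map_add, ← CharTwo.add_eq_zero]
      linear_combination h1 + h2 + CharTwo.add_self_eq_zero (x.a * σ x.a)⟩)
    invFun := fun p => ⟨p.1, p.2.1 + b p.1, by
      have h1 := p.2.2
      have h2 := hb p.1
      rw [map_add, h1]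
      linear_combination h2 + CharTwo.add_self_eq_zero (p.2.1)⟩
    left_inv := fun x => by
      ext
      · rfl
      · simp [add_assoc, CharTwo.add_self_eq_zero]
    right_inv := fun p => by
      ext
      · rfl
      · simp [add_assoc, CharTwo.add_self_eq_zero] }⟩

theorem card_heis [Finite F] {q : ℕ} (hq : 1 < q) (hs : ∀ x, σ x = x ^ q)
    (hF : Nat.card F = q ^ 2) : Nat.card (Heis σ) = q ^ 3 := by
  obtain ⟨h1, h2⟩ := card_fixed (σ := σ) hq hs hF
  obtain ⟨e⟩ := nonempty_heis_equiv (σ := σ) h2
  rw [Nat.card_congr e, Nat.card_prod, h1, hF]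
  ring

instance instFiniteHeis [Finite F] : Finite (Heis σ) :=
  Finite.of_injective (fun x : Heis σ => (x.a, x.b)) (fun x y h => by
    ext
    · exact congrArg Prod.fst h
    · exact congrArg Prod.snd h)

/-- There is an element not fixed by `σ`. -/
theorem exists_not_fixed [Finite F] {q : ℕ} (hq : 1 < q) (hs : ∀ x, σ x = x ^ q)
    (hF : Nat.card F = q ^ 2) : ∃ c : F, σ c ≠ c := by
  by_contra hcon
  push Not at hcon
  have h1 := (card_fixed (σ := σ) hq hs hF).1
  have : Nat.card {x : F // σ x = x} = Nat.card F :=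
    Nat.card_congr (Equiv.subtypeUnivEquiv hcon)
  rw [h1, hF] at this
  nlinarith

/-- For every `a` there is `b` with `(a, b)` in the group. -/
theorem exists_heis_a [Finite F] {q : ℕ} (hq : 1 < q) (hs : ∀ x, σ x = x ^ q)
    (hF : Nat.card F = q ^ 2) (a : F) : ∃ x : Heis σ, x.a = a := by
  obtain ⟨b, hb⟩ := (card_fixed (σ := σ) hq hs hF).2 (a * σ a) (by rw [map_mul, sig, mul_comm])
  exact ⟨⟨a, b, hb⟩, rfl⟩

theorem mem_center_iff [Finite F] {q : ℕ} (hq : 1 < q) (hs : ∀ x, σ x = x ^ q)
    (hF : Nat.card F = q ^ 2) (x : Heis σ) : x ∈ Subgroup.center (Heis σ) ↔ x.a = 0 := by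
  rw [Subgroup.mem_center_iff]
  constructor
  · intro h
    obtain ⟨c, hc⟩ := exists_not_fixed (σ := σ) hq hs hF
    obtain ⟨y, hy⟩ := exists_heis_a (σ := σ) hq hs hF 1
    obtain ⟨z, hz⟩ := exists_heis_a (σ := σ) hq hs hF c
    have h1 := (commute_iff _ _).mp (h y)
    have h2 := (commute_iff _ _).mp (h z)
    rw [hy] at h1
    rw [hz] at h2
    simp only [map_one, one_mul, mul_one] at h1
    rw [h1] at h2
    by_contra hne
    apply hc
    have : x.a * (σ c - c) = 0 := by linear_combination -h2
    rcases mul_eq_zero.mp this with h3 | h3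
    · exact absurd h3 hne
    · exact sub_eq_zero.mp h3
  · intro h y
    rw [commute_iff, h]
    simp

theorem card_center [Finite F] {q : ℕ} (hq : 1 < q) (hs : ∀ x, σ x = x ^ q)
    (hF : Nat.card F = q ^ 2) : Nat.card (Subgroup.center (Heis σ)) = q := by
  rw [← (card_fixed (σ := σ) hq hs hF).1]
  refine Nat.card_congr
    { toFun := fun x => ⟨x.1.b, b_fixed_of_a_eq_zero ((mem_center_iff hq hs hF _).mp x.2)⟩
      invFun := fun y => ⟨zet y.1 y.2, (mem_center_iff hq hs hF _).mpr rfl⟩
      left_inv := fun x => by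
        apply Subtype.ext
        ext
        · exact ((mem_center_iff hq hs hF _).mp x.2).symm
        · rfl
      right_inv := fun y => by
        apply Subtype.ext
        rfl }

theorem isSuzukiTwoGroup_heis [Finite F] {n : ℕ} (hn : 2 ≤ n) (hs : ∀ x, σ x = x ^ (2 ^ n))
    (hF : Nat.card F = (2 ^ n) ^ 2) : Cfsg.IsSuzukiTwoGroup (Heis σ) := by
  have hq : 1 < 2 ^ n := Nat.one_lt_two_pow (by omega)
  have hq4 : 4 ≤ 2 ^ n := by
    calc 4 = 2 ^ 2 := rfl
      _ ≤ 2 ^ n := Nat.pow_le_pow_right (by norm_num) hn
  have hfix := card_fixed (σ := σ) hq hs hF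
  refine ⟨inferInstance, ?_, ?_, ?_, ?_⟩
  · have : Fact (Nat.Prime 2) := ⟨Nat.prime_two⟩
    refine IsPGroup.of_card (n := n * 3) ?_
    rw [card_heis hq hs hF, ← pow_mul]
  · obtain ⟨c, hc⟩ := exists_not_fixed (σ := σ) hq hs hF
    obtain ⟨y, hy⟩ := exists_heis_a (σ := σ) hq hs hF 1
    obtain ⟨z, hz⟩ := exists_heis_a (σ := σ) hq hs hF c
    refine ⟨y, z, fun h => hc ?_⟩
    have := (commute_iff _ _).mp h
    rw [hy, hz] at this
    simpa using this
  · -- a fixed element different from 0 and 1
    obtain ⟨c, hc0, hc1, hcf⟩ : ∃ c : F, c ≠ 0 ∧ c ≠ 1 ∧ σ c = c := by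
      classical
      by_contra hcon
      push Not at hcon
      have hsub : {x : F | σ x = x} ⊆ ({0, 1} : Set F) := by
        intro x hx
        by_cases h0 : x = 0
        · simp [h0]
        · by_cases h1 : x = 1
          · simp [h1]
          · exact absurd hx (hcon x h0 h1)
      have h2 : Set.ncard {x : F | σ x = x} ≤ 2 :=
        (Set.ncard_le_ncard hsub (Set.toFinite _)).trans
          ((Set.ncard_insert_le _ _).trans (by simp))
      have h3 : Set.ncard {x : F | σ x = x} = 2 ^ n := by
        rw [← Nat.card_coe_set_eq]; exact hfix.1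
      omega
    refine ⟨zet 1 (map_one σ), zet c hcf, ?_, ?_, ?_, ?_, ?_⟩
    · intro h
      exact hc1 (congrArg Heis.b h).symm
    · intro h
      exact one_ne_zero (congrArg Heis.b h)
    · rw [mul_self_eq_one_iff]; rfl
    · intro h
      exact hc0 (congrArg Heis.b h)
    · rw [mul_self_eq_one_iff]; rfl
  · refine ⟨(scaleHom σ).range, ?_, ?_⟩
    · exact isCyclic_of_surjective (scaleHom σ).rangeRestrict (scaleHom σ).rangeRestrict_surjective
    · intro x y hx1 hx2 hy1 hy2
      rw [mul_self_eq_one_iff] at hx2 hy2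
      have hxb : x.b ≠ 0 := fun h => hx1 (by ext <;> assumption)
      have hyb : y.b ≠ 0 := fun h => hy1 (by ext <;> assumption)
      have hxf := b_fixed_of_a_eq_zero hx2
      have hyf := b_fixed_of_a_eq_zero hy2
      have hring : ringChar F = 2 := ringChar.eq F 2 ▸ rfl
      obtain ⟨l, hl⟩ := FiniteField.isSquare_of_char_two hring (y.b / x.b)
      have hl0 : l ≠ 0 := by
        rintro rfl
        simp only [mul_zero] at hl
        exact (div_ne_zero hyb hxb) hl
      have hlf : σ l = l := by
        have h1 : σ l * σ l = l * l := by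
          rw [← map_mul, ← hl, map_div₀, hxf, hyf]
        have h2 : (σ l + l) * (σ l + l) = 0 := by
          linear_combination h1 + CharTwo.add_self_eq_zero (l * l + σ l * l)
        exact CharTwo.add_eq_zero.mp (mul_self_eq_zero.mp h2)
      let u : fixUnits σ := ⟨Units.mk0 l hl0, hlf⟩
      have hu : scaleHom σ u x = y := by
        ext
        · rw [scaleHom_apply_a, hx2, hy2, mul_zero]
        · rw [scaleHom_apply_b]
          show l ^ 2 * x.b = y.b
          rw [sq, ← hl]
          field_simp
      refine ⟨⟨scaleHom σ u, u, rfl⟩, hu, ?_⟩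
      rintro ⟨_, v, rfl⟩ hv
      apply Subtype.ext
      have hvb := congrArg Heis.b hv
      have hub := congrArg Heis.b hu
      rw [← hub] at hvb
      change (scaleHom σ v x).b = (scaleHom σ u x).b at hvb
      rw [scaleHom_apply_b, scaleHom_apply_b] at hvb
      have h3 := mul_right_cancel₀ hxb hvb
      have h4 : (((v : Fˣ) : F) + ((u : Fˣ) : F)) * (((v : Fˣ) : F) + ((u : Fˣ) : F)) = 0 := by
        linear_combination h3 + CharTwo.add_self_eq_zero
          (((u : Fˣ) : F) ^ 2 + ((v : Fˣ) : F) * ((u : Fˣ) : F))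
      have h5 := CharTwo.add_eq_zero.mp (mul_self_eq_zero.mp h4)
      have h6 : v = u := Subtype.ext (Units.ext h5)
      rw [h6]

end Cfsg.Agent.LieRecognition.HermHeis
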