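import Mathlib
import Cfsg.Prelude.Def_Classical
import Cfsg.Agent.LieRecognition.HermHeis
set_option linter.all false

set_option autoImplicit false

/-!
The Sylow 2-subgroups of `SU₃(2^n)` and `PSU₃(2^n)` are isomorphic to the group `Heis σ` of pairs.
-/

namespace Cfsg.Agent.LieRecognition.PSUThreeSylow

open Matrix Cfsg.Agent.LieRecognition.HermHeis

variable {F : Type*} [Field F]

/-- The antidiagonal matrix. -/
def Jm (F : Type*) [Field F] : Matrix (Fin 3) (Fin 3) F := !![0, 0, 1; 0, 1, 0; 1, 0, 0]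

theorem Jm_mul_Jm : Jm F * Jm F = 1 := by
  ext i j
  fin_cases i <;> fin_cases j <;> simp [Jm, Matrix.mul_apply, Fin.sum_univ_three]

theorem Jm_transpose : (Jm F)ᵀ = Jm F := by
  ext i j
  fin_cases i <;> fin_cases j <;> simp [Jm]

theorem Jm_map (σ : F →+* F) : (Jm F).map σ = Jm F := by
  ext i j
  fin_cases i <;> fin_cases j <;> simp [Jm]

/-- Determinant one matrices preserving the antidiagonal Hermitian form. -/
def SUJ (σ : F →+* F) : Subgroup (SpecialLinearGroup (Fin 3) F) where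
  carrier := {g | (g : Matrix (Fin 3) (Fin 3) F)ᵀ * Jm F * (g : Matrix (Fin 3) (Fin 3) F).map σ = Jm F}
  mul_mem' := by
    intro g h hg hh
    simp only [Set.mem_ofPred_eq] at *
    change (g.1 * h.1)ᵀ * Jm F * (g.1 * h.1).map σ = Jm F
    rw [Matrix.transpose_mul, Matrix.map_mul]
    calc _ = (h : Matrix (Fin 3) (Fin 3) F)ᵀ * ((g : Matrix (Fin 3) (Fin 3) F)ᵀ * Jm F *
          (g : Matrix (Fin 3) (Fin 3) F).map σ) * (h : Matrix (Fin 3) (Fin 3) F).map σ := by
            simp only [Matrix.mul_assoc]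
      _ = _ := by rw [hg, hh]
  one_mem' := by
    change (1 : Matrix (Fin 3) (Fin 3) F)ᵀ * Jm F * (1 : Matrix (Fin 3) (Fin 3) F).map σ = Jm F
    rw [Matrix.map_one σ (map_zero σ) (map_one σ), Matrix.mul_one, Matrix.transpose_one,
      Matrix.one_mul]
  inv_mem' := by
    intro g hg
    simp only [Set.mem_ofPred_eq] at *
    have h1 : (g : Matrix (Fin 3) (Fin 3) F) * ((g⁻¹ : SpecialLinearGroup (Fin 3) F) :
        Matrix (Fin 3) (Fin 3) F) = 1 := congrArg Subtype.val (mul_inv_cancel g)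
    generalize ((g⁻¹ : SpecialLinearGroup (Fin 3) F) : Matrix (Fin 3) (Fin 3) F) = B at *
    calc Bᵀ * Jm F * B.map σ = Bᵀ * ((g : Matrix (Fin 3) (Fin 3) F)ᵀ * Jm F *
          (g : Matrix (Fin 3) (Fin 3) F).map σ) * B.map σ := by rw [hg]
      _ = ((g : Matrix (Fin 3) (Fin 3) F) * B)ᵀ * Jm F * ((g : Matrix (Fin 3) (Fin 3) F) * B).map σ := by
            rw [Matrix.transpose_mul, Matrix.map_mul]
            simp only [Matrix.mul_assoc]
      _ = Jm F := by
            rw [h1, Matrix.transpose_one, Matrix.one_mul, Matrix.map_one σ (map_zero σ) (map_one σ),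
              Matrix.mul_one]

theorem mem_SUJ_iff (σ : F →+* F) (g : SpecialLinearGroup (Fin 3) F) :
    g ∈ SUJ σ ↔ (g : Matrix (Fin 3) (Fin 3) F)ᵀ * Jm F * (g : Matrix (Fin 3) (Fin 3) F).map σ =
      Jm F := Iff.rfl

/-- The entrywise form of membership. -/
theorem entry_of_mem_SUJ {σ : F →+* F} {g : SpecialLinearGroup (Fin 3) F} (hg : g ∈ SUJ σ)
    (i j : Fin 3) : g.1 0 i * σ (g.1 2 j) + g.1 1 i * σ (g.1 1 j) + g.1 2 i * σ (g.1 0 j) =
      Jm F i j := by
  have h := congrFun (congrFun ((mem_SUJ_iff σ g).mp hg) i) j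
  rw [← h]
  simp only [Matrix.mul_apply, Fin.sum_univ_three, Jm, Matrix.transpose_apply, Matrix.map_apply,
    Matrix.of_apply, Matrix.cons_val', Matrix.cons_val_zero, Matrix.cons_val_one,
    Matrix.cons_val_two, Matrix.empty_val', Matrix.cons_val_fin_one]
  simp
  ring

/-- Membership in `SU 3 F q` as a matrix equation. -/
theorem mem_SU_iff {σ : F →+* F} {q : ℕ} (hs : ∀ x, σ x = x ^ q)
    (g : SpecialLinearGroup (Fin 3) F) :
    g ∈ Cfsg.SU 3 F q ↔
      (g : Matrix (Fin 3) (Fin 3) F)ᵀ * (g : Matrix (Fin 3) (Fin 3) F).map σ = 1 := by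
  have hform : ∀ u v : Fin 3 → F, Cfsg.hermForm 3 F q u v = u ⬝ᵥ (fun i => σ (v i)) := by
    intro u v
    simp only [Cfsg.hermForm, dotProduct, hs]
  have hmv : ∀ v : Fin 3 → F, (fun i => σ (((g : Matrix (Fin 3) (Fin 3) F) *ᵥ v) i)) =
      (g : Matrix (Fin 3) (Fin 3) F).map σ *ᵥ (fun i => σ (v i)) := by
    intro v
    funext i
    simp [Matrix.mulVec, dotProduct, map_sum, map_mul]
  have key : ∀ u v : Fin 3 → F, Cfsg.hermForm 3 F q ((g : Matrix (Fin 3) (Fin 3) F) *ᵥ u)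
      ((g : Matrix (Fin 3) (Fin 3) F) *ᵥ v) = u ⬝ᵥ (((g : Matrix (Fin 3) (Fin 3) F)ᵀ *
        (g : Matrix (Fin 3) (Fin 3) F).map σ) *ᵥ (fun i => σ (v i))) := by
    intro u v
    rw [hform, hmv, ← Matrix.mulVec_mulVec, Matrix.dotProduct_mulVec u, Matrix.vecMul_transpose]
  constructor
  · intro h
    ext i j
    have h1 := h (Pi.single i 1) (Pi.single j 1)
    change Cfsg.hermForm 3 F q ((g : Matrix (Fin 3) (Fin 3) F) *ᵥ _)
      ((g : Matrix (Fin 3) (Fin 3) F) *ᵥ _) = _ at h1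
    rw [key, hform] at h1
    have h2 : (fun k => σ ((Pi.single j 1 : Fin 3 → F) k)) = Pi.single j 1 := by
      funext k
      by_cases hk : k = j
      · subst hk; simp
      · simp [hk]
    rw [h2] at h1
    simpa [Matrix.one_apply, Pi.single_apply, eq_comm] using h1
  · intro h u v
    change Cfsg.hermForm 3 F q ((g : Matrix (Fin 3) (Fin 3) F) *ᵥ _)
      ((g : Matrix (Fin 3) (Fin 3) F) *ᵥ _) = _
    rw [key, hform, h, Matrix.one_mulVec]

/-- Conjugation by an invertible matrix. -/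
def conjT {T T' : Matrix (Fin 3) (Fin 3) F} (h : T * T' = 1) :
    SpecialLinearGroup (Fin 3) F ≃* SpecialLinearGroup (Fin 3) F where
  toFun g := ⟨T * g.1 * T', by
    rw [Matrix.det_mul, Matrix.det_mul, g.2, mul_one, ← Matrix.det_mul, h, Matrix.det_one]⟩
  invFun g := ⟨T' * g.1 * T, by
    rw [Matrix.det_mul, Matrix.det_mul, g.2, mul_one, ← Matrix.det_mul, mul_eq_one_comm.mp h,
      Matrix.det_one]⟩
  left_inv g := by
    apply Subtype.ext
    change T' * (T * g.1 * T') * T = g.1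
    have h' := mul_eq_one_comm.mp h
    calc T' * (T * g.1 * T') * T = (T' * T) * g.1 * (T' * T) := by simp only [Matrix.mul_assoc]
      _ = g.1 := by rw [h', Matrix.one_mul, Matrix.mul_one]
  right_inv g := by
    apply Subtype.ext
    change T * (T' * g.1 * T) * T' = g.1
    calc T * (T' * g.1 * T) * T' = (T * T') * g.1 * (T * T') := by simp only [Matrix.mul_assoc]
      _ = g.1 := by rw [h, Matrix.one_mul, Matrix.mul_one]
  map_mul' g k := by
    apply Subtype.ext
    change T * (g.1 * k.1) * T' = (T * g.1 * T') * (T * k.1 * T')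
    have h' := mul_eq_one_comm.mp h
    calc T * (g.1 * k.1) * T' = T * g.1 * 1 * k.1 * T' := by simp only [Matrix.mul_assoc, Matrix.mul_one]
      _ = (T * g.1 * T') * (T * k.1 * T') := by rw [← h']; simp only [Matrix.mul_assoc]

theorem conjT_coe {T T' : Matrix (Fin 3) (Fin 3) F} (h : T * T' = 1)
    (g : SpecialLinearGroup (Fin 3) F) : (conjT h g).1 = T * g.1 * T' := rfl

variable [CharP F 2] {σ : F →+* F} [hσ : Fact (∀ x, σ (σ x) = x)]

omit [CharP F 2] in
theorem map_map_sig (M : Matrix (Fin 3) (Fin 3) F) : (M.map σ).map σ = M := by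
  ext i j
  simp [HermHeis.sig]

/-- A matrix taking the standard form to the antidiagonal form. -/
theorem exists_T {c : F} (hc : σ c ≠ c) :
    ∃ T T' : Matrix (Fin 3) (Fin 3) F, T * T' = 1 ∧ Tᵀ * T.map σ = Jm F := by
  have hc0 : c ≠ 0 := by rintro rfl; exact hc (map_zero σ)
  have hσc0 : σ c ≠ 0 := (map_ne_zero σ).mpr hc0
  obtain ⟨w, hw, hw1⟩ : ∃ w : F, w * σ w = 1 ∧ 1 + w ≠ 0 := by
    refine ⟨c / σ c, ?_, ?_⟩
    · rw [map_div₀, HermHeis.sig]; field_simp
    · intro h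
      rw [CharTwo.add_eq_zero] at h
      apply hc
      field_simp at h
      exact h
  set a := (1 + w)⁻¹ with ha
  have haw : a + w * a = 1 := by
    rw [ha]; field_simp
  have haw' : σ a + σ w * σ a = 1 := by
    rw [← map_mul, ← map_add, haw, map_one]
  let T : Matrix (Fin 3) (Fin 3) F := !![1, 0, a; 1, 0, w * a; 0, 1, 0]
  have hT : Tᵀ * T.map σ = Jm F := by
    have h2 : (1 : F) + 1 = 0 := CharTwo.add_self_eq_zero 1
    ext i j
    fin_cases i <;> fin_cases j <;>
      simp [T, Jm, Matrix.mul_apply, Fin.sum_univ_three, Matrix.transpose_apply, h2, haw, haw']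
    linear_combination a * σ a * hw + CharTwo.add_self_eq_zero (a * σ a)
  refine ⟨T, Jm F * (T.map σ)ᵀ, ?_, hT⟩
  have h1 : (Jm F * Tᵀ) * T.map σ = 1 := by
    rw [Matrix.mul_assoc, hT, Jm_mul_Jm]
  have h2 := congrArg (fun M : Matrix (Fin 3) (Fin 3) F => M.map σ) h1
  simp only [Matrix.map_mul, map_map_sig, Jm_map, Matrix.map_one σ (map_zero σ) (map_one σ)] at h2
  exact mul_eq_one_comm.mp h2

omit [CharP F 2] hσ in
theorem SU_eq_map {q : ℕ} (hs : ∀ x, σ x = x ^ q) {T T' : Matrix (Fin 3) (Fin 3) F}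
    (h : T * T' = 1) (hT : Tᵀ * T.map σ = Jm F) :
    (SUJ σ).map (conjT h).toMonoidHom = Cfsg.SU 3 F q := by
  ext g
  rw [mem_SU_iff hs]
  constructor
  · rintro ⟨k, hk, rfl⟩
    change (T * k.1 * T')ᵀ * (T * k.1 * T').map σ = 1
    have hk' := (mem_SUJ_iff σ k).mp hk
    simp only [Matrix.transpose_mul, Matrix.map_mul]
    calc T'ᵀ * (k.1ᵀ * Tᵀ) * (T.map σ * k.1.map σ * T'.map σ)
        = T'ᵀ * (k.1ᵀ * (Tᵀ * T.map σ) * k.1.map σ) * T'.map σ := by simp only [Matrix.mul_assoc]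
      _ = T'ᵀ * (Tᵀ * T.map σ) * T'.map σ := by rw [hT, hk']
      _ = (T * T')ᵀ * (T * T').map σ := by
          simp only [Matrix.transpose_mul, Matrix.map_mul, Matrix.mul_assoc]
      _ = 1 := by rw [h, Matrix.transpose_one, Matrix.one_mul,
          Matrix.map_one σ (map_zero σ) (map_one σ)]
  · intro hg
    refine ⟨(conjT h).symm g, ?_, (conjT h).apply_symm_apply g⟩
    change (T' * g.1 * T)ᵀ * Jm F * (T' * g.1 * T).map σ = Jm F
    have h' := mul_eq_one_comm.mp h
    simp only [Matrix.transpose_mul, Matrix.map_mul]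
    calc Tᵀ * (g.1ᵀ * T'ᵀ) * Jm F * (T'.map σ * g.1.map σ * T.map σ)
        = Tᵀ * (g.1ᵀ * (T'ᵀ * (Tᵀ * T.map σ) * T'.map σ) * g.1.map σ) * T.map σ := by
          rw [hT]; simp only [Matrix.mul_assoc]
      _ = Tᵀ * (g.1ᵀ * ((T * T')ᵀ * (T * T').map σ) * g.1.map σ) * T.map σ := by
          simp only [Matrix.transpose_mul, Matrix.map_mul, Matrix.mul_assoc]
      _ = Tᵀ * T.map σ := by
          rw [h, Matrix.transpose_one, Matrix.one_mul, Matrix.map_one σ (map_zero σ) (map_one σ),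
            Matrix.mul_one, hg, Matrix.mul_one]
      _ = Jm F := hT

/-- The unitriangular matrix of a pair. -/
def umat (x : Heis σ) : Matrix (Fin 3) (Fin 3) F := !![1, x.a, x.b; 0, 1, σ x.a; 0, 0, 1]

omit [CharP F 2] hσ in
theorem det_umat (x : Heis σ) : (umat x).det = 1 := by
  simp [umat, Matrix.det_fin_three]

theorem umat_mul (x y : Heis σ) : umat x * umat y = umat (x * y) := by
  ext i j
  fin_cases i <;> fin_cases j <;> simp [umat, Matrix.mul_apply, Fin.sum_univ_three] <;> ring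

theorem umat_mem (x : Heis σ) : (umat x)ᵀ * Jm F * (umat x).map σ = Jm F := by
  have h := x.h
  ext i j
  fin_cases i <;> fin_cases j <;>
    simp [umat, Jm, Matrix.mul_apply, Fin.sum_univ_three, HermHeis.sig, CharTwo.add_self_eq_zero]
  linear_combination h + CharTwo.add_self_eq_zero (x.a * σ x.a)

/-- The embedding of the group of pairs. -/
def emb (σ : F →+* F) [hσ : Fact (∀ x, σ (σ x) = x)] : Heis σ →* SUJ σ where
  toFun x := ⟨⟨umat x, det_umat x⟩, umat_mem x⟩
  map_one' := by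
    apply Subtype.ext
    apply Subtype.ext
    ext i j
    fin_cases i <;> fin_cases j <;> simp [umat]
  map_mul' := by
    intro x y
    apply Subtype.ext
    apply Subtype.ext
    exact (umat_mul x y).symm

theorem emb_val (x : Heis σ) : (emb σ x).1.1 = umat x := rfl

theorem emb_injective : Function.Injective (emb σ) := by
  intro x y h
  have h1 : umat x = umat y := congrArg (fun g : SUJ σ => g.1.1) h
  ext
  · simpa [umat] using congrFun (congrFun h1 0) 1
  · simpa [umat] using congrFun (congrFun h1 0) 2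

/-- An element with first column `(1, 0, 0)` is in the image of the embedding. -/
theorem mem_range_of_col {g : SUJ σ} (h0 : g.1.1 0 0 = 1) (h1 : g.1.1 1 0 = 0) (h2 : g.1.1 2 0 = 0) :
    g ∈ (emb σ).range := by
  have e := entry_of_mem_SUJ g.2
  have hdet : g.1.1.det = 1 := g.1.2
  have e01 := e 0 1
  have e02 := e 0 2
  have e12 := e 1 2
  have e22 := e 2 2
  simp [Jm, h0, h1, h2] at e01 e02
  have h22 : g.1.1 2 2 = 1 := by
    have := congrArg σ e02
    rwa [HermHeis.sig, map_one] at this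
  have h11 : g.1.1 1 1 = 1 := by
    rw [Matrix.det_fin_three] at hdet
    rw [h0, h1, h2, h22, e01] at hdet
    linear_combination hdet
  simp [Jm, h22, h11, e01] at e12 e22
  have h12 : σ (g.1.1 1 2) = g.1.1 0 1 := (CharTwo.add_eq_zero.mp e12).symm
  have h12' : g.1.1 1 2 = σ (g.1.1 0 1) := by rw [← h12, HermHeis.sig]
  rw [h12', HermHeis.sig] at e22
  refine ⟨⟨g.1.1 0 1, g.1.1 0 2, ?_⟩, ?_⟩
  · linear_combination e22 + CharTwo.add_self_eq_zero (-(g.1.1 0 1 * σ (g.1.1 0 1)))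
  · apply Subtype.ext
    apply Subtype.ext
    rw [emb_val]
    ext i j
    fin_cases i <;> fin_cases j <;> simp [umat, h0, h1, h2, h22, h11, e01, h12']

/-- Elements normalising the unitriangular subgroup fix the line of the first basis vector. -/
theorem col_of_mem_normalizer (hx : ∃ x : Heis σ, x.a ≠ 0) {g : SUJ σ}
    (hg : ∀ u ∈ (emb σ).range, g⁻¹ * u * g ∈ (emb σ).range) :
    g.1.1 1 0 = 0 ∧ g.1.1 2 0 = 0 := by
  obtain ⟨x, hx⟩ := hx
  obtain ⟨y, hy⟩ := hg (emb σ x) ⟨x, rfl⟩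
  have h : emb σ x * g = g * emb σ y := by rw [hy]; group
  have hm : umat x * g.1.1 = g.1.1 * umat y := congrArg (fun k : SUJ σ => k.1.1) h
  have c0 := congrFun (congrFun hm 0) 0
  have c1 := congrFun (congrFun hm 1) 0
  simp [umat, Matrix.mul_apply, Fin.sum_univ_three, hx] at c0 c1
  rw [c1] at c0
  simp [hx] at c0
  exact ⟨c0, c1⟩

/-- The top left entry of a power, for matrices with first column `(l, 0, 0)`. -/
theorem pow_col {M : Matrix (Fin 3) (Fin 3) F} (h1 : M 1 0 = 0) (h2 : M 2 0 = 0) (k : ℕ) :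
    (M ^ k) 0 0 = (M 0 0) ^ k ∧ (M ^ k) 1 0 = 0 ∧ (M ^ k) 2 0 = 0 := by
  induction k with
  | zero => simp
  | succ k ih =>
    obtain ⟨i0, i1, i2⟩ := ih
    rw [pow_succ]
    simp [Matrix.mul_apply, Fin.sum_univ_three, h1, h2, i0, i1, i2, pow_succ]

theorem eq_one_of_pow_two_pow {l : F} {k : ℕ} (h : l ^ 2 ^ k = 1) : l = 1 := by
  induction k with
  | zero => simpa using h
  | succ k ih =>
    rw [pow_succ, pow_mul] at h
    apply ih
    have : (l ^ 2 ^ k + 1) ^ 2 = 0 := by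
      rw [CharTwo.add_sq, h, one_pow, CharTwo.add_self_eq_zero]
    exact CharTwo.add_eq_zero.mp (pow_eq_zero_iff (two_ne_zero) |>.mp this)

theorem mem_range_of_normalizes (hx : ∃ x : Heis σ, x.a ≠ 0) {g : SUJ σ} {k : ℕ}
    (hk : g ^ 2 ^ k = 1) (hg : ∀ u ∈ (emb σ).range, g⁻¹ * u * g ∈ (emb σ).range) :
    g ∈ (emb σ).range := by
  obtain ⟨h1, h2⟩ := col_of_mem_normalizer hx hg
  have h3 := (pow_col h1 h2 (2 ^ k)).1
  have h4 : g.1.1 ^ 2 ^ k = 1 := by
    have := congrArg (fun k : SUJ σ => k.1.1) hk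
    simpa using this
  rw [h4] at h3
  have h5 : g.1.1 0 0 = 1 := eq_one_of_pow_two_pow (by rw [← h3]; simp)
  exact mem_range_of_col h5 h1 h2

/-- The unitriangular subgroup is a Sylow 2-subgroup. -/
theorem exists_sylow [Finite F] (hx : ∃ x : Heis σ, x.a ≠ 0) (h2 : IsPGroup 2 (Heis σ)) :
    ∃ P : Sylow 2 (SUJ σ), (P : Subgroup (SUJ σ)) = (emb σ).range := by
  have : Fact (Nat.Prime 2) := ⟨Nat.prime_two⟩
  have hU : IsPGroup 2 (emb σ).range := h2.of_surjective (emb σ).rangeRestrict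
    (emb σ).rangeRestrict_surjective
  obtain ⟨Q, hQ⟩ := hU.exists_le_sylow
  refine ⟨Q, le_antisymm ?_ hQ⟩
  by_contra hcon
  have hne : (emb σ).range.subgroupOf (Q : Subgroup (SUJ σ)) < ⊤ := by
    rw [lt_top_iff_ne_top, Ne, Subgroup.subgroupOf_eq_top]
    exact hcon
  have hnil : Group.IsNilpotent Q := Q.isPGroup'.isNilpotent
  have hlt := Group.normalizerCondition_of_isNilpotent _ hne
  obtain ⟨y, hy, hy2⟩ := SetLike.exists_of_lt hlt
  apply hy2
  rw [Subgroup.mem_subgroupOf]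
  obtain ⟨k, hk⟩ := Q.isPGroup' y
  refine mem_range_of_normalizes hx (k := k) ?_ ?_
  · have := congrArg (fun z : Q => (z : SUJ σ)) hk
    simpa using this
  · intro u hu
    rw [Subgroup.mem_normalizer_iff''] at hy
    have := (hy ⟨u, hQ hu⟩).mp (by rw [Subgroup.mem_subgroupOf]; exact hu)
    rw [Subgroup.mem_subgroupOf] at this
    simpa using this

/-- The antidiagonal element. -/
def wel (σ : F →+* F) : SUJ σ :=
  ⟨⟨Jm F, by
    rw [Jm, Matrix.det_fin_three]
    simp
    exact (CharTwo.neg_eq 1)⟩, by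
    change (Jm F)ᵀ * Jm F * (Jm F).map σ = Jm F
    rw [Jm_transpose, Jm_map, Jm_mul_Jm, Matrix.one_mul]⟩

/-- The unitriangular subgroup meets the centre trivially. -/
theorem eq_one_of_mem_center {x : Heis σ} (hx : emb σ x ∈ Subgroup.center (SUJ σ)) : x = 1 := by
  have h := (Subgroup.mem_center_iff.mp hx) (wel σ)
  have hm : Jm F * umat x = umat x * Jm F := congrArg (fun k : SUJ σ => k.1.1) h
  have c0 := congrFun (congrFun hm 0) 1
  have c1 := congrFun (congrFun hm 0) 0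
  simp [Jm, umat, Matrix.mul_apply, Fin.sum_univ_three] at c0 c1
  ext
  · exact c0.symm
  · exact c1.symm

/-- Sylow subgroups of a quotient whose kernel meets a Sylow subgroup trivially. -/
theorem nonempty_equiv_of_surjective {A B : Type*} [Group A] [Group B] [Finite A] (p : ℕ)
    [Fact p.Prime] (f : A →* B) (hf : Function.Surjective f) (P : Sylow p A)
    (hP : ∀ x ∈ P, f x = 1 → x = 1) (S : Sylow p B) : Nonempty (P ≃* S) := by
  have : Finite B := Finite.of_surjective f hf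
  have hinj : Function.Injective (f.comp (P : Subgroup A).subtype) := by
    rw [injective_iff_map_eq_one]
    intro x hx
    exact Subtype.ext (hP x x.2 hx)
  have hr : (f.comp (P : Subgroup A).subtype).range = (P.mapSurjective hf : Subgroup B) := by
    rw [MonoidHom.range_comp, Subgroup.range_subtype]
    rfl
  exact ⟨((MonoidHom.ofInjective hinj).trans (MulEquiv.subgroupCongr hr)).trans
    ((P.mapSurjective hf).equiv S)⟩

/-- The Sylow 2-subgroups of `SU₃(2^n)`. -/
theorem nonempty_sylow_SU_equiv [Finite F] {n : ℕ} (hn : 1 ≤ n) (hs : ∀ x, σ x = x ^ (2 ^ n))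
    (hF : Nat.card F = (2 ^ n) ^ 2) (S : Sylow 2 (Cfsg.SU 3 F (2 ^ n))) :
    Nonempty (Heis σ ≃* S) := by
  have : Fact (Nat.Prime 2) := ⟨Nat.prime_two⟩
  have hq : 1 < 2 ^ n := Nat.one_lt_two_pow (by omega)
  have h2 : IsPGroup 2 (Heis σ) :=
    IsPGroup.of_card (n := n * 3) (by rw [HermHeis.card_heis hq hs hF, ← pow_mul])
  obtain ⟨x, hx⟩ := HermHeis.exists_heis_a (σ := σ) hq hs hF 1
  obtain ⟨P, hP⟩ := exists_sylow ⟨x, by rw [hx]; exact one_ne_zero⟩ h2
  obtain ⟨c, hc⟩ := HermHeis.exists_not_fixed (σ := σ) hq hs hF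
  obtain ⟨T, T', hTT', hT⟩ := exists_T hc
  let e : SUJ σ ≃* Cfsg.SU 3 F (2 ^ n) :=
    ((conjT hTT').subgroupMap (SUJ σ)).trans (MulEquiv.subgroupCongr (SU_eq_map hs hTT' hT))
  obtain ⟨e'⟩ := nonempty_equiv_of_surjective 2 e.toMonoidHom e.surjective P
    (fun x _ hx => e.injective (hx.trans (map_one e).symm)) S
  exact ⟨((MonoidHom.ofInjective emb_injective).trans (MulEquiv.subgroupCongr hP.symm)).trans e'⟩

/-- The Sylow 2-subgroups of `PSU₃(2^n)`. -/
theorem nonempty_sylow_PSU_equiv [Finite F] {n : ℕ} (hn : 1 ≤ n) (hs : ∀ x, σ x = x ^ (2 ^ n))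
    (hF : Nat.card F = (2 ^ n) ^ 2) (S : Sylow 2 (Cfsg.PSU 3 F (2 ^ n))) :
    Nonempty (Heis σ ≃* S) := by
  have : Fact (Nat.Prime 2) := ⟨Nat.prime_two⟩
  have hq : 1 < 2 ^ n := Nat.one_lt_two_pow (by omega)
  have h2 : IsPGroup 2 (Heis σ) :=
    IsPGroup.of_card (n := n * 3) (by rw [HermHeis.card_heis hq hs hF, ← pow_mul])
  obtain ⟨x, hx⟩ := HermHeis.exists_heis_a (σ := σ) hq hs hF 1
  obtain ⟨P, hP⟩ := exists_sylow ⟨x, by rw [hx]; exact one_ne_zero⟩ h2
  obtain ⟨c, hc⟩ := HermHeis.exists_not_fixed (σ := σ) hq hs hF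
  obtain ⟨T, T', hTT', hT⟩ := exists_T hc
  let e : SUJ σ ≃* Cfsg.SU 3 F (2 ^ n) :=
    ((conjT hTT').subgroupMap (SUJ σ)).trans (MulEquiv.subgroupCongr (SU_eq_map hs hTT' hT))
  let f : SUJ σ →* Cfsg.PSU 3 F (2 ^ n) :=
    (QuotientGroup.mk' (Subgroup.center (Cfsg.SU 3 F (2 ^ n)))).comp e.toMonoidHom
  have hf : Function.Surjective f :=
    (QuotientGroup.mk'_surjective _).comp e.surjective
  obtain ⟨e'⟩ := nonempty_equiv_of_surjective 2 f hf P (by
    intro g hg hfg
    have hg' : g ∈ (emb σ).range := by rw [← hP]; exact hg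
    obtain ⟨y, rfl⟩ := hg'
    have h1 : e (emb σ y) ∈ Subgroup.center (Cfsg.SU 3 F (2 ^ n)) := by
      rw [← QuotientGroup.eq_one_iff]
      exact hfg
    have h3 : emb σ y ∈ Subgroup.center (SUJ σ) := by
      rw [Subgroup.mem_center_iff] at h1 ⊢
      intro g
      apply e.injective
      rw [map_mul, map_mul]
      exact h1 (e g)
    rw [eq_one_of_mem_center h3, map_one]) S
  exact ⟨((MonoidHom.ofInjective emb_injective).trans (MulEquiv.subgroupCongr hP.symm)).trans e'⟩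

omit [CharP F 2] in
/-- A field with `(2^n)^2` elements has characteristic two. -/
theorem charP_two_of_card [Finite F] {n : ℕ} (hF : Nat.card F = (2 ^ n) ^ 2) : CharP F 2 := by
  let _ : Fintype F := Fintype.ofFinite F
  rw [Nat.card_eq_fintype_card] at hF
  obtain ⟨p, hp⟩ := CharP.exists F
  have hpp : p.Prime := (CharP.char_is_prime_or_zero F p).resolve_right
    (CharP.char_ne_zero_of_finite F p)
  obtain ⟨m, _, hm⟩ := FiniteField.card F p
  rw [hF, ← pow_mul] at hm
  have h1 : p ∣ 2 ^ (n * 2) := by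
    rw [hm]
    exact dvd_pow_self p m.ne_zero
  have h2 := (Nat.prime_dvd_prime_iff_eq hpp Nat.prime_two).mp (hpp.dvd_of_dvd_pow h1)
  rwa [h2] at hp

/-- All the data at once: for a field with `(2^n)^2` elements there is the involutory automorphism
`x ↦ x^(2^n)` and all Sylow 2-subgroups of `PSU₃(2^n)` are isomorphic to `Heis σ`. -/
theorem exists_heis_equiv (F : Type*) [Field F] [Finite F] {n : ℕ} (hn : 1 ≤ n)
    (hF : Nat.card F = (2 ^ n) ^ 2) :
    ∃ (_ : CharP F 2) (σ : F →+* F) (_ : Fact (∀ x, σ (σ x) = x)), (∀ x, σ x = x ^ (2 ^ n)) ∧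
      (∀ S : Sylow 2 (Cfsg.SU 3 F (2 ^ n)), Nonempty (Heis σ ≃* S)) ∧
      ∀ S : Sylow 2 (Cfsg.PSU 3 F (2 ^ n)), Nonempty (Heis σ ≃* S) := by
  have h2 : CharP F 2 := charP_two_of_card hF
  have : Fact (Nat.Prime 2) := ⟨Nat.prime_two⟩
  have hs : ∀ x, iterateFrobenius F 2 n x = x ^ (2 ^ n) := fun x => iterateFrobenius_def 2 n x
  have hinv : Fact (∀ x, iterateFrobenius F 2 n (iterateFrobenius F 2 n x) = x) := ⟨fun x => by
    let _ : Fintype F := Fintype.ofFinite F
    rw [hs, hs, ← pow_mul, ← sq, ← hF, Nat.card_eq_fintype_card, FiniteField.pow_card]⟩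
  exact ⟨h2, iterateFrobenius F 2 n, hinv, hs, fun S => nonempty_sylow_SU_equiv hn hs hF S,
    fun S => nonempty_sylow_PSU_equiv hn hs hF S⟩

end Cfsg.Agent.LieRecognition.PSUThreeSylow
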