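import Mathlib
import Cfsg.Agent.Lib.SL2Hom
set_option linter.all false

/-!
# Groups with the Bruhat normal form of the small Ree groups: involution centraliser

`Data m U h n` collects, for a group `G`, the relations of `²G₂(q)`, `q = 3^(2m+1)`, in Bruhat normal form.
-/

set_option autoImplicit false

namespace Cfsg.Agent.LieRecognition.ReeAbs

open Cfsg.Agent.Lib

variable {K : Type*} [Field K] {G : Type*} [Group G]

/-- Relations and normal form of `²G₂(q)`, `q = 3^(2m+1)`. -/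
structure Data (m : ℕ) (U : K → K → K → G) (h : Kˣ → G) (n : G) : Prop where
  U_mul : ∀ t u v t' u' v', U t u v * U t' u' v' =
    U (t + t') (u + u' - t * t' ^ (3 ^ (m + 1)))
      (v + v' - u * t' - t ^ 2 * t' ^ (3 ^ (m + 1)) + t * t' * t' ^ (3 ^ (m + 1)))
  h_mul : ∀ a b, h (a * b) = h a * h b
  h_U : ∀ (a : Kˣ) (t u v : K), h a * U t u v =
    U ((a : K) ^ (3 ^ (m + 1)) * t) ((a : K) ^ (3 ^ (m + 1) + 3) * u)
      ((a : K) ^ (2 * 3 ^ (m + 1) + 3) * v) * h a
  n_h : ∀ a, n * h a = h a⁻¹ * n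
  n_n : n * n = 1
  n_U : n * U 0 1 0 * n = U 0 (-1) 0 * n * U 0 (-1) 0
  bruhat : ∀ g, (∃ t u v a, g = U t u v * h a) ∨
    (∃ t u v a t' u' v', g = U t u v * h a * n * U t' u' v')
  inj₁ : ∀ t u v a t' u' v' a', U t u v * h a = U t' u' v' * h a' →
    t = t' ∧ u = u' ∧ v = v' ∧ a = a'
  ne : ∀ t u v a t' u' v' a' t'' u'' v'', U t u v * h a ≠ U t' u' v' * h a' * n * U t'' u'' v''
  inj₂ : ∀ t u v a t' u' v' t₁ u₁ v₁ a₁ t₁' u₁' v₁',
    U t u v * h a * n * U t' u' v' = U t₁ u₁ v₁ * h a₁ * n * U t₁' u₁' v₁' →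
    t = t₁ ∧ u = u₁ ∧ v = v₁ ∧ a = a₁ ∧ t' = t₁' ∧ u' = u₁' ∧ v' = v₁'

/-! ### Field facts -/

section field

variable {m : ℕ}

/-- the torus parameter `k ↦ k^(1-θ)`, `θ = 3^m` -/
def f (m : ℕ) (k : Kˣ) : Kˣ := k * (k ^ (3 ^ m))⁻¹

theorem f_mul (k l : Kˣ) : f m (k * l) = f m k * f m l := by
  simp only [f, mul_pow, mul_inv]
  exact mul_mul_mul_comm k l _ _

theorem f_one : f m (1 : Kˣ) = 1 := by simp [f]

theorem f_inv (k : Kˣ) : f m k⁻¹ = (f m k)⁻¹ := by
  have := f_mul (m := m) k⁻¹ k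
  rw [inv_mul_cancel, f_one] at this
  exact eq_inv_of_mul_eq_one_left this.symm

theorem odd_three_pow (k : ℕ) : Odd (3 ^ k) := Odd.pow (by decide)

theorem f_neg_one : f m (-1 : Kˣ) = 1 := by
  simp [f, (odd_three_pow m).neg_one_pow]

variable [Fintype K]

theorem charP_three (hK : Fintype.card K = 3 ^ (2 * m + 1)) : CharP K 3 := by
  obtain ⟨n, hp, hn⟩ := FiniteField.card K (ringChar K)
  have h3 : ringChar K = 3 := by
    have h1 : ringChar K ∣ 3 ^ (2 * m + 1) := by
      rw [← hK, hn]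
      exact dvd_pow_self _ n.pos.ne'
    exact (Nat.prime_dvd_prime_iff_eq hp Nat.prime_three).mp (hp.dvd_of_dvd_pow h1)
  rw [← h3]
  infer_instance

theorem ringChar_ne_two (hK : Fintype.card K = 3 ^ (2 * m + 1)) : ringChar K ≠ 2 := by
  have := charP_three hK
  rw [ringChar.eq K 3]
  decide

theorem three_pow_odd_mod (m : ℕ) : 3 ^ (2 * m + 1) % 8 = 3 := by
  induction m with
  | zero => rfl
  | succ m ih =>
    rw [show 2 * (m + 1) + 1 = (2 * m + 1) + 2 by ring, pow_add, Nat.mul_mod, ih]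
    norm_num

omit [Field K] in
theorem card_mod_four (hK : Fintype.card K = 3 ^ (2 * m + 1)) : Fintype.card K % 4 = 3 := by
  have := three_pow_odd_mod m
  omega

theorem not_isSquare_neg_one (hK : Fintype.card K = 3 ^ (2 * m + 1)) : ¬ IsSquare (-1 : K) := by
  rw [FiniteField.isSquare_neg_one_iff, card_mod_four hK]
  simp

theorem neg_one_ne_one (hK : Fintype.card K = 3 ^ (2 * m + 1)) : (-1 : K) ≠ 1 := by
  intro h
  exact not_isSquare_neg_one hK ⟨1, by rw [h, mul_one]⟩

theorem exists_sq_or_neg (hK : Fintype.card K = 3 ^ (2 * m + 1)) (a : Kˣ) :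
    ∃ b : Kˣ, a = b * b ∨ a = -(b * b) := by
  have h2 := ringChar_ne_two hK
  have hodd : Odd (Fintype.card K / 2) := by
    have := card_mod_four hK
    rw [Nat.odd_iff]
    omega
  rcases FiniteField.pow_dichotomy h2 a.ne_zero with h | h
  · obtain ⟨b, hb⟩ := (FiniteField.isSquare_iff h2 a.ne_zero).mpr h
    have hb0 : b ≠ 0 := by
      rintro rfl
      exact a.ne_zero (by rw [hb, mul_zero])
    exact ⟨Units.mk0 b hb0, Or.inl (Units.ext hb)⟩
  · have hna : -(a : K) ≠ 0 := neg_ne_zero.mpr a.ne_zero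
    have h' : (-(a : K)) ^ (Fintype.card K / 2) = 1 := by
      rw [neg_pow, h, hodd.neg_one_pow]
      ring
    obtain ⟨b, hb⟩ := (FiniteField.isSquare_iff h2 hna).mpr h'
    have hb0 : b ≠ 0 := by
      rintro rfl
      exact hna (by rw [hb, mul_zero])
    refine ⟨Units.mk0 b hb0, Or.inr (Units.ext ?_)⟩
    rw [Units.val_neg, Units.val_mul, Units.val_mk0, ← hb, neg_neg]

theorem units_pow_card (hK : Fintype.card K = 3 ^ (2 * m + 1)) (a : Kˣ) :
    a ^ (3 ^ (2 * m + 1)) = a := by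
  apply Units.ext
  rw [Units.val_pow_eq_pow_val, ← hK, FiniteField.pow_card]

theorem eq_one_of_pow_three (hK : Fintype.card K = 3 ^ (2 * m + 1)) (k : ℕ) (a : Kˣ)
    (h : a ^ (3 ^ k) = 1) : a = 1 := by
  have := charP_three hK
  apply Units.ext
  have h1 : ((a : K) - 1) ^ 3 ^ k = 0 := by
    rw [sub_pow_char_pow, one_pow, ← Units.val_pow_eq_pow_val, h, Units.val_one, sub_self]
  rw [Units.val_one]
  exact sub_eq_zero.mp (eq_zero_of_pow_eq_zero h1)

theorem f_pow (hK : Fintype.card K = 3 ^ (2 * m + 1)) (k : Kˣ) :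
    (f m k) ^ (3 ^ (m + 1) + 3) = k ^ 2 := by
  have h1 : k ^ (3 ^ (2 * m + 1)) = k := units_pow_card hK k
  have h2 : (k ^ 3 ^ m) ^ (3 ^ (m + 1) + 3) = k * k ^ (3 ^ (m + 1)) := by
    rw [← pow_mul, mul_add, ← pow_add, show m + (m + 1) = 2 * m + 1 by ring, pow_add, h1]
    congr 2
  rw [f, mul_pow, inv_pow, h2, pow_add]
  rw [mul_inv_eq_iff_eq_mul]
  rw [show (3 : ℕ) = 2 + 1 from rfl, pow_add k 2 1, pow_one]
  rw [mul_comm (k ^ (2 + 1) ^ (m + 1)) _, mul_assoc]

theorem f_ne_neg_one (hK : Fintype.card K = 3 ^ (2 * m + 1)) (k : Kˣ) : f m k ≠ -1 := by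
  intro h
  obtain ⟨j, hj⟩ := odd_three_pow m
  have h1 : (-1 : Kˣ) = (k ^ j)⁻¹ * (k ^ j)⁻¹ := by
    rw [← h, f, hj, pow_succ, mul_inv, ← mul_assoc, mul_comm k _, mul_assoc, two_mul, pow_add,
      mul_inv]
    rw [mul_comm k, inv_mul_cancel, mul_one]
  apply not_isSquare_neg_one hK
  refine ⟨(((k ^ j)⁻¹ : Kˣ) : K), ?_⟩
  rw [← Units.val_mul, ← h1, Units.val_neg, Units.val_one]

/-- every unit is `± f k` -/
theorem exists_f (hK : Fintype.card K = 3 ^ (2 * m + 1)) (a : Kˣ) :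
    ∃ k : Kˣ, a = f m k ∨ a = -f m k := by
  obtain ⟨b, hb⟩ := exists_sq_or_neg hK a
  have key : f m (b ^ (3 ^ (m + 1) + 3)) = b * b := by
    have : ∀ j : ℕ, f m (b ^ j) = (f m b) ^ j := by
      intro j
      induction j with
      | zero => simp [f_one]
      | succ j ih => rw [pow_succ, f_mul, ih, pow_succ]
    rw [this, f_pow hK, pow_two]
  exact ⟨b ^ (3 ^ (m + 1) + 3), by rw [key]; exact hb⟩

end field

/-! ### Consequences of the relations -/

namespace Data

variable {m : ℕ} {U : K → K → K → G} {h : Kˣ → G} {n : G} (D : Data m U h n)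

include D

theorem h_one : h 1 = 1 := by
  have := D.h_mul 1 1
  rw [mul_one] at this
  exact left_eq_mul.mp this

theorem U_zero : U 0 0 0 = 1 := by
  have := D.U_mul 0 0 0 0 0 0
  have h0 : (0 : K) ^ (3 ^ (m + 1)) = 0 := zero_pow (by positivity)
  simp only [h0, add_zero, mul_zero, sub_zero] at this
  exact left_eq_mul.mp this.symm

theorem h_inv (a : Kˣ) : h a⁻¹ = (h a)⁻¹ := by
  have := D.h_mul a⁻¹ a
  rw [inv_mul_cancel, D.h_one] at this
  exact eq_inv_of_mul_eq_one_left this.symm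

theorem U_add (s t : K) : U 0 (s + t) 0 = U 0 s 0 * U 0 t 0 := by
  rw [D.U_mul]
  have h0 : (0 : K) ^ (3 ^ (m + 1)) = 0 := zero_pow (by positivity)
  simp [h0]

theorem U_neg (s : K) : U 0 (-s) 0 = (U 0 s 0)⁻¹ := by
  rw [eq_inv_iff_mul_eq_one, ← D.U_add, neg_add_cancel, D.U_zero]

theorem n_inv : n⁻¹ = n := by
  rw [inv_eq_iff_mul_eq_one]
  exact D.n_n

theorem n_h' (a : Kˣ) : h a * n = n * h a⁻¹ := by
  rw [D.n_h, inv_inv]

theorem h_comm (a b : Kˣ) : h a * h b = h b * h a := by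
  rw [← D.h_mul, ← D.h_mul, mul_comm]

theorem h_U0 (a : Kˣ) (t : K) : h a * U 0 t 0 = U 0 ((a : K) ^ (3 ^ (m + 1) + 3) * t) 0 * h a := by
  rw [D.h_U]
  simp

/-- the involution commutes with everything of the right shape -/
theorem inv_mul_U (t u v : K) : h (-1) * U t u v = U (-t) u (-v) * h (-1) := by
  rw [D.h_U]
  have h1 : (((-1 : Kˣ) : K)) ^ (3 ^ (m + 1)) = -1 := by
    rw [Units.val_neg, Units.val_one, (odd_three_pow _).neg_one_pow]
  have h2 : (((-1 : Kˣ) : K)) ^ (3 ^ (m + 1) + 3) = 1 := by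
    rw [pow_add, h1, Units.val_neg, Units.val_one]
    ring
  have h3 : (((-1 : Kˣ) : K)) ^ (2 * 3 ^ (m + 1) + 3) = -1 := by
    rw [pow_add, mul_comm 2, pow_mul, h1, Units.val_neg, Units.val_one]
    ring
  rw [h1, h2, h3]
  simp

theorem inv_mul_n : h (-1) * n = n * h (-1) := by
  rw [D.n_h', inv_neg, inv_one]

theorem inv_sq : h (-1) * h (-1) = 1 := by
  rw [← D.h_mul]
  simp [D.h_one]

variable [Fintype K]

theorem inv_ne_one (hK : Fintype.card K = 3 ^ (2 * m + 1)) : h (-1) ≠ 1 := by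
  intro he
  have h1 : U 0 0 0 * h (-1) = U 0 0 0 * h 1 := by rw [he, D.h_one]
  have h2 := (D.inj₁ _ _ _ _ _ _ _ _ h1).2.2.2
  have h3 : (-1 : K) = 1 := by
    have := congrArg Units.val h2
    simpa using this
  exact neg_one_ne_one hK h3

theorem neg_eq_self (hK : Fintype.card K = 3 ^ (2 * m + 1)) {t : K} (ht : -t = t) : t = 0 := by
  by_contra h0
  apply neg_one_ne_one hK
  have : (-1 : K) * t = 1 * t := by rw [neg_one_mul, one_mul, ht]
  exact mul_right_cancel₀ h0 this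

/-- the centraliser of the involution in normal form -/
theorem mem_centralizer (hK : Fintype.card K = 3 ^ (2 * m + 1)) {g : G} (hg : h (-1) * g = g * h (-1)) :
    (∃ u a, g = U 0 u 0 * h a) ∨ (∃ u a u', g = U 0 u 0 * h a * n * U 0 u' 0) := by
  rcases D.bruhat g with ⟨t, u, v, a, rfl⟩ | ⟨t, u, v, a, t', u', v', rfl⟩
  · left
    rw [← mul_assoc, D.inv_mul_U, mul_assoc, D.h_comm, ← mul_assoc] at hg
    have hg' := mul_right_cancel hg
    obtain ⟨ht, -, hv, -⟩ := D.inj₁ _ _ _ _ _ _ _ _ hg'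
    have ht0 := D.neg_eq_self hK ht
    have hv0 := D.neg_eq_self hK hv
    subst ht0 hv0
    exact ⟨u, a, rfl⟩
  · right
    have e1 : h (-1) * (U t u v * h a * n * U t' u' v') =
        U (-t) u (-v) * h a * n * U (-t') u' (-v') * h (-1) := by
      calc h (-1) * (U t u v * h a * n * U t' u' v')
          = (h (-1) * U t u v) * h a * n * U t' u' v' := by simp only [mul_assoc]
        _ = U (-t) u (-v) * (h (-1) * h a) * n * U t' u' v' := by
            rw [D.inv_mul_U]; simp only [mul_assoc]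
        _ = U (-t) u (-v) * h a * (h (-1) * n) * U t' u' v' := by
            rw [D.h_comm]; simp only [mul_assoc]
        _ = U (-t) u (-v) * h a * n * (h (-1) * U t' u' v') := by
            rw [D.inv_mul_n]; simp only [mul_assoc]
        _ = U (-t) u (-v) * h a * n * U (-t') u' (-v') * h (-1) := by
            rw [D.inv_mul_U]; simp only [mul_assoc]
    rw [e1] at hg
    have hg' := mul_right_cancel hg
    obtain ⟨ht, -, hv, -, ht', -, hv'⟩ := D.inj₂ _ _ _ _ _ _ _ _ _ _ _ _ _ _ hg'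
    have ht0 := D.neg_eq_self hK ht
    have hv0 := D.neg_eq_self hK hv
    have ht0' := D.neg_eq_self hK ht'
    have hv0' := D.neg_eq_self hK hv'
    subst ht0 hv0 ht0' hv0'
    exact ⟨u, a, u', rfl⟩

/-- the torus map on the field (value `1` at `0`) -/
noncomputable def hf (m : ℕ) (h : Kˣ → G) (k : K) : G := by
  classical
  exact if hk : k ≠ 0 then h (f m (Units.mk0 k hk)) else 1

omit D [Fintype K] in
theorem hf_of_ne {k : K} (hk : k ≠ 0) : hf m h k = h (f m (Units.mk0 k hk)) := by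
  rw [hf, dif_pos hk]

theorem n_U_neg : n * U 0 (-1) 0 * n = U 0 1 0 * n * U 0 1 0 := by
  have h1 := congrArg (fun x => x⁻¹) D.n_U
  simp only [mul_inv_rev, D.n_inv, ← D.U_neg, neg_neg] at h1
  rw [mul_assoc, h1, mul_assoc]

/-- `SL₂(K)` maps to the centraliser of the involution. -/
theorem rel (hK : Fintype.card K = 3 ^ (2 * m + 1)) : SL2Hom.Rel (fun t => U 0 t 0) (hf m h) n where
  add s t := D.U_add s t
  mul a b ha hb := by
    rw [hf_of_ne ha, hf_of_ne hb, hf_of_ne (mul_ne_zero ha hb), ← D.h_mul, ← f_mul]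
    congr 2
    ext
    rfl
  hx a t ha := by
    rw [hf_of_ne ha, D.h_U0, ← Units.val_pow_eq_pow_val, f_pow hK]
    rfl
  wh a ha := by
    rw [hf_of_ne ha, hf_of_ne (inv_ne_zero ha), D.n_h, ← f_inv]
    congr 3
    ext
    rfl
  ww := by
    rw [hf_of_ne (neg_ne_zero.mpr one_ne_zero), D.n_n,
      show Units.mk0 (-1 : K) (neg_ne_zero.mpr one_ne_zero) = -1 by ext; rfl, f_neg_one, D.h_one]
  rel t ht := by
    have key : ∀ (ε b : Kˣ), n * U 0 (ε : K) 0 * n =
        U 0 (-((ε⁻¹ : Kˣ) : K)) 0 * n * h (f m (-ε)) * U 0 (-((ε⁻¹ : Kˣ) : K)) 0 →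
        n * U 0 ((ε * (b * b) : Kˣ) : K) 0 * n =
        U 0 (-(((ε * (b * b))⁻¹ : Kˣ) : K)) 0 * n * h (f m (-(ε * (b * b)))) *
          U 0 (-(((ε * (b * b))⁻¹ : Kˣ) : K)) 0 := by
      intro ε b hε
      have h1 : U 0 ((ε * (b * b) : Kˣ) : K) 0 = h (f m b) * U 0 (ε : K) 0 * (h (f m b))⁻¹ := by
        rw [eq_mul_inv_iff_mul_eq, D.h_U0, ← Units.val_pow_eq_pow_val, f_pow hK, pow_two,
          ← Units.val_mul, mul_comm ε]
      have h2 : U 0 (-(((ε * (b * b))⁻¹ : Kˣ) : K)) 0 =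
          h (f m b⁻¹) * U 0 (-((ε⁻¹ : Kˣ) : K)) 0 * (h (f m b⁻¹))⁻¹ := by
        rw [eq_mul_inv_iff_mul_eq, D.h_U0, ← Units.val_pow_eq_pow_val, f_pow hK, pow_two,
          ← Units.val_neg, ← Units.val_neg, ← Units.val_mul]
        congr 3
        rw [mul_inv, mul_inv, mul_neg, mul_comm]
      have h3 : h (f m (-(ε * (b * b)))) = h (f m b) * h (f m (-ε)) * h (f m b) := by
        rw [← D.h_mul, ← D.h_mul, ← f_mul, ← f_mul]
        congr 2
        rw [neg_mul_eq_neg_mul, ← mul_assoc, mul_comm (-ε) b]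
      have h4 : n * h (f m b) = h (f m b⁻¹) * n := by rw [D.n_h, f_inv]
      have h5 : (h (f m b))⁻¹ * n = n * (h (f m b⁻¹))⁻¹ := by
        rw [← D.h_inv, ← D.h_inv, D.n_h', f_inv]
      have h6 : (h (f m b⁻¹))⁻¹ = h (f m b) := by rw [← D.h_inv, ← f_inv, inv_inv]
      calc n * U 0 ((ε * (b * b) : Kˣ) : K) 0 * n
          = (n * h (f m b)) * U 0 (ε : K) 0 * ((h (f m b))⁻¹ * n) := by
            rw [h1]; simp only [mul_assoc]
        _ = h (f m b⁻¹) * (n * U 0 (ε : K) 0 * n) * (h (f m b⁻¹))⁻¹ := by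
            rw [h4, h5]; simp only [mul_assoc]
        _ = h (f m b⁻¹) * U 0 (-((ε⁻¹ : Kˣ) : K)) 0 * (n * h (f m (-ε))) *
              U 0 (-((ε⁻¹ : Kˣ) : K)) 0 * (h (f m b⁻¹))⁻¹ := by
            rw [hε]; simp only [mul_assoc]
        _ = (h (f m b⁻¹) * U 0 (-((ε⁻¹ : Kˣ) : K)) 0 * (h (f m b⁻¹))⁻¹) * (h (f m b⁻¹) *
              n * h (f m (-ε)) * (h (f m b⁻¹))⁻¹) * (h (f m b⁻¹) *
              U 0 (-((ε⁻¹ : Kˣ) : K)) 0 * (h (f m b⁻¹))⁻¹) := by
            simp only [mul_assoc, inv_mul_cancel_left]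
        _ = _ := by
            rw [← h2, ← h4, h6, h3]; simp only [mul_assoc]
    obtain ⟨b, hb⟩ := exists_sq_or_neg hK (Units.mk0 t ht)
    have hone : n * U 0 ((1 : Kˣ) : K) 0 * n =
        U 0 (-(((1 : Kˣ)⁻¹ : Kˣ) : K)) 0 * n * h (f m (-1)) * U 0 (-(((1 : Kˣ)⁻¹ : Kˣ) : K)) 0 := by
      rw [f_neg_one, D.h_one, mul_one, inv_one, Units.val_one]
      exact D.n_U
    have hneg : n * U 0 ((-1 : Kˣ) : K) 0 * n =
        U 0 (-(((-1 : Kˣ)⁻¹ : Kˣ) : K)) 0 * n * h (f m (-(-1))) *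
          U 0 (-(((-1 : Kˣ)⁻¹ : Kˣ) : K)) 0 := by
      rw [neg_neg, f_one, D.h_one, mul_one, inv_neg, inv_one, Units.val_neg, Units.val_one, neg_neg]
      exact D.n_U_neg
    have hmain : n * U 0 ((Units.mk0 t ht : Kˣ) : K) 0 * n =
        U 0 (-(((Units.mk0 t ht)⁻¹ : Kˣ) : K)) 0 * n * h (f m (-(Units.mk0 t ht))) *
          U 0 (-(((Units.mk0 t ht)⁻¹ : Kˣ) : K)) 0 := by
      rcases hb with hb | hb
      · have := key 1 b hone
        rw [one_mul] at this
        rw [hb]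
        exact this
      · have := key (-1) b hneg
        rw [neg_one_mul] at this
        rw [hb]
        exact this
    rw [hf_of_ne (neg_ne_zero.mpr ht)]
    have e1 : Units.mk0 (-t) (neg_ne_zero.mpr ht) = -(Units.mk0 t ht) := by ext; rfl
    have e2 : (((Units.mk0 t ht)⁻¹ : Kˣ) : K) = t⁻¹ := by simp
    rw [e1]
    rw [e2, Units.val_mk0] at hmain
    exact hmain

/-- the homomorphism `SL₂(K) →* G` -/
noncomputable def sl2 (hK : Fintype.card K = 3 ^ (2 * m + 1)) :
    Matrix.SpecialLinearGroup (Fin 2) K →* G := SL2Hom.hom (D.rel hK)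

theorem hf_cases (k : K) : ∃ a : Kˣ, hf m h k = h a ∧ ((k ≠ 0 → ∃ b : Kˣ, (b : K) = k ∧ a = f m b)) := by
  by_cases hk : k = 0
  · refine ⟨1, ?_, fun h => absurd hk h⟩
    rw [hf, dif_neg (by simpa using hk), D.h_one]
  · exact ⟨f m (Units.mk0 k hk), hf_of_ne hk, fun _ => ⟨Units.mk0 k hk, rfl, rfl⟩⟩

theorem sl2_cases (hK : Fintype.card K = 3 ^ (2 * m + 1)) (A : Matrix.SpecialLinearGroup (Fin 2) K) :
    (∃ s b, D.sl2 hK A = U 0 s 0 * h (f m b)) ∨
    (∃ s b t, D.sl2 hK A = U 0 s 0 * h b * n * U 0 t 0) := by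
  rcases SL2Hom.hom_cases (D.rel hK) A with ⟨-, ha, he⟩ | ⟨hc, he⟩
  · left
    obtain ⟨a, h1, h2⟩ := D.hf_cases (A.1 0 0)
    obtain ⟨b, -, hb⟩ := h2 ha
    refine ⟨A.1 0 0 * A.1 0 1, b, ?_⟩
    rw [sl2, he, h1, hb]
  · right
    obtain ⟨a, h1, h2⟩ := D.hf_cases (-(A.1 1 0))
    refine ⟨A.1 0 0 / A.1 1 0, a⁻¹, A.1 1 1 / A.1 1 0, ?_⟩
    rw [sl2, he, h1, mul_assoc (U 0 _ 0) n (h a), D.n_h, ← mul_assoc]

theorem inv_not_mem_range (hK : Fintype.card K = 3 ^ (2 * m + 1)) :
    h (-1) ∉ (D.sl2 hK).range := by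
  rintro ⟨A, hA⟩
  have h0 : h (-1) = U 0 0 0 * h (-1) := by rw [D.U_zero, one_mul]
  rcases D.sl2_cases hK A with ⟨s, b, he⟩ | ⟨s, b, t, he⟩
  · rw [hA, h0] at he
    have := (D.inj₁ _ _ _ _ _ _ _ _ he).2.2.2
    exact f_ne_neg_one hK b this.symm
  · rw [hA, h0] at he
    exact D.ne _ _ _ _ _ _ _ _ _ _ _ he

theorem inv_comm_sl2 (hK : Fintype.card K = 3 ^ (2 * m + 1))
    (A : Matrix.SpecialLinearGroup (Fin 2) K) : h (-1) * D.sl2 hK A = D.sl2 hK A * h (-1) := by
  have hU : ∀ s, h (-1) * U 0 s 0 = U 0 s 0 * h (-1) := by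
    intro s
    rw [D.inv_mul_U, neg_zero]
  rcases D.sl2_cases hK A with ⟨s, b, he⟩ | ⟨s, b, t, he⟩
  · rw [he, ← mul_assoc, hU, mul_assoc, D.h_comm, ← mul_assoc]
  · rw [he]
    calc h (-1) * (U 0 s 0 * h b * n * U 0 t 0)
        = (h (-1) * U 0 s 0) * h b * n * U 0 t 0 := by simp only [mul_assoc]
      _ = U 0 s 0 * (h (-1) * h b) * n * U 0 t 0 := by rw [hU]; simp only [mul_assoc]
      _ = U 0 s 0 * h b * (h (-1) * n) * U 0 t 0 := by rw [D.h_comm]; simp only [mul_assoc]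
      _ = U 0 s 0 * h b * n * (h (-1) * U 0 t 0) := by rw [D.inv_mul_n]; simp only [mul_assoc]
      _ = _ := by rw [hU]; simp only [mul_assoc]

theorem h_mem (hK : Fintype.card K = 3 ^ (2 * m + 1)) (a : Kˣ) :
    ∃ A, h a = D.sl2 hK A ∨ h a = h (-1) * D.sl2 hK A := by
  obtain ⟨k, hk⟩ := exists_f hK a
  refine ⟨SL2Hom.dg (k : K) k.ne_zero, ?_⟩
  have h1 : D.sl2 hK (SL2Hom.dg (k : K) k.ne_zero) = h (f m k) := by
    rw [sl2, SL2Hom.hom_dg, hf_of_ne k.ne_zero]
    congr 2
    ext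
    rfl
  rcases hk with hk | hk
  · left
    rw [h1, hk]
  · right
    rw [h1, hk, ← D.h_mul, neg_one_mul]

theorem mem_centralizer_iff (hK : Fintype.card K = 3 ^ (2 * m + 1)) (g : G) :
    h (-1) * g = g * h (-1) ↔ ∃ A, g = D.sl2 hK A ∨ g = h (-1) * D.sl2 hK A := by
  constructor
  · intro hg
    rcases D.mem_centralizer hK hg with ⟨u, a, rfl⟩ | ⟨u, a, u', rfl⟩
    · obtain ⟨A, hA⟩ := D.h_mem hK a
      refine ⟨SL2Hom.up u * A, ?_⟩
      have h1 : D.sl2 hK (SL2Hom.up u * A) = U 0 u 0 * D.sl2 hK A := by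
        rw [map_mul, sl2, SL2Hom.hom_up]
      rcases hA with hA | hA
      · left
        rw [h1, hA]
      · right
        rw [h1, hA, ← mul_assoc, ← mul_assoc, D.inv_mul_U, neg_zero]
    · obtain ⟨A, hA⟩ := D.h_mem hK a
      refine ⟨SL2Hom.up u * A * SL2Hom.wl K * SL2Hom.up u', ?_⟩
      have h1 : D.sl2 hK (SL2Hom.up u * A * SL2Hom.wl K * SL2Hom.up u') =
          U 0 u 0 * D.sl2 hK A * n * U 0 u' 0 := by
        simp only [map_mul, sl2, SL2Hom.hom_up, SL2Hom.hom_wl]
      rcases hA with hA | hA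
      · left
        rw [h1, hA]
      · right
        rw [h1, hA]
        have hU : h (-1) * U 0 u 0 = U 0 u 0 * h (-1) := by rw [D.inv_mul_U, neg_zero]
        calc U 0 u 0 * (h (-1) * D.sl2 hK A) * n * U 0 u' 0
            = (U 0 u 0 * h (-1)) * D.sl2 hK A * n * U 0 u' 0 := by simp only [mul_assoc]
          _ = _ := by rw [← hU]; simp only [mul_assoc]
  · rintro ⟨A, rfl | rfl⟩
    · exact D.inv_comm_sl2 hK A
    · rw [mul_assoc, D.inv_comm_sl2 hK A]

theorem ker_sl2 (hK : Fintype.card K = 3 ^ (2 * m + 1)) (A : Matrix.SpecialLinearGroup (Fin 2) K)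
    (hA : D.sl2 hK A = 1) : A ∈ Subgroup.center (Matrix.SpecialLinearGroup (Fin 2) K) := by
  apply SL2Hom.ker_le_center (D.rel hK) ?_ ?_ A hA
  · intro s a ha he
    have h1 : U 0 s 0 * h (f m (Units.mk0 a ha)) = U 0 0 0 * h 1 := by
      rw [D.U_zero, D.h_one, one_mul, ← hf_of_ne (m := m) (h := h) ha]
      exact he
    obtain ⟨-, hs, -, hf1⟩ := D.inj₁ _ _ _ _ _ _ _ _ h1
    refine ⟨hs, ?_⟩
    have := f_pow hK (Units.mk0 a ha)
    rw [hf1, one_pow] at this
    have h2 := congrArg Units.val this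
    rw [Units.val_pow_eq_pow_val, Units.val_mk0, Units.val_one] at h2
    exact h2.symm
  · intro s a t ha he
    have h1 : U 0 0 0 * h 1 = U 0 s 0 * h (f m (Units.mk0 a ha))⁻¹ * n * U 0 t 0 := by
      rw [D.U_zero, D.h_one, one_mul, mul_assoc (U 0 s 0) _ n, ← D.n_h,
        ← hf_of_ne (m := m) (h := h) ha, ← mul_assoc]
      exact he.symm
    exact D.ne _ _ _ _ _ _ _ _ _ _ _ h1

theorem center_le_ker (hK : Fintype.card K = 3 ^ (2 * m + 1))
    (A : Matrix.SpecialLinearGroup (Fin 2) K)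
    (hA : A ∈ Subgroup.center (Matrix.SpecialLinearGroup (Fin 2) K)) : D.sl2 hK A = 1 := by
  rw [Matrix.SpecialLinearGroup.mem_center_iff] at hA
  obtain ⟨r, hr, hA⟩ := hA
  have h10 : A.1 1 0 = 0 := by rw [← hA]; simp
  have h01 : A.1 0 1 = 0 := by rw [← hA]; simp
  have h00 : A.1 0 0 = r := by rw [← hA]; simp
  have hr0 : r ≠ 0 := by
    rintro rfl
    simp at hr
  rw [sl2, SL2Hom.hom_of_eq (D.rel hK) h10, h01, h00, mul_zero, hf_of_ne hr0, D.U_zero, one_mul]
  have hr2 : r = 1 ∨ r = -1 := by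
    rw [Fintype.card_fin] at hr
    have h3 : (r - 1) * (r + 1) = 0 := by linear_combination hr
    rcases mul_eq_zero.mp h3 with h4 | h4
    · exact Or.inl (sub_eq_zero.mp h4)
    · exact Or.inr (eq_neg_of_add_eq_zero_left h4)
  rcases hr2 with rfl | rfl
  · rw [show Units.mk0 (1 : K) hr0 = 1 by ext; rfl, f_one, D.h_one]
  · rw [show Units.mk0 (-1 : K) hr0 = -1 by ext; rfl, f_neg_one, D.h_one]

theorem mem_range_centralizer (hK : Fintype.card K = 3 ^ (2 * m + 1))
    (A : Matrix.SpecialLinearGroup (Fin 2) K) :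
    D.sl2 hK A ∈ Subgroup.centralizer ({h (-1)} : Set G) := by
  rw [Subgroup.mem_centralizer_singleton_iff]
  exact (D.inv_comm_sl2 hK A).symm

theorem inv_mem_centralizer : h (-1) ∈ Subgroup.centralizer ({h (-1)} : Set G) := by
  rw [Subgroup.mem_centralizer_singleton_iff]

/-- `PSL₂(K)` maps to the centraliser of the involution -/
noncomputable def psl (hK : Fintype.card K = 3 ^ (2 * m + 1)) :
    Matrix.ProjectiveSpecialLinearGroup (Fin 2) K →* Subgroup.centralizer ({h (-1)} : Set G) :=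
  QuotientGroup.lift _ ((D.sl2 hK).codRestrict _ (D.mem_range_centralizer hK))
    (fun A hA => Subtype.ext (D.center_le_ker hK A hA))

theorem psl_mk (hK : Fintype.card K = 3 ^ (2 * m + 1)) (A : Matrix.SpecialLinearGroup (Fin 2) K) :
    ((D.psl hK (QuotientGroup.mk A) : Subgroup.centralizer ({h (-1)} : Set G)) : G) =
      D.sl2 hK A := rfl

/-- the group of order 2 maps to the centraliser of the involution -/
noncomputable def two : Multiplicative (ZMod 2) →* Subgroup.centralizer ({h (-1)} : Set G) where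
  toFun i := if Multiplicative.toAdd i = 0 then 1 else ⟨h (-1), D.inv_mem_centralizer⟩
  map_one' := by simp
  map_mul' := by
    have h1 : (⟨h (-1), D.inv_mem_centralizer⟩ : Subgroup.centralizer ({h (-1)} : Set G)) *
        ⟨h (-1), D.inv_mem_centralizer⟩ = 1 := Subtype.ext D.inv_sq
    intro i j
    have hz : ∀ z : ZMod 2, z = 0 ∨ z = 1 := by decide
    rw [toAdd_mul]
    rcases hz (Multiplicative.toAdd i) with hi | hi <;>
    rcases hz (Multiplicative.toAdd j) with hj | hj <;> rw [hi, hj]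
    · simp
    · simp
    · simp
    · have h2 : (1 + 1 : ZMod 2) = 0 := by decide
      have h3 : (1 : ZMod 2) ≠ 0 := by decide
      rw [h2, if_pos rfl, if_neg h3, h1]

theorem two_zero (i : Multiplicative (ZMod 2)) (hi : Multiplicative.toAdd i = 0) :
    D.two i = 1 := if_pos hi

theorem two_one (i : Multiplicative (ZMod 2)) (hi : Multiplicative.toAdd i ≠ 0) :
    D.two i = ⟨h (-1), D.inv_mem_centralizer⟩ := if_neg hi

theorem centralizer_iso (hK : Fintype.card K = 3 ^ (2 * m + 1)) :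
    Nonempty (↥(Subgroup.centralizer ({h (-1)} : Set G)) ≃*
      Multiplicative (ZMod 2) × Matrix.ProjectiveSpecialLinearGroup (Fin 2) K) := by
  have hcomm : ∀ (i : Multiplicative (ZMod 2)) (A : Matrix.ProjectiveSpecialLinearGroup (Fin 2) K),
      Commute (D.two i) (D.psl hK A) := by
    intro i A
    induction A using QuotientGroup.induction_on with
    | H A =>
      by_cases hi : Multiplicative.toAdd i = 0
      · rw [D.two_zero i hi]
        exact Commute.one_left _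
      · rw [D.two_one i hi]
        exact Subtype.ext (D.inv_comm_sl2 hK A)
  have hbij : Function.Bijective ((D.two).noncommCoprod (D.psl hK) hcomm) := by
    constructor
    · rw [injective_iff_map_eq_one]
      rintro ⟨i, A⟩ he
      rw [MonoidHom.noncommCoprod_apply] at he
      induction A using QuotientGroup.induction_on with
      | H A =>
        by_cases hi : Multiplicative.toAdd i = 0
        · rw [D.two_zero i hi, one_mul] at he
          have h1 : D.sl2 hK A = 1 := congrArg Subtype.val he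
          have h2 := D.ker_sl2 hK A h1
          refine Prod.ext ?_ ?_
          · exact hi
          · exact (QuotientGroup.eq_one_iff A).mpr h2
        · rw [D.two_one i hi] at he
          exfalso
          apply D.inv_not_mem_range hK
          refine ⟨A⁻¹, ?_⟩
          have h1 : h (-1) * D.sl2 hK A = 1 := congrArg Subtype.val he
          rw [map_inv]
          exact (eq_inv_of_mul_eq_one_left h1).symm
    · rintro ⟨g, hg⟩
      have hg' : h (-1) * g = g * h (-1) := by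
        rw [Subgroup.mem_centralizer_singleton_iff] at hg
        exact hg.symm
      obtain ⟨A, hA⟩ := (D.mem_centralizer_iff hK g).mp hg'
      rcases hA with hA | hA
      · refine ⟨(1, QuotientGroup.mk A), ?_⟩
        rw [MonoidHom.noncommCoprod_apply]
        apply Subtype.ext
        rw [map_one, one_mul]
        exact hA.symm
      · refine ⟨(Multiplicative.ofAdd 1, QuotientGroup.mk A), ?_⟩
        rw [MonoidHom.noncommCoprod_apply, D.two_one _ (by change (1 : ZMod 2) ≠ 0; decide)]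
        apply Subtype.ext
        exact hA.symm
  exact ⟨(MulEquiv.ofBijective _ hbij).symm⟩

/-! ### Sylow 2-subgroups -/

theorem n_ne_one : n ≠ 1 := by
  intro he
  have h1 : U 0 0 0 * h 1 = U 0 0 0 * h 1 * n * U 0 0 0 := by
    rw [D.U_zero, D.h_one, he]
    simp
  exact D.ne _ _ _ _ _ _ _ _ _ _ _ h1

end Data

theorem factorization_card (m : ℕ) :
    (((3 ^ (2 * m + 1)) ^ 3 * (3 ^ (2 * m + 1) - 1) * ((3 ^ (2 * m + 1)) ^ 3 + 1)) : ℕ).factorization 2 = 3 := by
  have h8 := three_pow_odd_mod m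
  set q := 3 ^ (2 * m + 1) with hq
  obtain ⟨k, hk⟩ : ∃ k, q = 8 * k + 3 := ⟨q / 8, by omega⟩
  have e : q ^ 3 * (q - 1) * (q ^ 3 + 1) = 2 ^ 3 * ((2 * (256 * k ^ 3 + 288 * k ^ 2 + 108 * k + 13) + 1) *
      (2 * (2 * k) + 1) * (2 * (64 * k ^ 3 + 72 * k ^ 2 + 27 * k + 3) + 1)) := by
    rw [hk, show 8 * k + 3 - 1 = 8 * k + 2 by omega]
    ring
  have hodd : ¬ 2 ∣ (2 * (256 * k ^ 3 + 288 * k ^ 2 + 108 * k + 13) + 1) *
      (2 * (2 * k) + 1) * (2 * (64 * k ^ 3 + 72 * k ^ 2 + 27 * k + 3) + 1) := by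
    rw [← even_iff_two_dvd, Nat.not_even_iff_odd]
    exact (Odd.mul (Odd.mul ⟨_, rfl⟩ ⟨_, rfl⟩) ⟨_, rfl⟩)
  rw [e, Nat.factorization_mul (by norm_num) (by
    intro h0
    rw [h0] at hodd
    exact hodd (dvd_zero 2)), Finsupp.add_apply, Nat.Prime.factorization_pow Nat.prime_two,
    Finsupp.single_apply, if_pos rfl, Nat.factorization_eq_zero_of_not_dvd hodd]

namespace Data

variable {m : ℕ} {U : K → K → K → G} {h : Kˣ → G} {n : G} (D : Data m U h n)

include D

/-- the second involution of the Klein four-group -/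
theorem n_comm_conj (h3 : (3 : K) = 0) :
    n * (U 0 1 0 * n * U 0 (-1) 0) = (U 0 1 0 * n * U 0 (-1) 0) * n := by
  have e0 : U 0 1 0 * U 0 1 0 = U 0 (-1) 0 := by
    rw [← D.U_add]
    congr 1
    linear_combination h3
  have e0' : U 0 (-1) 0 * U 0 (-1) 0 = U 0 1 0 := by
    rw [← D.U_add]
    congr 1
    linear_combination -h3
  have e1 : n * (U 0 1 0 * n * U 0 (-1) 0) = U 0 (-1) 0 * n * U 0 1 0 := by
    calc n * (U 0 1 0 * n * U 0 (-1) 0) = (n * U 0 1 0 * n) * U 0 (-1) 0 := by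
          simp only [mul_assoc]
      _ = U 0 (-1) 0 * n * (U 0 (-1) 0 * U 0 (-1) 0) := by
          rw [D.n_U]; simp only [mul_assoc]
      _ = _ := by rw [e0']
  have e2 : (U 0 1 0 * n * U 0 (-1) 0) * n = U 0 (-1) 0 * n * U 0 1 0 := by
    have h1 := congrArg (fun x => x⁻¹) D.n_U
    simp only [mul_inv_rev, D.n_inv, ← D.U_neg, neg_neg] at h1
    calc (U 0 1 0 * n * U 0 (-1) 0) * n = U 0 1 0 * (n * (U 0 (-1) 0 * n)) := by
          simp only [mul_assoc]
      _ = (U 0 1 0 * U 0 1 0) * n * U 0 1 0 := by rw [h1]; simp only [mul_assoc]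
      _ = _ := by rw [e0]
  rw [e1, e2]

open Pointwise in
/-- Sylow 2-subgroups are elementary abelian of order 8 -/
theorem sylow_two [Finite G] [Fintype K] (hK : Fintype.card K = 3 ^ (2 * m + 1))
    (hcard : Nat.card G = (3 ^ (2 * m + 1)) ^ 3 * (3 ^ (2 * m + 1) - 1) * ((3 ^ (2 * m + 1)) ^ 3 + 1))
    (S : Sylow 2 G) : Nat.card S = 8 ∧ ∀ x ∈ S, x * x = 1 := by
  have hS : ∀ S : Sylow 2 G, Nat.card S = 8 := by
    intro S
    rw [S.card_eq_multiplicity, hcard, factorization_card]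
    norm_num
  refine ⟨hS S, ?_⟩
  have hchar := charP_three hK
  have h3 : (3 : K) = 0 := by
    have := CharP.cast_eq_zero K 3
    simpa using this
  -- the elementary abelian subgroup
  set a := h (-1) with ha
  set Y := U 0 1 0 * n * U 0 (-1) 0 with hY
  have haa : a * a = 1 := D.inv_sq
  have hnn : n * n = 1 := D.n_n
  have hYY : Y * Y = 1 := by
    rw [hY, D.U_neg]
    calc U 0 1 0 * n * (U 0 1 0)⁻¹ * (U 0 1 0 * n * (U 0 1 0)⁻¹)
        = U 0 1 0 * (n * n) * (U 0 1 0)⁻¹ := by simp only [mul_assoc, inv_mul_cancel_left]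
      _ = 1 := by rw [hnn, mul_one, mul_inv_cancel]
  have han : a * n = n * a := D.inv_mul_n
  have haU : ∀ s, a * U 0 s 0 = U 0 s 0 * a := by
    intro s
    rw [ha, D.inv_mul_U, neg_zero]
  have haY : a * Y = Y * a := by
    calc a * Y = (a * U 0 1 0) * n * U 0 (-1) 0 := by rw [hY]; simp only [mul_assoc]
      _ = U 0 1 0 * (a * n) * U 0 (-1) 0 := by rw [haU]; simp only [mul_assoc]
      _ = U 0 1 0 * n * (a * U 0 (-1) 0) := by rw [han]; simp only [mul_assoc]
      _ = Y * a := by rw [haU, hY]; simp only [mul_assoc]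
  have hnY : n * Y = Y * n := D.n_comm_conj h3
  set E : Subgroup G := Subgroup.closure {a, n, Y} with hE
  have hEc : E ≤ Subgroup.centralizer (E : Set G) := by
    rw [hE, Subgroup.centralizer_closure, Subgroup.closure_le]
    intro x hx
    rw [SetLike.mem_coe, Subgroup.mem_centralizer_iff]
    intro y hy
    simp only [Set.mem_insert_iff, Set.mem_singleton_iff] at hx hy
    rcases hx with rfl | rfl | rfl <;> rcases hy with rfl | rfl | rfl <;>
      first | rfl | exact han | exact han.symm | exact haY | exact haY.symm | exact hnY | exact hnY.symm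
  have hEcomm : ∀ x ∈ E, ∀ y ∈ E, y * x = x * y := by
    intro x hx y hy
    exact (Subgroup.mem_centralizer_iff.mp (hEc hx)) y hy
  have hE2 : ∀ x ∈ E, x * x = 1 := by
    intro x hx
    rw [hE] at hx
    induction hx using Subgroup.closure_induction with
    | mem x hx =>
      simp only [Set.mem_insert_iff, Set.mem_singleton_iff] at hx
      rcases hx with rfl | rfl | rfl
      · exact haa
      · exact hnn
      · exact hYY
    | one => exact mul_one 1
    | mul x y hx hy ihx ihy =>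
      rw [mul_assoc, ← mul_assoc y, hEcomm x hx y hy, mul_assoc x y y, ihy, mul_one, ihx]
    | inv x hx ih =>
      rw [← mul_inv_rev, ih, inv_one]
  have hEp : IsPGroup 2 E := by
    intro x
    refine ⟨1, ?_⟩
    rw [pow_one, pow_two]
    exact Subtype.ext (hE2 x x.2)
  obtain ⟨S₀, hS₀⟩ := hEp.exists_le_sylow
  have hcE : 5 ≤ Nat.card E := by
    have n1 : (1 : G) = U 0 0 0 * h 1 := by rw [D.U_zero, D.h_one, one_mul]
    have n2 : a = U 0 0 0 * h (-1) := by rw [D.U_zero, one_mul]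
    have n3 : n = U 0 0 0 * h 1 * n * U 0 0 0 := by simp [D.U_zero, D.h_one]
    have n4 : a * n = U 0 0 0 * h (-1) * n * U 0 0 0 := by simp [D.U_zero, ha]
    have n5 : Y = U 0 1 0 * h 1 * n * U 0 (-1) 0 := by rw [D.h_one, mul_one]
    have d12 : a ≠ 1 := D.inv_ne_one hK
    have d13 : n ≠ 1 := D.n_ne_one
    have d23 : n ≠ a := by
      intro he
      rw [n3, n2] at he
      exact D.ne _ _ _ _ _ _ _ _ _ _ _ he.symm
    have d14 : a * n ≠ 1 := by
      intro he
      rw [n4, n1] at he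
      exact D.ne _ _ _ _ _ _ _ _ _ _ _ he.symm
    have d24 : a * n ≠ a := by
      intro he
      exact d13 (mul_eq_left.mp he)
    have d34 : a * n ≠ n := by
      intro he
      exact d12 (mul_eq_right.mp he)
    have d15 : Y ≠ 1 := by
      intro he
      rw [n5, n1] at he
      exact D.ne _ _ _ _ _ _ _ _ _ _ _ he.symm
    have d25 : Y ≠ a := by
      intro he
      rw [n5, n2] at he
      exact D.ne _ _ _ _ _ _ _ _ _ _ _ he.symm
    have d35 : Y ≠ n := by
      intro he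
      have he' := n5.symm.trans (he.trans n3)
      have := (D.inj₂ _ _ _ _ _ _ _ _ _ _ _ _ _ _ he').2.1
      exact one_ne_zero this
    have d45 : Y ≠ a * n := by
      intro he
      rw [n5, n4] at he
      have := (D.inj₂ _ _ _ _ _ _ _ _ _ _ _ _ _ _ he).2.1
      exact one_ne_zero this
    have hsub : ({Y, a * n, n, a, 1} : Set G) ⊆ (E : Set G) := by
      have m1 : a ∈ E := Subgroup.subset_closure (by simp)
      have m2 : n ∈ E := Subgroup.subset_closure (by simp)
      have m3 : Y ∈ E := Subgroup.subset_closure (by simp)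
      intro x hx
      simp only [Set.mem_insert_iff, Set.mem_singleton_iff] at hx
      rcases hx with rfl | rfl | rfl | rfl | rfl
      · exact m3
      · exact E.mul_mem m1 m2
      · exact m2
      · exact m1
      · exact E.one_mem
    have hcard5 : ({Y, a * n, n, a, 1} : Set G).ncard = 5 := by
      rw [Set.ncard_insert_of_notMem (by simp [d15, d25, d35, d45]),
        Set.ncard_insert_of_notMem (by
          simp only [Set.mem_insert_iff, Set.mem_singleton_iff, not_or]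
          exact ⟨d34, d24, d14⟩),
        Set.ncard_insert_of_notMem (by
          simp only [Set.mem_insert_iff, Set.mem_singleton_iff, not_or]
          exact ⟨d23, d13⟩),
        Set.ncard_insert_of_notMem (by
          simp only [Set.mem_singleton_iff]
          exact d12), Set.ncard_singleton]
    rw [← hcard5]
    exact Set.ncard_le_ncard hsub (Set.toFinite _)
  have hcE8 : Nat.card E = 8 := by
    have hd : Nat.card E ∣ 8 := by
      rw [← hS S₀]
      exact Subgroup.card_dvd_of_le hS₀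
    have hle := Nat.le_of_dvd (by norm_num) hd
    interval_cases hc : Nat.card E <;> simp_all
  have hES : E = (S₀ : Subgroup G) := by
    apply Subgroup.eq_of_le_of_card_ge hS₀
    rw [hcE8]
    exact (hS S₀).le
  obtain ⟨g, hg⟩ := MulAction.exists_smul_eq G S₀ S
  intro x hx
  have hx' : x ∈ MulAut.conj g • (S₀ : Subgroup G) := by
    rw [← Sylow.coe_subgroup_smul, hg]
    exact hx
  rw [Subgroup.mem_pointwise_smul_iff_inv_smul_mem] at hx'
  have h1 := hE2 ((MulAut.conj g)⁻¹ • x) (by rw [hES]; exact hx')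
  have h2 : (MulAut.conj g)⁻¹ • (x * x) = 1 := by
    rw [smul_mul', h1]
  rw [inv_smul_eq_iff.mp h2, smul_one]

end Data

end Cfsg.Agent.LieRecognition.ReeAbs
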