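/-
The instance of `ReeAbs.Data` for the small Ree groups `twistedG2 K (3 ^ m)`.
-/
import Cfsg.Agent.ChevalleyStructure.Ree.Blocks
import Cfsg.Agent.LieRecognition.ReeAbs
set_option linter.all false

set_option autoImplicit false
set_option linter.unusedSectionVars false

namespace Cfsg.Agent.LieRecognition.ReeData

open Cfsg.Lie
open Cfsg.Agent.ChevalleyStructure.Ree.Bracket Cfsg.Agent.ChevalleyStructure.Ree.Good
open Cfsg.Agent.ChevalleyStructure.Ree.Checks Cfsg.Agent.ChevalleyStructure.Ree.Words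
open Cfsg.Agent.ChevalleyStructure.Ree.Gens Cfsg.Agent.ChevalleyStructure.Ree.Bruhat
open Cfsg.Agent.ChevalleyStructure.Ree.Blocks
open Cfsg.Agent.ChevalleyStructure (ReeFixed.IsTheta ReeFixed.exists_theta)

variable {K : Type*} [Field K] [Fintype K] {m : ℕ}

/-- `U t u v` in `²G₂(q)` -/
def U (m : ℕ) (t u v : K) : ↥(twistedG2 K (3 ^ m)) := ⟨wU (3 ^ m) t u v, wU_mem _ t u v⟩

/-- the torus of `²G₂(q)` -/
def h (hK : Fintype.card K = 3 ^ (2 * m + 1)) (a : Kˣ) : ↥(twistedG2 K (3 ^ m)) := ⟨tU (3 ^ m) a, tU_mem hK a⟩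

/-- the involution `n` -/
def n (hK : Fintype.card K = 3 ^ (2 * m + 1)) : ↥(twistedG2 K (3 ^ m)) := ⟨nU K, nU_mem (theta_of_card hK)⟩

/-- the 7-dimensional block -/
def bl (g : ↥(twistedG2 K (3 ^ m))) : Matrix (Fin 7) (Fin 7) K :=
  Mb ((g : GL chevG2.Idx K) : Matrix chevG2.Idx chevG2.Idx K)

section

variable (hK : Fintype.card K = 3 ^ (2 * m + 1))
include hK

theorem bl_mul (g g' : ↥(twistedG2 K (3 ^ m))) : bl (g * g') = bl g * bl g' := by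
  obtain ⟨h3, θ, hθ⟩ := ReeFixed.exists_theta hK
  have h3' : (3 : K) = 0 := by exact_mod_cast h3
  exact Mb_mul (good_of_mem h3' hθ g'.2).ideal

theorem bl_n (i j : Fin 7) : bl (n hK) i j = if i.val + j.val = 6 then -1 else 0 := rev_S i j

theorem bl_h (a : Kˣ) : bl (h hK a) = Matrix.diagonal (dA (a : K) ((a : K) ^ (3 * 3 ^ m))) := by
  unfold bl
  show Mb ((tU (3 ^ m) a : GL chevG2.Idx K) : Matrix chevG2.Idx chevG2.Idx K) = _
  rw [coe_tU, Mb_hMat]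

theorem bl_U_low (t u v : K) (i j : Fin 7) (hij : i < j) : bl (U m t u v) i j = 0 := by
  obtain ⟨h3, θ, hθ⟩ := ReeFixed.exists_theta hK
  exact W_low (by exact_mod_cast h3) hθ t u v i j hij

theorem bl_U_diag (t u v : K) (i : Fin 7) : bl (U m t u v) i i = 1 := by
  obtain ⟨h3, θ, hθ⟩ := ReeFixed.exists_theta hK
  exact W_diag (by exact_mod_cast h3) hθ t u v i

theorem U_eq_of_bl (t u v : K) (h1 : bl (U m t u v) 1 0 = 0) (h2 : bl (U m t u v) 2 0 = 0)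
    (h3 : bl (U m t u v) 3 0 = 0) : t = 0 ∧ u = 0 ∧ v = 0 := by
  obtain ⟨hh3, θ, hθ⟩ := ReeFixed.exists_theta hK
  have hh3' : (3 : K) = 0 := by exact_mod_cast hh3
  have e1 := (W_10 hh3' hθ t u v).symm.trans h1
  have e2 := (W_20 hh3' hθ t u v).symm.trans h2
  have e3 := (W_30 hh3' hθ t u v).symm.trans h3
  have f1 : t = 0 := by
    rw [neg_eq_zero] at e1
    exact (map_eq_zero θ).1 e1
  subst f1
  have f2 : u = 0 := by
    rw [map_zero, zero_mul, zero_add] at e2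
    exact (map_eq_zero θ).1 e2
  subst f2
  have f3 : v = 0 := by
    rw [map_zero, zero_mul, zero_sub, neg_eq_zero] at e3
    exact (map_eq_zero θ).1 e3
  exact ⟨rfl, rfl, f3⟩

theorem dA_four (a : Kˣ) : dA (a : K) ((a : K) ^ (3 * 3 ^ m)) 4 = (a : K) := rfl

theorem dA_ne (a : Kˣ) (i : Fin 7) : dA (a : K) ((a : K) ^ (3 * 3 ^ m)) i ≠ 0 := by
  have ha := a.ne_zero
  have hb : (a : K) ^ (3 * 3 ^ m) ≠ 0 := pow_ne_zero _ ha
  fin_cases i
  · exact mul_ne_zero (inv_ne_zero (pow_ne_zero _ ha)) (inv_ne_zero hb)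
  · exact mul_ne_zero (inv_ne_zero ha) (inv_ne_zero hb)
  · exact inv_ne_zero ha
  · exact one_ne_zero
  · exact ha
  · exact mul_ne_zero ha hb
  · exact mul_ne_zero (pow_ne_zero _ ha) hb

/-- entries of the block of `g * h a` -/
theorem bl_mul_h (g : ↥(twistedG2 K (3 ^ m))) (a : Kˣ) (i j : Fin 7) :
    bl (g * h hK a) i j = bl g i j * dA (a : K) ((a : K) ^ (3 * 3 ^ m)) j := by
  rw [bl_mul hK, bl_h hK, Matrix.mul_diagonal]

theorem bl_h_mul (g : ↥(twistedG2 K (3 ^ m))) (a : Kˣ) (i j : Fin 7) :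
    bl (h hK a * g) i j = dA (a : K) ((a : K) ^ (3 * 3 ^ m)) i * bl g i j := by
  rw [bl_mul hK, bl_h hK, Matrix.diagonal_mul]

theorem bl_mul_n (g : ↥(twistedG2 K (3 ^ m))) (i j : Fin 7) :
    bl (g * n hK) i j = - bl g i j.rev := by
  rw [bl_mul hK, Matrix.mul_apply, Finset.sum_eq_single j.rev]
  · rw [bl_n hK, if_pos (by rw [Fin.val_rev]; omega), mul_neg_one]
  · intro k _ hk
    rw [bl_n hK, if_neg, mul_zero]
    intro hh
    apply hk
    apply Fin.ext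
    rw [Fin.val_rev]
    omega
  · intro hk
    exact absurd (Finset.mem_univ _) hk

theorem bl_n_mul (g : ↥(twistedG2 K (3 ^ m))) (i j : Fin 7) :
    bl (n hK * g) i j = - bl g i.rev j := by
  rw [bl_mul hK, Matrix.mul_apply, Finset.sum_eq_single i.rev]
  · rw [bl_n hK, if_pos (by rw [Fin.val_rev]; omega), neg_one_mul]
  · intro k _ hk
    rw [bl_n hK, if_neg, zero_mul]
    intro hh
    apply hk
    apply Fin.ext
    rw [Fin.val_rev]
    omega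
  · intro hk
    exact absurd (Finset.mem_univ _) hk

theorem U_mul (t u v t' u' v' : K) : U m t u v * U m t' u' v' =
    U m (t + t') (u + u' - t * t' ^ (3 ^ (m + 1)))
      (v + v' - u * t' - t ^ 2 * t' ^ (3 ^ (m + 1)) + t * t' * t' ^ (3 ^ (m + 1))) := by
  apply Subtype.ext
  show wU (3 ^ m) t u v * wU (3 ^ m) t' u' v' = wU (3 ^ m) _ _ _
  rw [wU_mul (theta_of_card hK)]
  have : (t' ^ 3 ^ m) ^ 3 = t' ^ (3 ^ (m + 1)) := by rw [← pow_mul, pow_succ]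
  rw [this]

theorem U_zero : U m (0 : K) 0 0 = 1 := Subtype.ext (wU_zero (theta_of_card hK))

theorem h_mul (a b : Kˣ) : h hK (a * b) = h hK a * h hK b :=
  Subtype.ext (tU_mul _ a b).symm

theorem h_U (a : Kˣ) (t u v : K) : h hK a * U m t u v =
    U m ((a : K) ^ (3 ^ (m + 1)) * t) ((a : K) ^ (3 ^ (m + 1) + 3) * u)
      ((a : K) ^ (2 * 3 ^ (m + 1) + 3) * v) * h hK a := by
  apply Subtype.ext
  show tU (3 ^ m) a * wU (3 ^ m) t u v = wU (3 ^ m) _ _ _ * tU (3 ^ m) a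
  rw [← mul_inv_eq_iff_eq_mul, tU_conj_wU (theta_of_card hK)]
  have e1 : 3 * 3 ^ m = 3 ^ (m + 1) := by ring
  have e2 : 6 * 3 ^ m = 2 * 3 ^ (m + 1) := by ring
  rw [e1, e2, ← pow_add, ← pow_add]

theorem n_h (a : Kˣ) : n hK * h hK a = h hK a⁻¹ * n hK := Subtype.ext (nU_tU _ a)

theorem n_n : n hK * n hK = 1 := Subtype.ext nU_mul_self

theorem U_inv_010 : (U m (0 : K) 1 0)⁻¹ = U m 0 (-1) 0 := by
  apply inv_eq_of_mul_eq_one_right
  rw [U_mul hK]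
  have : U m ((0 : K) + 0) (1 + -1 - 0 * 0 ^ 3 ^ (m + 1)) (0 + 0 - 1 * 0 - 0 ^ 2 * 0 ^ 3 ^ (m + 1) +
      0 * 0 * 0 ^ 3 ^ (m + 1)) = U m (0 : K) 0 0 := by
    congr 1 <;> ring
  rw [this, U_zero hK]

theorem n_U : n hK * U m 0 1 0 * n hK = U m 0 (-1) 0 * n hK * U m 0 (-1) 0 := by
  have hth := theta_of_card hK
  have h1 : U m (0 : K) 1 0 * (n hK * U m 0 1 0 * n hK) * U m 0 1 0 = n hK := by
    apply Subtype.ext
    show wU (3 ^ m) (0 : K) 1 0 * (nU K * wU (3 ^ m) 0 1 0 * nU K) * wU (3 ^ m) 0 1 0 = nU K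
    have h2 : nU K * wU (3 ^ m) 0 1 0 * nU K = vU (3 ^ m) (0 : K) 1 0 := by
      have := nU_conj_wU hth (0 : K) 1 0
      rwa [nU_inv] at this
    rw [h2]
    apply Units.ext
    rw [Units.val_mul, Units.val_mul, coe_wU, coe_vU, coe_nU, W_V_W hth]
  rw [← U_inv_010 hK]
  calc n hK * U m 0 1 0 * n hK = (U m 0 1 0)⁻¹ * (U m (0 : K) 1 0 * (n hK * U m 0 1 0 * n hK) * U m 0 1 0) *
        (U m 0 1 0)⁻¹ := by group
    _ = _ := by rw [h1]

theorem h_injective : Function.Injective (h hK) := by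
  intro a b hab
  have h1 : bl (h hK a) 4 4 = bl (h hK b) 4 4 := by rw [hab]
  rw [bl_h hK, bl_h hK, Matrix.diagonal_apply_eq, Matrix.diagonal_apply_eq] at h1
  exact Units.ext h1

theorem U_mul_inv (t u v t' u' v' : K) : ∃ t₂ u₂ v₂, (U m t' u' v')⁻¹ * U m t u v = U m t₂ u₂ v₂ ∧
    ((t₂ = 0 ∧ u₂ = 0 ∧ v₂ = 0) → t = t' ∧ u = u' ∧ v = v') := by
  -- solve `U' * X = U`
  refine ⟨t - t', u - u' + t' * (t - t') ^ (3 ^ (m + 1)), v - v' + u' * (t - t') +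
    t' ^ 2 * (t - t') ^ (3 ^ (m + 1)) - t' * (t - t') * (t - t') ^ (3 ^ (m + 1)), ?_, ?_⟩
  · rw [inv_mul_eq_iff_eq_mul, U_mul hK]
    congr 1 <;> ring
  · rintro ⟨h1, h2, h3⟩
    have e1 : t = t' := sub_eq_zero.1 h1
    subst e1
    have hz : (0 : K) ^ (3 ^ (m + 1)) = 0 := zero_pow (by positivity)
    rw [sub_self, hz, mul_zero, add_zero] at h2
    have e2 : u = u' := sub_eq_zero.1 h2
    subst e2
    rw [sub_self, hz] at h3
    simp only [mul_zero, add_zero, sub_zero] at h3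
    exact ⟨rfl, rfl, sub_eq_zero.1 h3⟩

theorem U_mul_inv' (t u v t' u' v' : K) : ∃ t₂ u₂ v₂, U m t u v * (U m t' u' v')⁻¹ = U m t₂ u₂ v₂ ∧
    ((t₂ = 0 ∧ u₂ = 0 ∧ v₂ = 0) → t = t' ∧ u = u' ∧ v = v') := by
  -- solve `X * U' = U`
  refine ⟨t - t', u - u' + (t - t') * t' ^ (3 ^ (m + 1)), v - v' + (u - u' + (t - t') * t' ^ (3 ^ (m + 1))) * t' +
    (t - t') ^ 2 * t' ^ (3 ^ (m + 1)) - (t - t') * t' * t' ^ (3 ^ (m + 1)), ?_, ?_⟩
  · rw [mul_inv_eq_iff_eq_mul, U_mul hK]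
    congr 1 <;> ring
  · rintro ⟨h1, h2, h3⟩
    have e1 : t = t' := sub_eq_zero.1 h1
    subst e1
    rw [sub_self, zero_mul, add_zero] at h2
    have e2 : u = u' := sub_eq_zero.1 h2
    subst e2
    simp only [sub_self, zero_mul, add_zero, sub_zero, ne_eq, OfNat.ofNat_ne_zero, not_false_eq_true,
      zero_pow] at h3
    exact ⟨rfl, rfl, sub_eq_zero.1 h3⟩

theorem inj₁ (t u v : K) (a : Kˣ) (t' u' v' : K) (a' : Kˣ) (hh : U m t u v * h hK a = U m t' u' v' * h hK a') :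
    t = t' ∧ u = u' ∧ v = v' ∧ a = a' := by
  have h1 : bl (U m t u v * h hK a) 4 4 = bl (U m t' u' v' * h hK a') 4 4 := by rw [hh]
  rw [bl_mul_h hK, bl_mul_h hK, bl_U_diag hK, bl_U_diag hK, one_mul, one_mul] at h1
  have ha : a = a' := Units.ext h1
  subst ha
  rw [mul_left_inj] at hh
  obtain ⟨t₂, u₂, v₂, e1, e2⟩ := U_mul_inv hK t u v t' u' v'
  rw [hh, inv_mul_cancel] at e1
  have hz : ∀ i : Fin 7, i ≠ 0 → bl (U m t₂ u₂ v₂) i 0 = 0 := by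
    intro i hi
    have : bl (1 : ↥(twistedG2 K (3 ^ m))) i 0 = 0 := by
      unfold bl
      rw [Subgroup.coe_one, Units.val_one, Mb_one]
      exact Matrix.one_apply_ne hi
    rwa [e1] at this
  obtain ⟨f1, f2, f3⟩ := e2 (U_eq_of_bl hK _ _ _ (hz 1 (by decide)) (hz 2 (by decide)) (hz 3 (by decide)))
  exact ⟨f1, f2, f3, rfl⟩

/-- the corner entry -/
theorem bl_big (t u v : K) (a : Kˣ) (t' u' v' : K) :
    bl (U m t u v * h hK a * n hK * U m t' u' v') 0 6 = - dA (a : K) ((a : K) ^ (3 * 3 ^ m)) 0 := by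
  rw [bl_mul hK, Matrix.mul_apply, Finset.sum_eq_single (6 : Fin 7)]
  · rw [bl_U_diag hK, mul_one, bl_mul_n hK, bl_mul_h hK]
    show -(bl (U m t u v) 0 0 * _) = _
    rw [bl_U_diag hK, one_mul]
    rfl
  · intro k _ hk
    rw [bl_U_low hK t' u' v' k 6 (lt_of_le_of_ne (Fin.le_last k) hk), mul_zero]
  · intro hk
    exact absurd (Finset.mem_univ _) hk

theorem bl_small (t u v : K) (a : Kˣ) (i j : Fin 7) (hij : i < j) : bl (U m t u v * h hK a) i j = 0 := by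
  rw [bl_mul_h hK, bl_U_low hK _ _ _ _ _ hij, zero_mul]

theorem ne (t u v : K) (a : Kˣ) (t' u' v' : K) (a' : Kˣ) (t'' u'' v'' : K) :
    U m t u v * h hK a ≠ U m t' u' v' * h hK a' * n hK * U m t'' u'' v'' := by
  intro hh
  have h1 : bl (U m t u v * h hK a) 0 6 = bl (U m t' u' v' * h hK a' * n hK * U m t'' u'' v'') 0 6 := by rw [hh]
  rw [bl_small hK _ _ _ _ _ _ (by decide), bl_big hK] at h1
  exact dA_ne hK a' 0 (neg_eq_zero.1 h1.symm)

theorem inj₂ (t u v : K) (a : Kˣ) (t' u' v' : K) (t₁ u₁ v₁ : K) (a₁ : Kˣ) (t₁' u₁' v₁' : K)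
    (hh : U m t u v * h hK a * n hK * U m t' u' v' = U m t₁ u₁ v₁ * h hK a₁ * n hK * U m t₁' u₁' v₁') :
    t = t₁ ∧ u = u₁ ∧ v = v₁ ∧ a = a₁ ∧ t' = t₁' ∧ u' = u₁' ∧ v' = v₁' := by
  obtain ⟨x1, x2, x3, ex, hx⟩ := U_mul_inv hK t u v t₁ u₁ v₁
  obtain ⟨y1, y2, y3, ey, hy⟩ := U_mul_inv' hK t₁' u₁' v₁' t' u' v'
  have h1 : U m x1 x2 x3 * h hK a * n hK = h hK a₁ * (n hK * U m y1 y2 y3) := by
    rw [← ex, ← ey]
    calc (U m t₁ u₁ v₁)⁻¹ * U m t u v * h hK a * n hK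
        = (U m t₁ u₁ v₁)⁻¹ * (U m t u v * h hK a * n hK * U m t' u' v') * (U m t' u' v')⁻¹ := by group
      _ = (U m t₁ u₁ v₁)⁻¹ * (U m t₁ u₁ v₁ * h hK a₁ * n hK * U m t₁' u₁' v₁') * (U m t' u' v')⁻¹ := by rw [hh]
      _ = _ := by group
  have key : ∀ i j : Fin 7, -(bl (U m x1 x2 x3) i j.rev * dA (a : K) ((a : K) ^ (3 * 3 ^ m)) j.rev) =
      dA (a₁ : K) ((a₁ : K) ^ (3 * 3 ^ m)) i * (-(bl (U m y1 y2 y3) i.rev j)) := by
    intro i j
    have h2 : bl (U m x1 x2 x3 * h hK a * n hK) i j = bl (h hK a₁ * (n hK * U m y1 y2 y3)) i j := by rw [h1]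
    rw [bl_mul_n hK, bl_mul_h hK, bl_h_mul hK, bl_n_mul hK] at h2
    exact h2
  have kx : ∀ i : Fin 7, i ≠ 0 → bl (U m x1 x2 x3) i 0 = 0 := by
    intro i hi
    have h2 := key i 6
    have h3 : bl (U m y1 y2 y3) i.rev 6 = 0 := by
      apply bl_U_low hK
      rw [Fin.lt_def, Fin.val_rev]
      have : i.val ≠ 0 := fun h => hi (Fin.ext h)
      show 7 - (i.val + 1) < 6
      omega
    rw [h3, neg_zero, mul_zero, neg_eq_zero] at h2
    rcases mul_eq_zero.1 h2 with h2 | h2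
    · exact h2
    · exact absurd h2 (dA_ne hK a _)
  have ky : ∀ i : Fin 7, i ≠ 0 → bl (U m y1 y2 y3) i 0 = 0 := by
    intro i hi
    have h2 := key i.rev 0
    rw [Fin.rev_rev] at h2
    have h3 : bl (U m x1 x2 x3) i.rev (Fin.rev 0) = 0 := by
      apply bl_U_low hK
      rw [Fin.lt_def, Fin.val_rev, Fin.val_rev]
      have : i.val ≠ 0 := fun h => hi (Fin.ext h)
      show 7 - (i.val + 1) < 7 - (0 + 1)
      omega
    rw [h3, zero_mul, neg_zero, eq_comm] at h2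
    rcases mul_eq_zero.1 h2 with h2 | h2
    · exact absurd h2 (dA_ne hK a₁ _)
    · exact neg_eq_zero.1 h2
  obtain ⟨ex1, ex2, ex3⟩ := U_eq_of_bl hK _ _ _ (kx 1 (by decide)) (kx 2 (by decide)) (kx 3 (by decide))
  obtain ⟨ey1, ey2, ey3⟩ := U_eq_of_bl hK _ _ _ (ky 1 (by decide)) (ky 2 (by decide)) (ky 3 (by decide))
  obtain ⟨f1, f2, f3⟩ := hx ⟨ex1, ex2, ex3⟩
  obtain ⟨g1, g2, g3⟩ := hy ⟨ey1, ey2, ey3⟩
  subst ex1 ex2 ex3 ey1 ey2 ey3
  rw [U_zero hK, one_mul, mul_one, mul_left_inj] at h1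
  exact ⟨f1, f2, f3, h_injective hK h1, g1.symm, g2.symm, g3.symm⟩

/-- the existence part of the Bruhat normal form -/
def Exists (K : Type*) [Field K] (m : ℕ) : Prop := ∀ g ∈ twistedG2 K (3 ^ m),
  (∃ (t u v : K) (a : Kˣ), g = wU (3 ^ m) t u v * tU (3 ^ m) a) ∨
  (∃ (t u v : K) (a : Kˣ) (t' u' v' : K), g = wU (3 ^ m) t u v * tU (3 ^ m) a * nU K * wU (3 ^ m) t' u' v')

theorem data_of_exists (hex : Exists K m) : ReeAbs.Data m (U m) (h hK) (n hK) where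
  U_mul := U_mul hK
  h_mul := h_mul hK
  h_U := h_U hK
  n_h := n_h hK
  n_n := n_n hK
  n_U := n_U hK
  bruhat := by
    rintro ⟨g, hg⟩
    rcases hex g hg with ⟨t, u, v, a, e⟩ | ⟨t, u, v, a, t', u', v', e⟩
    · exact Or.inl ⟨t, u, v, a, Subtype.ext e⟩
    · exact Or.inr ⟨t, u, v, a, t', u', v', Subtype.ext e⟩
  inj₁ := inj₁ hK
  ne := ne hK
  inj₂ := inj₂ hK

end

end Cfsg.Agent.LieRecognition.ReeData
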