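import Mathlib
import Cfsg.Agent.LieRecognition.ReeInv
import Cfsg.Agent.ClassicalGeometry.SLTwoFour
import Cfsg.Agent.ClassicalGeometry.PSL2Basic
set_option linter.all false

-- part: LieRecognition/ReeCent
section
/-!
# From an isomorphism `C(a) ≃* Z₂ × L` to `CentData`
-/

set_option autoImplicit false

namespace Cfsg.Agent.LieRecognition.ReeCent

open Subgroup
open Cfsg.Agent.LieRecognition.ReeInv

variable {G : Type*} [Group G] {L : Type*} [Group L]

/-- the embedding of `L` -/
def emb {a : G} (e : centralizer {a} ≃* Multiplicative (ZMod 2) × L) : L →* G :=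
  (centralizer {a}).subtype.comp (e.symm.toMonoidHom.comp (MonoidHom.inr _ _))

theorem emb_apply {a : G} (e : centralizer {a} ≃* Multiplicative (ZMod 2) × L) (l : L) :
    emb e l = ((e.symm (1, l) : centralizer {a}) : G) := rfl

theorem zmod_two_cases (z : Multiplicative (ZMod 2)) : z = 1 ∨ z = Multiplicative.ofAdd 1 := by
  revert z; decide

/-- centraliser data from an isomorphism -/
theorem centData {a : G} (ha : a ≠ 1) (ha2 : a * a = 1)
    (e : centralizer {a} ≃* Multiplicative (ZMod 2) × L) {i j u : L} (hk : KleinData L i j u) :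
    CentData G L a (emb e) := by
  have haC : a ∈ centralizer {a} := mem_centralizer_singleton_iff.2 rfl
  have hcen : ∀ x : centralizer {a}, (⟨a, haC⟩ : centralizer {a}) * x = x * ⟨a, haC⟩ := by
    rintro ⟨x, hx⟩
    apply Subtype.ext
    exact (mem_centralizer_singleton_iff.1 hx).symm
  have hcen' : ∀ l : L, (e ⟨a, haC⟩).2 * l = l * (e ⟨a, haC⟩).2 := by
    intro l
    have := congrArg e (hcen (e.symm (1, l)))
    rw [map_mul, map_mul, MulEquiv.apply_symm_apply] at this
    exact congrArg Prod.snd this
  -- the second component is trivial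
  have h2 : (e ⟨a, haC⟩).2 = 1 := by
    have hu := hcen' u
    rcases hk.cent _ (hcen' i) (hcen' j) with h | h | h | h
    · exact h
    · exfalso
      rw [h] at hu
      apply hk.ne
      calc i = u * i * u⁻¹ := by rw [← hu]; group
        _ = j := hk.uiu
    · exfalso
      rw [h] at hu
      apply hk.ij_ne_j
      calc i * j = u * j * u⁻¹ := hk.uju.symm
        _ = j := by rw [← hu]; group
    · exfalso
      rw [h] at hu
      apply hk.ij_ne_i
      calc i * j = u * (i * j) * u⁻¹ := by rw [← hu]; group
        _ = i := hk.uiju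
  have h1 : (e ⟨a, haC⟩).1 = Multiplicative.ofAdd 1 := by
    rcases zmod_two_cases (e ⟨a, haC⟩).1 with h | h
    · exfalso
      apply ha
      have : e ⟨a, haC⟩ = 1 := Prod.ext h h2
      have h3 : (⟨a, haC⟩ : centralizer {a}) = 1 := by
        rw [← map_one e] at this
        exact e.injective this
      exact congrArg Subtype.val h3
    · exact h
  have hae : e ⟨a, haC⟩ = (Multiplicative.ofAdd 1, 1) := Prod.ext h1 h2
  refine ⟨ha, ha2, ?_, ?_, ?_, ?_⟩
  · intro x y hxy
    have h4 : e.symm (1, x) = e.symm (1, y) := Subtype.ext hxy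
    have h5 := e.symm.injective h4
    exact congrArg Prod.snd h5
  · intro l
    rw [emb_apply]
    exact (mem_centralizer_singleton_iff.1 (e.symm (1, l)).2).symm
  · intro l hl
    have h4 : e.symm (1, l) = ⟨a, haC⟩ := Subtype.ext hl
    rw [MulEquiv.symm_apply_eq, hae] at h4
    have := congrArg Prod.fst h4
    simp only at this
    exact absurd this (by decide)
  · intro x hx
    have hxC : x ∈ centralizer {a} := mem_centralizer_singleton_iff.2 hx
    refine ⟨(e ⟨x, hxC⟩).2, ?_⟩
    rcases zmod_two_cases (e ⟨x, hxC⟩).1 with h | h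
    · left
      rw [emb_apply]
      have : e.symm (1, (e ⟨x, hxC⟩).2) = ⟨x, hxC⟩ := by
        rw [MulEquiv.symm_apply_eq]
        exact Prod.ext h.symm rfl
      rw [this]
    · right
      rw [emb_apply]
      have h6 : e.symm (Multiplicative.ofAdd 1, 1) = ⟨a, haC⟩ := by
        rw [MulEquiv.symm_apply_eq, hae]
      have : (⟨x, hxC⟩ : centralizer {a}) =
          ⟨a, haC⟩ * e.symm (1, (e ⟨x, hxC⟩).2) := by
        rw [← h6, ← map_mul]
        rw [eq_comm, MulEquiv.symm_apply_eq]
        exact Prod.ext (by simp [h]) (by simp)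
      exact congrArg Subtype.val this

end Cfsg.Agent.LieRecognition.ReeCent
end

-- part: LieRecognition/ReePSL
section
/-!
# Facts about `PSL₂(q)` in characteristic 3 used for the small Ree groups
-/

set_option autoImplicit false

namespace Cfsg.Agent.LieRecognition.ReePSL

open Subgroup
open Cfsg.Agent.LieRecognition.ReeInv
open Cfsg.Agent.ClassicalGeometry.SLTwoFour (w ext2 det2 mul00 mul01 mul10 mul11 one00 one01 one10
  one11 neg_ij w00 w01 w10 w11 w_mul_self rot rot00 rot01 rot10 rot11 rot_comm exists_rot
  rot_injective one_add_sq_ne_zero card_circle_three)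

variable {K : Type*} [Field K]

/-- the group `SL₂(K)` -/
abbrev S (K : Type*) [Field K] := Matrix.SpecialLinearGroup (Fin 2) K

/-- the group `PSL₂(K)` -/
abbrev L (K : Type*) [Field K] := Matrix.ProjectiveSpecialLinearGroup (Fin 2) K

/-- projection -/
def pr (K : Type*) [Field K] : S K →* L K := QuotientGroup.mk' _

theorem pr_surjective : Function.Surjective (pr K) := QuotientGroup.mk'_surjective _

theorem pr_eq_one_iff (g : S K) : pr K g = 1 ↔ g = 1 ∨ g = -1 := by
  rw [← Cfsg.Agent.ClassicalGeometry.PSL2Basic.mem_center_SL2_iff]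
  exact QuotientGroup.eq_one_iff g

theorem pr_eq_iff (g h : S K) : pr K g = pr K h ↔ g = h ∨ g = -h := by
  rw [← mul_inv_eq_one, ← map_inv, ← map_mul, pr_eq_one_iff]
  constructor
  · rintro (h1 | h1)
    · left; exact mul_inv_eq_one.1 h1
    · right
      calc g = (g * h⁻¹) * h := by group
        _ = -h := by rw [h1]; simp
  · rintro (rfl | rfl)
    · left; group
    · right; simp

/-- the second element of order 4, characteristic 3 -/
def J (K : Type*) [Field K] [CharP K 3] : S K :=
  ⟨!![1, 1; 1, -1], by
    have h3 : (3 : K) = 0 := by exact_mod_cast CharP.cast_eq_zero K 3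
    rw [Matrix.det_fin_two_of]; linear_combination -h3⟩

/-- an element of order 3 -/
def U (K : Type*) [Field K] : S K := ⟨!![1, 1; 0, 1], by rw [Matrix.det_fin_two_of]; ring⟩

theorem U00 : (U K) 0 0 = 1 := rfl
theorem U01 : (U K) 0 1 = 1 := rfl
theorem U10 : (U K) 1 0 = 0 := rfl
theorem U11 : (U K) 1 1 = 1 := rfl

section char3
variable [CharP K 3]

theorem J00 : (J K) 0 0 = 1 := rfl
theorem J01 : (J K) 0 1 = 1 := rfl
theorem J10 : (J K) 1 0 = 1 := rfl
theorem J11 : (J K) 1 1 = -1 := rfl

theorem three : (3 : K) = 0 := by exact_mod_cast CharP.cast_eq_zero K 3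

theorem two_ne : (2 : K) ≠ 0 := by
  have h3 := three (K := K)
  intro h2
  have : (1 : K) = 0 := by linear_combination h3 - h2
  exact one_ne_zero this

theorem J_sq : J K * J K = -1 := by
  have h3 := three (K := K)
  refine ext2 ?_ ?_ ?_ ?_
  · rw [mul00, neg_ij, one00, J00, J01, J10]; linear_combination h3
  · rw [mul01, neg_ij, one01, J00, J01, J11]; ring
  · rw [mul10, neg_ij, one10, J00, J10, J11]; ring
  · rw [mul11, neg_ij, one11, J10, J01, J11]; linear_combination h3

theorem w_J : w * J K = -(J K * w) := by
  refine ext2 ?_ ?_ ?_ ?_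
  · rw [neg_ij, mul00, mul00, J00, J01, J10, w00, w01, w10]; ring
  · rw [neg_ij, mul01, mul01, J00, J01, J11, w00, w01, w11]; ring
  · rw [neg_ij, mul10, mul10, J00, J10, J11, w00, w10, w11]; ring
  · rw [neg_ij, mul11, mul11, J01, J10, J11, w01, w10, w11]; ring

theorem U_w : U K * w = -(J K * U K) := by
  have h3 := three (K := K)
  refine ext2 ?_ ?_ ?_ ?_
  · rw [neg_ij, mul00, mul00, J00, J01, w00, w10, U00, U01, U10]; ring
  · rw [neg_ij, mul01, mul01, J00, J01, U00, U01, U11, w01, w11]; linear_combination h3
  · rw [neg_ij, mul10, mul10, J10, J11, w00, w10, U00, U10, U11]; ring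
  · rw [neg_ij, mul11, mul11, J10, J11, w01, w11, U10, U11, U01]; ring

theorem U_J : U K * J K = -(w * J K * U K) := by
  have h3 := three (K := K)
  refine ext2 ?_ ?_ ?_ ?_
  · rw [neg_ij, mul00, mul00, mul00, mul01, J00, J01, J10, J11, w00, w01, U00, U01, U10]
    linear_combination h3
  · rw [neg_ij, mul01, mul01, mul00, mul01, J00, J01, J10, J11, w00, w01, U00, U01, U11]
    ring
  · rw [neg_ij, mul10, mul10, mul10, mul11, J00, J01, J10, J11, w10, w11, U00, U10, U11]
    ring
  · rw [neg_ij, mul11, mul11, mul10, mul11, J00, J01, J10, J11, w10, w11, U01, U10, U11]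
    linear_combination -h3

end char3

section klein
variable [CharP K 3]

/-- the Klein four-group data in `PSL₂(K)` -/
theorem klein : KleinData (L K) (pr K w) (pr K (J K)) (pr K (U K)) where
  i_ne := by
    rw [Ne, pr_eq_one_iff]
    rintro (h | h)
    · have := congrArg (fun y : S K => y 0 1) h
      simp only [w01, one01] at this
      exact one_ne_zero this
    · have := congrArg (fun y : S K => y 0 1) h
      simp only [w01, neg_ij, one01, neg_zero] at this
      exact one_ne_zero this
  j_ne := by
    rw [Ne, pr_eq_one_iff]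
    rintro (h | h)
    · have := congrArg (fun y : S K => y 0 1) h
      simp only [J01, one01] at this
      exact one_ne_zero this
    · have := congrArg (fun y : S K => y 0 1) h
      simp only [J01, neg_ij, one01, neg_zero] at this
      exact one_ne_zero this
  ne := by
    rw [Ne, pr_eq_iff]
    rintro (h | h)
    · have := congrArg (fun y : S K => y 0 0) h
      simp only [w00, J00] at this
      exact one_ne_zero this.symm
    · have := congrArg (fun y : S K => y 0 0) h
      simp only [w00, neg_ij, J00] at this
      exact one_ne_zero (show (1 : K) = 0 by linear_combination this)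
  ii := by
    rw [← map_mul, pr_eq_one_iff]; right; exact w_mul_self
  jj := by
    rw [← map_mul, pr_eq_one_iff]; right; exact J_sq
  ij := by
    rw [← map_mul, ← map_mul, pr_eq_iff]; right; exact w_J
  uiu := by
    rw [mul_inv_eq_iff_eq_mul, ← map_mul, ← map_mul, pr_eq_iff]; right; exact U_w
  uju := by
    rw [mul_inv_eq_iff_eq_mul, ← map_mul, ← map_mul, ← map_mul, pr_eq_iff]; right; exact U_J
  cent := by
    have h3 := three (K := K)
    intro x h1 h2
    obtain ⟨g, rfl⟩ := pr_surjective x
    rw [← map_mul, ← map_mul, pr_eq_iff] at h1 h2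
    have hd := det2 g
    have key : ∀ c : K, c ^ 2 = 1 → c = 1 ∨ c = -1 := by
      intro c hc
      have : (c - 1) * (c + 1) = 0 := by linear_combination hc
      rcases mul_eq_zero.1 this with h | h
      · left; linear_combination h
      · right; linear_combination h
    rcases h1 with h1 | h1 <;> rcases h2 with h2 | h2
    · -- commutes with both
      have a0 := congrArg (fun y : S K => y 0 0) h1
      have a1 := congrArg (fun y : S K => y 0 1) h1
      have b0 := congrArg (fun y : S K => y 0 0) h2
      simp only [mul00, mul01, w00, w01, w10, w11, J00, J01, J10, J11] at a0 a1 b0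
      have e1 : g 0 1 = 0 := by linear_combination a0 - b0 + g 0 1 * h3
      have e2 : g 1 0 = 0 := by linear_combination -a0 - e1
      have e3 : g 1 1 = g 0 0 := by linear_combination -a1
      rw [e1, e2, e3] at hd
      left
      rw [pr_eq_one_iff]
      rcases key (g 0 0) (by linear_combination hd) with h | h
      · left
        exact ext2 (by rw [h, one00]) (by rw [e1, one01]) (by rw [e2, one10]) (by rw [e3, h, one11])
      · right
        exact ext2 (by rw [neg_ij, h, one00]) (by rw [neg_ij, e1, one01, neg_zero])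
          (by rw [neg_ij, e2, one10, neg_zero]) (by rw [neg_ij, e3, h, one11])
    · -- commutes with i, anticommutes with j
      have a0 := congrArg (fun y : S K => y 0 0) h1
      have a1 := congrArg (fun y : S K => y 0 1) h1
      have b1 := congrArg (fun y : S K => y 0 1) h2
      have b0 := congrArg (fun y : S K => y 0 0) h2
      simp only [neg_ij, mul00, mul01, w00, w01, w10, w11, J00, J01, J10, J11] at a0 a1 b0 b1
      have e3 : g 1 1 = g 0 0 := by linear_combination -a1
      have e4 : g 1 0 = - g 0 1 := by linear_combination -a0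
      have e1 : g 0 0 = 0 := by linear_combination -b1 + e3 + g 0 0 * h3
      rw [e1] at e3
      rw [e1, e4, e3] at hd
      right; left
      rw [pr_eq_iff]
      rcases key (g 0 1) (by linear_combination hd) with h | h
      · left
        exact ext2 (by rw [e1, w00]) (by rw [h, w01]) (by rw [e4, h, w10]) (by rw [e3, w11])
      · right
        exact ext2 (by rw [neg_ij, e1, w00, neg_zero]) (by rw [neg_ij, h, w01])
          (by rw [neg_ij, e4, h, w10]) (by rw [neg_ij, e3, w11, neg_zero])
    · -- anticommutes with i, commutes with j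
      have a0 := congrArg (fun y : S K => y 0 0) h1
      have a1 := congrArg (fun y : S K => y 0 1) h1
      have b1 := congrArg (fun y : S K => y 0 1) h2
      simp only [neg_ij, mul00, mul01, w00, w01, w10, w11, J00, J01, J10, J11] at a0 a1 b1
      have e1 : g 1 0 = g 0 1 := by linear_combination a0
      have e2 : g 1 1 = - g 0 0 := by linear_combination a1
      have e3 : g 0 1 = g 0 0 := by linear_combination b1 + e2 + g 0 1 * h3 - g 0 0 * h3
      rw [e1, e2, e3] at hd
      right; right; left
      rw [pr_eq_iff]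
      rcases key (g 0 0) (by linear_combination hd + g 0 0 ^ 2 * h3) with h | h
      · left
        exact ext2 (by rw [h, J00]) (by rw [e3, h, J01]) (by rw [e1, e3, h, J10])
          (by rw [e2, h, J11])
      · right
        exact ext2 (by rw [neg_ij, h, J00]) (by rw [neg_ij, e3, h, J01])
          (by rw [neg_ij, e1, e3, h, J10]) (by rw [neg_ij, e2, h, J11])
    · -- anticommutes with both
      have a0 := congrArg (fun y : S K => y 0 0) h1
      have a1 := congrArg (fun y : S K => y 0 1) h1
      have b0 := congrArg (fun y : S K => y 0 0) h2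
      simp only [neg_ij, mul00, mul01, w00, w01, w10, w11, J00, J01, J10, J11] at a0 a1 b0
      have e1 : g 1 0 = g 0 1 := by linear_combination a0
      have e2 : g 1 1 = - g 0 0 := by linear_combination a1
      have e3 : g 0 1 = - g 0 0 := by linear_combination -b0 + e1 + g 0 1 * h3 + g 0 0 * h3
      rw [e1, e2, e3] at hd
      right; right; right
      rw [← map_mul, pr_eq_iff]
      rcases key (g 0 0) (by linear_combination hd + g 0 0 ^ 2 * h3) with h | h
      · left
        refine ext2 ?_ ?_ ?_ ?_
        · rw [mul00, w00, w01, J00, J10, h]; ring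
        · rw [mul01, w00, w01, J01, J11, e3, h]; ring
        · rw [mul10, w10, w11, J00, J10, e1, e3, h]; ring
        · rw [mul11, w10, w11, J01, J11, e2, h]; ring
      · right
        refine ext2 ?_ ?_ ?_ ?_
        · rw [neg_ij, mul00, w00, w01, J00, J10, h]; ring
        · rw [neg_ij, mul01, w00, w01, J01, J11, e3, h]; ring
        · rw [neg_ij, mul10, w10, w11, J00, J10, e1, e3, h]; ring
        · rw [neg_ij, mul11, w10, w11, J01, J11, e2, h]; ring

end klein

/-- the structure of a torus of order `(q+1)/2` -/
structure TorusData (L : Type*) [Group L] (q : ℕ) (i j : L) (T : Subgroup L) : Prop where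
  cyc : IsCyclic T
  card : 2 * Nat.card T = q + 1
  i_mem : i ∈ T
  cent_i : ∀ x, x * i = i * x → x ∈ T ∨ x * j ∈ T
  inv : ∀ t ∈ T, j * t * j⁻¹ = t⁻¹
  cent : ∀ t ∈ T, t * t ≠ 1 → ∀ x, x * t = t * x → x ∈ T
  cardL : Nat.card L * 2 = q * (q ^ 2 - 1)
  three : ∀ x : L, x ^ 9 = 1 → x ^ 3 = 1

section torus

/-- the torus in `SL₂` -/
def T0 (K : Type*) [Field K] : Subgroup (S K) := centralizer {w}

/-- the torus in `PSL₂` -/
def T (K : Type*) [Field K] : Subgroup (L K) := (T0 K).map (pr K)

theorem mem_T0 {g : S K} : g ∈ T0 K ↔ g * w = w * g := mem_centralizer_singleton_iff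

theorem T0_entries {g : S K} (hg : g ∈ T0 K) : g 1 0 = - g 0 1 ∧ g 1 1 = g 0 0 := by
  obtain ⟨p, rfl⟩ := exists_rot (mem_T0.1 hg)
  exact ⟨rfl, rfl⟩

theorem mem_T0_of_entries {g : S K} (h1 : g 1 0 = - g 0 1) (h2 : g 1 1 = g 0 0) : g ∈ T0 K := by
  rw [mem_T0]
  refine ext2 ?_ ?_ ?_ ?_
  · rw [mul00, mul00, w00, w01, w10, h1]; ring
  · rw [mul01, mul01, w00, w01, w11, h2]; ring
  · rw [mul10, mul10, w00, w10, w11, h2]; ring
  · rw [mul11, mul11, w01, w10, w11, h1]; ring

theorem card_T0 [Fintype K] (hq : Fintype.card K % 4 = 3) : Nat.card (T0 K) = Fintype.card K + 1 := by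
  rw [← card_circle_three hq]
  symm
  apply Nat.card_congr
  refine Equiv.ofBijective (fun p => ⟨rot p, mem_T0.2 (rot_comm p)⟩) ⟨?_, ?_⟩
  · intro p r h
    exact rot_injective (congrArg Subtype.val h)
  · rintro ⟨g, hg⟩
    obtain ⟨p, hp⟩ := exists_rot (mem_T0.1 hg)
    exact ⟨p, Subtype.ext hp⟩

theorem isCyclic_T0 [Fintype K] (hq : Fintype.card K % 4 = 3) : IsCyclic (T0 K) := by
  obtain ⟨ι, hι⟩ := IsAlgClosed.exists_eq_mul_self (-1 : AlgebraicClosure K)
  let A := AlgebraicClosure K
  let c : K →+* A := algebraMap K A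
  let f : T0 K →* A :=
    { toFun := fun g => c ((g : S K) 0 0) + c ((g : S K) 0 1) * ι
      map_one' := by
        show c ((1 : S K) 0 0) + c ((1 : S K) 0 1) * ι = 1
        rw [one00, one01]; simp
      map_mul' := by
        rintro ⟨g, hg⟩ ⟨h, hh⟩
        show c ((g * h) 0 0) + c ((g * h) 0 1) * ι = (c (g 0 0) + c (g 0 1) * ι) * (c (h 0 0) + c (h 0 1) * ι)
        rw [mul00, mul01, (T0_entries hh).1, (T0_entries hh).2]
        simp only [map_add, map_mul, map_neg]
        linear_combination c (g 0 1) * c (h 0 1) * hι }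
  have hf : Function.Injective f := by
    rw [injective_iff_map_eq_one]
    rintro ⟨g, hg⟩ h1
    have h1' : c (g 0 0) + c (g 0 1) * ι = 1 := h1
    have hb : g 0 1 = 0 := by
      by_contra hb
      have hcb : c (g 0 1) ≠ 0 := by
        rwa [Ne, map_eq_zero]
      have hι2 : ι = c ((1 - g 0 0) / g 0 1) := by
        rw [map_div₀, map_sub, map_one, eq_div_iff hcb]
        linear_combination h1'
      have h3 : c (1 + ((1 - g 0 0) / g 0 1) ^ 2) = 0 := by
        rw [map_add, map_one, map_pow, ← hι2]
        linear_combination -hι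
      rw [map_eq_zero] at h3
      exact one_add_sq_ne_zero hq _ h3
    have ha : g 0 0 = 1 := by
      rw [hb, map_zero, zero_mul, add_zero] at h1'
      exact c.injective (by rw [h1', map_one])
    apply Subtype.ext
    show g = 1
    exact ext2 (by rw [ha, one00]) (by rw [hb, one01])
      (by rw [(T0_entries hg).1, hb, neg_zero, one10]) (by rw [(T0_entries hg).2, ha, one11])
  exact isCyclic_of_injective_ringHom f hf

theorem neg_one_mem_T0 : (-1 : S K) ∈ T0 K := by
  rw [mem_T0]; simp

theorem mem_T {g : S K} : pr K g ∈ T K ↔ g ∈ T0 K := by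
  constructor
  · rintro ⟨h, hh, e⟩
    rw [pr_eq_iff] at e
    rcases e with rfl | rfl
    · exact hh
    · have : g = (-1) * (-g) := by simp
      rw [this]
      exact (T0 K).mul_mem neg_one_mem_T0 hh
  · intro h
    exact ⟨g, h, rfl⟩

theorem one_ne_neg_one [CharP K 3] : (1 : S K) ≠ -1 := by
  intro h
  have := congrArg (fun y : S K => y 0 0) h
  simp only [neg_ij, one00] at this
  exact two_ne (K := K) (by linear_combination this)

theorem card_T [CharP K 3] [Fintype K] (hq : Fintype.card K % 4 = 3) :
    2 * Nat.card (T K) = Fintype.card K + 1 := by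
  rw [← card_T0 hq]
  have h1 := Subgroup.card_eq_card_quotient_mul_card_subgroup ((pr K).comp (T0 K).subtype).ker
  have h2 : Nat.card (T0 K ⧸ ((pr K).comp (T0 K).subtype).ker) = Nat.card (T K) := by
    rw [Nat.card_congr (QuotientGroup.quotientKerEquivRange ((pr K).comp (T0 K).subtype)).toEquiv]
    rw [MonoidHom.range_comp, Subgroup.range_subtype]
    rfl
  have h3 : Nat.card ((pr K).comp (T0 K).subtype).ker = 2 := by
    have : ((((pr K).comp (T0 K).subtype).ker : Subgroup (T0 K)) : Set (T0 K)) =
        {1, ⟨-1, neg_one_mem_T0⟩} := by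
      ext ⟨g, hg⟩
      rw [SetLike.mem_coe, MonoidHom.mem_ker]
      show pr K g = 1 ↔ _
      rw [pr_eq_one_iff]
      simp only [Set.mem_insert_iff, Set.mem_singleton_iff, Subtype.ext_iff]
      rfl
    have h4 := Set.ncard_pair (a := (1 : T0 K)) (b := ⟨-1, neg_one_mem_T0⟩) (by
      intro h
      exact one_ne_neg_one (K := K) (congrArg Subtype.val h))
    rw [← this] at h4
    rwa [← Nat.card_coe_set_eq] at h4
  rw [h1, h2, h3, mul_comm]

theorem trace_cube [CharP K 3] (g : S K) : (g ^ 3) 0 0 + (g ^ 3) 1 1 = (g 0 0 + g 1 1) ^ 3 := by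
  have h3 := three (K := K)
  have hd := det2 g
  rw [pow_succ, pow_two, mul00, mul11, mul00, mul01, mul10, mul11]
  linear_combination (-3 * (g 0 0 + g 1 1)) * hd +
    (g 0 0 * g 1 1 * (g 0 0 + g 1 1) * 0 - (g 0 0 + g 1 1)) * h3

theorem pow_three_of_trace [CharP K 3] (g : S K) (h : g 0 0 + g 1 1 = -1) : g ^ 3 = 1 := by
  have hd := det2 g
  have e : g 1 1 = -1 - g 0 0 := by linear_combination h
  have hbc : g 0 1 * g 1 0 = g 0 0 * (-1 - g 0 0) - 1 := by
    rw [e] at hd; linear_combination -hd
  rw [pow_succ, pow_two]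
  refine ext2 ?_ ?_ ?_ ?_
  · rw [mul00, mul00, mul01, one00, e]
    linear_combination (g 0 0 - 1) * hbc
  · rw [mul01, mul00, mul01, one01, e]
    linear_combination (g 0 1) * hbc
  · rw [mul10, mul10, mul11, one10, e]
    linear_combination (g 1 0) * hbc
  · rw [mul11, mul10, mul11, one11, e]
    linear_combination (- 2 - g 0 0) * hbc

theorem pow_nine_aux [CharP K 3] (g : S K) (h : g ^ 9 = 1) : g ^ 3 = 1 := by
  have h3 := three (K := K)
  apply pow_three_of_trace
  have h1 := trace_cube g
  have h2 := trace_cube (g ^ 3)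
  rw [← pow_mul, show 3 * 3 = 9 from rfl, h, one00, one11, h1] at h2
  have : CharP K 3 := inferInstance
  have hfact : Fact (Nat.Prime 3) := ⟨Nat.prime_three⟩
  have h5 : ((g 0 0 + g 1 1) + 1) ^ 9 = 0 := by
    have e1 : ((g 0 0 + g 1 1) + 1) ^ 9 = (g 0 0 + g 1 1) ^ 9 + 1 ^ 9 := by
      have := add_pow_char_pow (p := 3) (n := 2) (g 0 0 + g 1 1) 1
      norm_num at this ⊢
      exact this
    rw [e1]
    linear_combination -h2 + h3
  have h6 := pow_eq_zero_iff (n := 9) (by norm_num) |>.1 h5
  linear_combination h6

/-- the torus data for `PSL₂(q)` -/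
theorem torus [CharP K 3] [Fintype K] (hq : Fintype.card K % 4 = 3) :
    TorusData (L K) (Fintype.card K) (pr K w) (pr K (J K)) (T K) where
  cyc := by
    have := isCyclic_T0 (K := K) hq
    exact isCyclic_of_surjective ((pr K).subgroupMap (T0 K)) ((pr K).subgroupMap_surjective (T0 K))
  card := card_T hq
  i_mem := mem_T.2 (mem_T0.2 rfl)
  cent_i := by
    intro x hx
    obtain ⟨g, rfl⟩ := pr_surjective x
    rw [← map_mul, ← map_mul, pr_eq_iff] at hx
    rcases hx with h | h
    · left; exact mem_T.2 (mem_T0.2 h)
    · right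
      rw [← map_mul, mem_T, mem_T0]
      have hJ : J K * w = -(w * J K) := by rw [w_J, neg_neg]
      calc g * J K * w = g * (J K * w) := by rw [mul_assoc]
        _ = -(g * w * J K) := by rw [hJ]; simp [mul_assoc]
        _ = w * (g * J K) := by rw [h]; simp [mul_assoc]
  inv := by
    rintro _ ⟨g, hg, rfl⟩
    obtain ⟨h10, h11⟩ := T0_entries hg
    have hd := det2 g
    rw [h10, h11] at hd
    have key : g * (J K * g) = J K := by
      refine ext2 ?_ ?_ ?_ ?_
      · rw [mul00, mul00, mul10, J00, J01, J10, J11, h10]; linear_combination hd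
      · rw [mul01, mul01, mul11, J00, J01, J10, J11, h11]; linear_combination hd
      · rw [mul10, mul00, mul10, J00, J01, J10, J11, h10, h11]; linear_combination hd
      · rw [mul11, mul01, mul11, J00, J01, J10, J11, h10, h11]; linear_combination -hd
    rw [mul_inv_eq_iff_eq_mul, eq_inv_mul_iff_mul_eq, ← map_mul, ← map_mul, key]
  cent := by
    have h3 := three (K := K)
    rintro _ ⟨g, hg, rfl⟩ ht x hx
    obtain ⟨h, rfl⟩ := pr_surjective x
    obtain ⟨h10, h11⟩ := T0_entries hg
    have hd := det2 g
    rw [h10, h11] at hd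
    have hdh := det2 h
    rw [← map_mul, ← map_mul, pr_eq_iff] at hx
    rw [mem_T]
    rcases hx with e | e
    · have a0 := congrArg (fun y : S K => y 0 0) e
      have a1 := congrArg (fun y : S K => y 0 1) e
      simp only [mul00, mul01, h10, h11] at a0 a1
      have hb : g 0 1 ≠ 0 := by
        intro hb
        apply ht
        rw [hb] at hd h10
        have h1 : g * g = 1 := by
          refine ext2 ?_ ?_ ?_ ?_
          · rw [mul00, one00, hb]; linear_combination hd
          · rw [mul01, one01, hb]; ring
          · rw [mul10, one10, h10]; ring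
          · rw [mul11, one11, h10, h11]; linear_combination hd
        rw [← map_mul, h1, map_one]
      apply mem_T0_of_entries
      · have : g 0 1 * (h 1 0 + h 0 1) = 0 := by linear_combination -a0
        have := (mul_eq_zero.1 this).resolve_left hb
        linear_combination this
      · have : g 0 1 * (h 1 1 - h 0 0) = 0 := by linear_combination -a1
        have := (mul_eq_zero.1 this).resolve_left hb
        linear_combination this
    · exfalso
      have a0 := congrArg (fun y : S K => y 0 0) e
      have a1 := congrArg (fun y : S K => y 0 1) e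
      have a2 := congrArg (fun y : S K => y 1 0) e
      have a3 := congrArg (fun y : S K => y 1 1) e
      simp only [neg_ij, mul00, mul01, mul10, mul11, h10, h11] at a0 a1 a2 a3
      have ha : g 0 0 = 0 := by
        by_contra ha
        have h2 := two_ne (K := K)
        have e1 : h 0 0 = h 1 1 := by
          have : 2 * g 0 0 * (h 0 0 - h 1 1) = 0 := by linear_combination a0 - a3
          have := (mul_eq_zero.1 this).resolve_left (mul_ne_zero h2 ha)
          linear_combination this
        have e2 : h 1 0 = - h 0 1 := by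
          have : 2 * g 0 0 * (h 0 1 + h 1 0) = 0 := by linear_combination a1 + a2
          have := (mul_eq_zero.1 this).resolve_left (mul_ne_zero h2 ha)
          linear_combination this
        rw [e1, e2] at a0 hdh
        rw [e1] at a1
        apply ha
        have hz : 2 * g 0 0 = 0 := by
          linear_combination (-2 * g 0 0) * hdh + h 1 1 * a0 + h 0 1 * a1
        exact (mul_eq_zero.1 hz).resolve_left h2
      apply ht
      rw [ha] at hd h11
      have h1 : g * g = -1 := by
        refine ext2 ?_ ?_ ?_ ?_
        · rw [neg_ij, mul00, one00, ha, h10]; linear_combination -hd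
        · rw [neg_ij, mul01, one01, ha, h11]; ring
        · rw [neg_ij, mul10, one10, ha, h11]; ring
        · rw [neg_ij, mul11, one11, h10, h11]; linear_combination -hd
      rw [← map_mul, h1, pr_eq_one_iff]
      right; rfl
  cardL := by
    apply Cfsg.Agent.ClassicalGeometry.PSL2Basic.card_PSL2_odd
    rw [Nat.odd_iff]; omega
  three := by
    intro x hx
    obtain ⟨g, rfl⟩ := pr_surjective x
    rw [← map_pow, pr_eq_one_iff] at hx ⊢
    rcases hx with h | h
    · left; exact pow_nine_aux g h
    · right
      have h1 : (-g) ^ 9 = 1 := by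
        rw [neg_pow, h]; norm_num
      have h2 := pow_nine_aux (-g) h1
      rw [neg_pow] at h2
      have h4 : (-1 : S K) ^ 3 = -1 := by norm_num
      rw [h4] at h2
      calc g ^ 3 = -(-1 * g ^ 3) := by simp
        _ = -1 := by rw [h2]

end torus

end Cfsg.Agent.LieRecognition.ReePSL
end
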