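import Mathlib
import Cfsg.Prelude.Def_LieRecognition
set_option linter.all false

set_option autoImplicit false
open Cfsg

/-!
Basic facts about the rank-one set-up `Cfsg.IsRankOneSetup G Ω a t Q`:
double transitivity in elementary form, regularity of `Q` on `Ω \ {a}`, every involution has exactly one
fixed point, involutions of `G_a` lie in `Q`, product of an involution inside and one outside of `G_a`
has odd order, unique involution exchanging the two.
-/

namespace Cfsg.Agent.LieRecognition.RankOneBasic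

open MulAction

variable {G Ω : Type*} [Group G] [MulAction G Ω] {a : Ω} {t : G} {Q : Subgroup G}

/-- Elementary form of double transitivity. -/
theorem exists_smul_pair (hS : Cfsg.IsRankOneSetup G Ω a t Q) {b₁ b₂ c₁ c₂ : Ω}
    (hb : b₁ ≠ b₂) (hc : c₁ ≠ c₂) : ∃ g : G, g • b₁ = c₁ ∧ g • b₂ = c₂ :=
  (is_two_pretransitive_iff.1 hS.two_transitive) hb hc

theorem exists_smul_eq' (hS : Cfsg.IsRankOneSetup G Ω a t Q) (b c : Ω) : ∃ g : G, g • b = c := by
  have := hS.two_transitive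
  have : IsPretransitive G Ω := isPretransitive_of_is_two_pretransitive
  exact exists_smul_eq G b c

theorem t_smul_ne (hS : Cfsg.IsRankOneSetup G Ω a t Q) : t • a ≠ a := fun h =>
  hS.not_mem (mem_stabilizer_iff.2 h)

theorem t_smul_t_smul (hS : Cfsg.IsRankOneSetup G Ω a t Q) (x : Ω) : t • t • x = x := by
  rw [smul_smul, hS.mul_self, one_smul]

theorem t_inv (hS : Cfsg.IsRankOneSetup G Ω a t Q) : t⁻¹ = t :=
  inv_eq_of_mul_eq_one_left hS.mul_self

/-- `D` normalises `Q`, indeed `G_a` does. -/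
theorem stabilizer_le_normalizer (hS : Cfsg.IsRankOneSetup G Ω a t Q) :
    stabilizer G a ≤ Subgroup.normalizer (Q : Set G) := by
  intro d hd
  rw [Subgroup.mem_normalizer_iff]
  intro x
  constructor
  · intro hx
    exact hS.conj_mem d hd x hx
  · intro hx
    have := hS.conj_mem d⁻¹ (inv_mem hd) _ hx
    simpa [mul_assoc] using this

/-- Elements of `G_a` factor as `q * d` with `q ∈ Q` and `d ∈ D`. -/
theorem exists_mul_of_mem_stabilizer (hS : Cfsg.IsRankOneSetup G Ω a t Q) {g : G}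
    (hg : g ∈ stabilizer G a) :
    ∃ q ∈ Q, ∃ d ∈ stabilizer G a ⊓ stabilizer G (t • a), g = q * d := by
  have hD : stabilizer G a ⊓ stabilizer G (t • a) ≤ Subgroup.normalizer (Q : Set G) :=
    inf_le_left.trans (stabilizer_le_normalizer hS)
  have h : g ∈ Q ⊔ (stabilizer G a ⊓ stabilizer G (t • a)) := by rw [hS.sup_eq]; exact hg
  rw [← SetLike.mem_coe, Subgroup.coe_mul_of_right_le_normalizer_left Q _ hD] at h
  obtain ⟨q, hq, d, hd, rfl⟩ := h
  exact ⟨q, hq, d, hd, rfl⟩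

theorem smul_ne_of_mem {g : G} (hg : g ∈ stabilizer G a) {c : Ω} (hc : c ≠ a) : g • c ≠ a := by
  intro h
  apply hc
  have h1 : g • c = g • a := by rw [h, mem_stabilizer_iff.1 hg]
  exact smul_left_cancel g h1

/-- `Q` is transitive on `Ω \ {a}`, starting from `t • a`. -/
theorem exists_smul_t_smul (hS : Cfsg.IsRankOneSetup G Ω a t Q) {c : Ω} (hc : c ≠ a) :
    ∃ x ∈ Q, x • (t • a) = c := by
  obtain ⟨g, hga, hgb⟩ := exists_smul_pair hS (t_smul_ne hS).symm hc.symm
  obtain ⟨q, hq, d, hd, rfl⟩ := exists_mul_of_mem_stabilizer hS (mem_stabilizer_iff.2 hga)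
  refine ⟨q, hq, ?_⟩
  rw [mul_smul, mem_stabilizer_iff.1 hd.2] at hgb
  exact hgb

theorem eq_one_of_smul_t_smul (hS : Cfsg.IsRankOneSetup G Ω a t Q) {x : G} (hx : x ∈ Q)
    (h : x • (t • a) = t • a) : x = 1 := by
  have : x ∈ Q ⊓ stabilizer G (t • a) := ⟨hx, mem_stabilizer_iff.2 h⟩
  rw [hS.inf_eq_bot] at this
  exact Subgroup.mem_bot.1 this

/-- `Q` acts semiregularly on `Ω \ {a}`. -/
theorem eq_one_of_smul_eq (hS : Cfsg.IsRankOneSetup G Ω a t Q) {x : G} (hx : x ∈ Q) {c : Ω}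
    (hc : c ≠ a) (h : x • c = c) : x = 1 := by
  obtain ⟨y, hy, rfl⟩ := exists_smul_t_smul hS hc
  have h1 : (y⁻¹ * x * y) • (t • a) = t • a := by
    rw [mul_smul, mul_smul, h, inv_smul_smul]
  have h2 : y⁻¹ * x * y = 1 :=
    eq_one_of_smul_t_smul hS (mul_mem (mul_mem (inv_mem hy) hx) hy) h1
  have h3 : x = y * (y⁻¹ * x * y) * y⁻¹ := by group
  rw [h3, h2]; group

theorem exists_smul_eq_of_ne (hS : Cfsg.IsRankOneSetup G Ω a t Q) {b c : Ω} (hb : b ≠ a)
    (hc : c ≠ a) : ∃ x ∈ Q, x • b = c := by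
  obtain ⟨y, hy, rfl⟩ := exists_smul_t_smul hS hb
  obtain ⟨z, hz, rfl⟩ := exists_smul_t_smul hS hc
  exact ⟨z * y⁻¹, mul_mem hz (inv_mem hy), by rw [mul_smul, inv_smul_smul]⟩

/-- Two elements of `Q` with the same value at a point other than `a` are equal. -/
theorem eq_of_smul_eq_smul (hS : Cfsg.IsRankOneSetup G Ω a t Q) {x y : G} (hx : x ∈ Q)
    (hy : y ∈ Q) {c : Ω} (hc : c ≠ a) (h : x • c = y • c) : x = y := by
  have h1 : (x⁻¹ * y) • c = c := by rw [mul_smul, ← h, inv_smul_smul]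
  exact inv_mul_eq_one.1 (eq_one_of_smul_eq hS (mul_mem (inv_mem hx) hy) hc h1)

/-- `Q` acts regularly on `Ω \ {a}`. -/
theorem existsUnique_smul (hS : Cfsg.IsRankOneSetup G Ω a t Q) {b c : Ω} (hb : b ≠ a)
    (hc : c ≠ a) : ∃! x : Q, (x : G) • b = c := by
  obtain ⟨x, hx, hxb⟩ := exists_smul_eq_of_ne hS hb hc
  refine ⟨⟨x, hx⟩, hxb, ?_⟩
  rintro ⟨y, hy⟩ hyb
  exact Subtype.ext (eq_of_smul_eq_smul hS hy hx hb (hyb.trans hxb.symm))

/-- The equivalence `Q ≃ Ω \ {a}`, `x ↦ x • t • a`. -/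
theorem bijective_orbit_map (hS : Cfsg.IsRankOneSetup G Ω a t Q) :
    Function.Bijective (fun x : Q => (⟨(x : G) • (t • a),
      smul_ne_of_mem (hS.le x.2) (t_smul_ne hS)⟩ : {c : Ω // c ≠ a})) := by
  constructor
  · intro x y hxy
    exact Subtype.ext (eq_of_smul_eq_smul hS x.2 y.2 (t_smul_ne hS) (congrArg Subtype.val hxy))
  · rintro ⟨c, hc⟩
    obtain ⟨x, hx, h⟩ := exists_smul_t_smul hS hc
    exact ⟨⟨x, hx⟩, Subtype.ext h⟩

theorem finite_points [Finite G] (hS : Cfsg.IsRankOneSetup G Ω a t Q) : Finite Ω := by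
  apply Finite.of_surjective (fun g : G => g • a)
  intro c
  exact exists_smul_eq' hS a c

/-- `|Ω| = |Q| + 1`. -/
theorem card_points [Finite G] (hS : Cfsg.IsRankOneSetup G Ω a t Q) :
    Nat.card Ω = Nat.card Q + 1 := by
  classical
  have hfin := finite_points hS
  rw [Nat.card_congr (Equiv.ofBijective _ (bijective_orbit_map hS))]
  rw [← Nat.card_congr (Equiv.sumCompl (fun c : Ω => c = a)), Nat.card_sum]
  have : Nat.card {c : Ω // c = a} = 1 := by
    rw [Nat.card_eq_one_iff_unique]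
    exact ⟨⟨fun x y => Subtype.ext (x.2.trans y.2.symm)⟩, ⟨⟨a, rfl⟩⟩⟩
  rw [this, add_comm]

theorem odd_card_points [Finite G] (hS : Cfsg.IsRankOneSetup G Ω a t Q) : Odd (Nat.card Ω) := by
  rw [card_points hS]
  exact hS.even_card.add_one

/-- Any two-point stabiliser has odd order. -/
theorem odd_card_two_point [Finite G] (hS : Cfsg.IsRankOneSetup G Ω a t Q) {b c : Ω}
    (hbc : b ≠ c) : Odd (Nat.card ↥(stabilizer G b ⊓ stabilizer G c)) := by
  obtain ⟨g, hga, hgb⟩ := exists_smul_pair hS (t_smul_ne hS).symm hbc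
  have h1 : stabilizer G b ⊓ stabilizer G c =
      (stabilizer G a ⊓ stabilizer G (t • a)).map (MulAut.conj g).toMonoidHom := by
    ext x
    rw [Subgroup.mem_map_equiv]
    simp only [Subgroup.mem_inf, mem_stabilizer_iff, MulAut.conj_symm_apply]
    subst hga hgb
    rw [mul_smul, mul_smul, mul_smul, mul_smul, inv_smul_eq_iff, inv_smul_eq_iff]
  rw [h1, Subgroup.card_map_of_injective (MulAut.conj g).injective]
  exact hS.odd_card

/-- An element whose square is `1` and that fixes two distinct points is `1`. -/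
theorem eq_one_of_fixes_two [Finite G] (hS : Cfsg.IsRankOneSetup G Ω a t Q) {b c : Ω}
    (hbc : b ≠ c) {u : G} (hu : u * u = 1) (hb : u • b = b) (hc : u • c = c) : u = 1 := by
  have hodd := odd_card_two_point hS hbc
  have hmem : u ∈ stabilizer G b ⊓ stabilizer G c :=
    ⟨mem_stabilizer_iff.2 hb, mem_stabilizer_iff.2 hc⟩
  have h1 : (⟨u, hmem⟩ : ↥(stabilizer G b ⊓ stabilizer G c)) ^ 2 = 1 := by
    apply Subtype.ext
    simpa [pow_two] using hu
  have h2 : orderOf (⟨u, hmem⟩ : ↥(stabilizer G b ⊓ stabilizer G c)) ∣ 2 :=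
    orderOf_dvd_of_pow_eq_one h1
  have h3 := orderOf_dvd_natCard (⟨u, hmem⟩ : ↥(stabilizer G b ⊓ stabilizer G c))
  have h4 : orderOf (⟨u, hmem⟩ : ↥(stabilizer G b ⊓ stabilizer G c)) = 1 :=
    Nat.eq_one_of_dvd_coprimes (Nat.coprime_two_left.2 hodd) h2 h3
  exact congrArg Subtype.val (orderOf_eq_one_iff.1 h4)

/-- An involution has at least one fixed point. -/
theorem exists_fixed [Finite G] (hS : Cfsg.IsRankOneSetup G Ω a t Q) {u : G}
    (hu : u * u = 1) : ∃ c : Ω, u • c = c := by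
  have hfin := finite_points hS
  have hP : IsPGroup 2 (Subgroup.zpowers u) := by
    apply IsPGroup.of_card_dvd_pow (n := 1)
    rw [Nat.card_zpowers, pow_one]
    exact orderOf_dvd_of_pow_eq_one (by rw [pow_two, hu])
  have h2 : ¬ 2 ∣ Nat.card Ω := by
    have := odd_card_points hS
    rwa [← Nat.not_even_iff_odd, even_iff_two_dvd] at this
  obtain ⟨c, hc⟩ := hP.nonempty_fixed_point_of_prime_not_dvd_card Ω h2
  exact ⟨c, hc ⟨u, Subgroup.mem_zpowers u⟩⟩

/-- Every involution has at most one fixed point. -/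
theorem fixed_unique [Finite G] (hS : Cfsg.IsRankOneSetup G Ω a t Q) {u : G} (hu1 : u ≠ 1)
    (hu : u * u = 1) {b c : Ω} (hb : u • b = b) (hc : u • c = c) : b = c := by
  by_contra hbc
  exact hu1 (eq_one_of_fixes_two hS hbc hu hb hc)

/-- Every involution has exactly one fixed point. -/
theorem existsUnique_fixed [Finite G] (hS : Cfsg.IsRankOneSetup G Ω a t Q) {u : G} (hu1 : u ≠ 1)
    (hu : u * u = 1) : ∃! c : Ω, u • c = c := by
  obtain ⟨c, hc⟩ := exists_fixed hS hu
  exact ⟨c, hc, fun b hb => fixed_unique hS hu1 hu hb hc⟩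

/-- Involutions of `G_a` lie in `Q`. -/
theorem mem_of_mul_self [Finite G] (hS : Cfsg.IsRankOneSetup G Ω a t Q) {s : G}
    (hs : s ∈ stabilizer G a) (hs2 : s * s = 1) : s ∈ Q := by
  obtain ⟨q, hq, d, hd, rfl⟩ := exists_mul_of_mem_stabilizer hS hs
  -- the square of `q d` is `q (d q d⁻¹) d²`, so `d² ∈ Q ∩ D = 1`
  have h1 : d * d ∈ Q := by
    have h2 : q * (d * q * d⁻¹) * (d * d) = 1 := by
      rw [← hs2]; group
    have h3 : d * d = (q * (d * q * d⁻¹))⁻¹ := by
      rw [eq_inv_iff_mul_eq_one]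
      have := congrArg (fun z => (q * (d * q * d⁻¹))⁻¹ * z * (q * (d * q * d⁻¹))) h2
      simpa [mul_assoc] using this
    rw [h3]
    exact inv_mem (mul_mem hq (hS.conj_mem d hd.1 q hq))
  have h4 : d * d = 1 :=
    eq_one_of_smul_t_smul hS h1 (by
      rw [mul_smul, mem_stabilizer_iff.1 hd.2, mem_stabilizer_iff.1 hd.2])
  have h5 : d = 1 := eq_one_of_fixes_two hS (t_smul_ne hS) h4 (mem_stabilizer_iff.1 hd.2)
    (mem_stabilizer_iff.1 hd.1)
  rw [h5, mul_one]; exact hq

/-- `G_a` contains an involution. -/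
theorem exists_involution [Finite G] (hS : Cfsg.IsRankOneSetup G Ω a t Q) :
    ∃ s : G, s ∈ Q ∧ s ≠ 1 ∧ s * s = 1 := by
  have h2 : 2 ∣ Nat.card Q := even_iff_two_dvd.1 hS.even_card
  have : Fact (Nat.Prime 2) := ⟨Nat.prime_two⟩
  obtain ⟨x, hx⟩ := exists_prime_orderOf_dvd_card' 2 h2
  refine ⟨x, x.2, ?_, ?_⟩
  · intro h
    have : x = 1 := Subtype.ext h
    rw [this, orderOf_one] at hx
    omega
  · have := pow_orderOf_eq_one x
    rw [hx, pow_two] at this
    exact congrArg Subtype.val this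

/-- The product of two involutions with different fixed points has odd order. -/
theorem odd_orderOf_mul_of_fixed_ne [Finite G] (hS : Cfsg.IsRankOneSetup G Ω a t Q) {s u : G}
    (hs1 : s ≠ 1) (hs : s * s = 1) (hu1 : u ≠ 1) (hu : u * u = 1) {b c : Ω} (hb : s • b = b)
    (hc : u • c = c) (hbc : b ≠ c) : Odd (orderOf (s * u)) := by
  rw [← Nat.not_even_iff_odd]
  rintro ⟨k, hk⟩
  have hpos : 0 < orderOf (s * u) := orderOf_pos _
  have hk0 : 0 < k := by omega
  set x := s * u with hx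
  have hxk : x ^ k * x ^ k = 1 := by rw [← pow_add, ← hk, pow_orderOf_eq_one]
  have hxk1 : x ^ k ≠ 1 := by
    intro h
    have := Nat.le_of_dvd hk0 (orderOf_dvd_of_pow_eq_one h)
    omega
  have hsinv : s⁻¹ = s := inv_eq_of_mul_eq_one_left hs
  have huinv : u⁻¹ = u := inv_eq_of_mul_eq_one_left hu
  have hxkinv : (x ^ k)⁻¹ = x ^ k := inv_eq_of_mul_eq_one_left hxk
  have hsx : s * x * s⁻¹ = x⁻¹ := by
    rw [hx, mul_inv_rev, huinv, hsinv, ← mul_assoc, hs, one_mul]
  have hux : u * x * u⁻¹ = x⁻¹ := by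
    rw [hx, mul_inv_rev, huinv, hsinv, mul_assoc, mul_assoc, hu, mul_one]
  have hsc : s * x ^ k = x ^ k * s := by
    have : s * x ^ k * s⁻¹ = x ^ k := by rw [← conj_pow, hsx, inv_pow, hxkinv]
    rw [mul_inv_eq_iff_eq_mul] at this
    exact this
  have huc : u * x ^ k = x ^ k * u := by
    have : u * x ^ k * u⁻¹ = x ^ k := by rw [← conj_pow, hux, inv_pow, hxkinv]
    rw [mul_inv_eq_iff_eq_mul] at this
    exact this
  have hzb : x ^ k • b = b := by
    apply fixed_unique hS hs1 hs _ hb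
    rw [← mul_smul, hsc, mul_smul, hb]
  have hzc : x ^ k • c = c := by
    apply fixed_unique hS hu1 hu _ hc
    rw [← mul_smul, huc, mul_smul, hc]
  exact hxk1 (eq_one_of_fixes_two hS hbc hxk hzb hzc)

/-- The product of an involution of `G_a` and an involution outside of `G_a` has odd order. -/
theorem odd_orderOf_mul [Finite G] (hS : Cfsg.IsRankOneSetup G Ω a t Q) {s u : G}
    (hsa : s ∈ stabilizer G a) (hs1 : s ≠ 1) (hs : s * s = 1) (hua : u ∉ stabilizer G a)
    (hu1 : u ≠ 1) (hu : u * u = 1) : Odd (orderOf (s * u)) := by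
  obtain ⟨c, hc⟩ := exists_fixed hS hu
  refine odd_orderOf_mul_of_fixed_ne hS hs1 hs hu1 hu (mem_stabilizer_iff.1 hsa) hc ?_
  rintro rfl
  exact hua (mem_stabilizer_iff.2 hc)

/-- If two involutions have different fixed points, there is exactly one involution exchanging them. -/
theorem existsUnique_swap [Finite G] (hS : Cfsg.IsRankOneSetup G Ω a t Q) {s u : G}
    (hs1 : s ≠ 1) (hs : s * s = 1) (hu1 : u ≠ 1) (hu : u * u = 1) {b c : Ω} (hb : s • b = b)
    (hc : u • c = c) (hbc : b ≠ c) : ∃! w : G, w ≠ 1 ∧ w * w = 1 ∧ w * s * w = u := by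
  obtain ⟨n, hn⟩ := odd_orderOf_mul_of_fixed_ne hS hs1 hs hu1 hu hb hc hbc
  have hsinv : s⁻¹ = s := inv_eq_of_mul_eq_one_left hs
  have huinv : u⁻¹ = u := inv_eq_of_mul_eq_one_left hu
  obtain ⟨x, hx⟩ : ∃ x, x = s * u := ⟨_, rfl⟩
  rw [← hx] at hn
  have hpow : x ^ (2 * n + 1) = 1 := by rw [← hn, pow_orderOf_eq_one]
  have hux : u = s * x := by rw [hx, ← mul_assoc, hs, one_mul]
  have hsx : s * x * s = x⁻¹ := by
    rw [hx, mul_inv_rev, huinv, hsinv, ← mul_assoc, hs, one_mul]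
  have hsxp : ∀ j : ℕ, s * x ^ j * s = (x ^ j)⁻¹ := by
    intro j
    have : s * x ^ j * s⁻¹ = (x ^ j)⁻¹ := by
      rw [← conj_pow, hsinv, hsx, inv_pow]
    rwa [hsinv] at this
  -- the exchanging involution
  obtain ⟨w₀, hw₀⟩ : ∃ w₀, w₀ = s * x ^ (n + 1) := ⟨_, rfl⟩
  have hw₀2 : w₀ * w₀ = 1 := by
    calc w₀ * w₀ = (s * x ^ (n + 1) * s) * x ^ (n + 1) := by rw [hw₀]; group
    _ = 1 := by rw [hsxp]; group
  have hw₀s : w₀ * s * w₀ = u := by
    calc w₀ * s * w₀ = s * x ^ (n + 1) * (s * s) * x ^ (n + 1) := by rw [hw₀]; group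
    _ = s * (x ^ (n + 1) * x ^ (n + 1)) := by rw [hs]; group
    _ = s * (x ^ (2 * n + 1) * x) := by rw [← pow_add, ← pow_succ]; congr 2; ring
    _ = u := by rw [hpow, one_mul, hux]
  have hw₀1 : w₀ ≠ 1 := by
    intro h
    rw [h, one_mul, mul_one] at hw₀s
    apply hbc
    exact fixed_unique hS hs1 hs hb (by rw [hw₀s]; exact hc)
  refine ⟨w₀, ⟨hw₀1, hw₀2, hw₀s⟩, ?_⟩
  rintro w ⟨hw1, hw2, hws⟩
  -- `w` commutes with `w₀`
  have hwinv : w⁻¹ = w := inv_eq_of_mul_eq_one_left hw2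
  have hwu : w * u * w = s := by
    rw [← hws]
    calc w * (w * s * w) * w = (w * w) * s * (w * w) := by group
    _ = s := by rw [hw2]; group
  have hwx : w * x * w = x⁻¹ := by
    calc w * x * w = (w * s * w) * (w * u * w) := by
          rw [hx]
          calc w * (s * u) * w = w * s * 1 * u * w := by group
          _ = w * s * (w * w) * u * w := by rw [hw2]
          _ = (w * s * w) * (w * u * w) := by group
    _ = u * s := by rw [hws, hwu]
    _ = x⁻¹ := by rw [hx, mul_inv_rev, huinv, hsinv]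
  have hwxp : ∀ j : ℕ, w * x ^ j * w = (x ^ j)⁻¹ := by
    intro j
    have : w * x ^ j * w⁻¹ = (x ^ j)⁻¹ := by
      rw [← conj_pow, hwinv, hwx, inv_pow]
    rwa [hwinv] at this
  have hcomm : w * w₀ * w = w₀ := by
    calc w * w₀ * w = w * s * 1 * x ^ (n + 1) * w := by rw [hw₀]; group
    _ = w * s * (w * w) * x ^ (n + 1) * w := by rw [hw2]
    _ = (w * s * w) * (w * x ^ (n + 1) * w) := by group
    _ = s * x * (x ^ (n + 1))⁻¹ := by rw [hws, hwxp, hux]
    _ = s * x ^ (2 * n + 1) * x * (x ^ (n + 1))⁻¹ := by rw [hpow, mul_one]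
    _ = s * (x ^ (2 * n + 1) * x) * (x ^ (n + 1))⁻¹ := by group
    _ = s * (x ^ (n + 1) * x ^ (n + 1)) * (x ^ (n + 1))⁻¹ := by
        rw [← pow_add, ← pow_succ]; congr 3; ring
    _ = w₀ := by rw [hw₀]; group
  have hz2 : (w * w₀) * (w * w₀) = 1 := by
    calc (w * w₀) * (w * w₀) = (w * w₀ * w) * w₀ := by group
    _ = 1 := by rw [hcomm, hw₀2]
  -- `w w₀` centralises `s` and `u`, hence fixes both `b` and `c`
  have hws' : w * s = u * w := by
    rw [← hws]
    calc w * s = w * s * (w * w) := by rw [hw2, mul_one]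
    _ = w * s * w * w := by group
  have hwu' : w * u = s * w := by
    rw [← hwu]
    calc w * u = w * u * (w * w) := by rw [hw2, mul_one]
    _ = w * u * w * w := by group
  have hw₀s' : w₀ * s = u * w₀ := by
    rw [← hw₀s]
    calc w₀ * s = w₀ * s * (w₀ * w₀) := by rw [hw₀2, mul_one]
    _ = w₀ * s * w₀ * w₀ := by group
  have hw₀u' : w₀ * u = s * w₀ := by
    rw [← hw₀s]
    calc w₀ * (w₀ * s * w₀) = (w₀ * w₀) * s * w₀ := by group
    _ = s * w₀ := by rw [hw₀2, one_mul]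
  have hzb : (w * w₀) • b = b := by
    apply fixed_unique hS hs1 hs _ hb
    rw [← mul_smul]
    have : s * (w * w₀) = (w * w₀) * s := by
      calc s * (w * w₀) = (s * w) * w₀ := by group
      _ = w * (u * w₀) := by rw [← hwu']; group
      _ = (w * w₀) * s := by rw [← hw₀s']; group
    rw [this, mul_smul, hb]
  have hzc : (w * w₀) • c = c := by
    apply fixed_unique hS hu1 hu _ hc
    rw [← mul_smul]
    have : u * (w * w₀) = (w * w₀) * u := by
      calc u * (w * w₀) = (u * w) * w₀ := by group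
      _ = w * (s * w₀) := by rw [← hws']; group
      _ = (w * w₀) * u := by rw [← hw₀u']; group
    rw [this, mul_smul, hc]
  have hz1 : w * w₀ = 1 := eq_one_of_fixes_two hS hbc hz2 hzb hzc
  calc w = w * (w₀ * w₀) := by rw [hw₀2, mul_one]
  _ = (w * w₀) * w₀ := by group
  _ = w₀ := by rw [hz1, one_mul]

end Cfsg.Agent.LieRecognition.RankOneBasic
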