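import Mathlib
import Cfsg.Agent.S1119
set_option linter.all false

/-!
Involutions in the rank-one set-up `Cfsg.IsRankOneSetup G Ω a t Q`:
* an involution has exactly one fixed point,
* an element of order two commuting with `u` fixes the fixed point of `u`,
* the product of two involutions with different fixed points has odd order,
* all involutions are conjugate,
* the kernel of the action has odd order.
-/

set_option autoImplicit false

namespace Cfsg.Agent.LieRecognition.RankOneInvolutions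

open MulAction

variable {G Ω : Type*} [Group G] [MulAction G Ω] {a : Ω} {t : G} {Q : Subgroup G}

/-- A finite permutation with square one of a set of odd cardinality has a fixed point. -/
theorem exists_fixed_of_odd {X : Type*} [Finite X] (hodd : Odd (Nat.card X)) (σ : Equiv.Perm X)
    (hσ : σ * σ = 1) : ∃ x, σ x = x := by
  classical
  have : Fintype X := Fintype.ofFinite X
  have h2 : ¬ 2 ∣ Fintype.card X := by
    rw [Nat.card_eq_fintype_card] at hodd
    intro h
    exact (Nat.not_even_iff_odd.mpr hodd) (even_iff_two_dvd.mpr h)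
  exact Equiv.Perm.exists_fixed_point_of_prime (p := 2) (n := 1) h2 (by
    rw [pow_one, pow_two, hσ])

/-- Every element of order (at most) two has a fixed point. -/
theorem exists_fixed [Finite G] (hS : Cfsg.IsRankOneSetup G Ω a t Q) {u : G} (hu : u * u = 1) :
    ∃ b : Ω, u • b = b := by
  have := Cfsg.Agent.S1119.finite_Omega hS
  have hodd : Odd (Nat.card Ω) := by
    rw [Cfsg.Agent.S1119.card_Omega hS]
    exact hS.even_card.add_one
  obtain ⟨b, hb⟩ := exists_fixed_of_odd hodd (MulAction.toPerm u : Equiv.Perm Ω) (by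
    ext x
    show u • u • x = x
    rw [smul_smul, hu, one_smul])
  exact ⟨b, hb⟩

/-- Two-point stabilisers have odd order: an element of order two fixes at most one point. -/
theorem fixed_unique [Finite G] (hS : Cfsg.IsRankOneSetup G Ω a t Q) {u : G} (hu1 : u ≠ 1)
    (hu : u * u = 1) {b c : Ω} (hb : u • b = b) (hc : u • c = c) : b = c := by
  by_contra hbc
  have h2 := hS.two_transitive
  rw [MulAction.is_two_pretransitive_iff] at h2
  obtain ⟨g, hgb, hgc⟩ := h2 hbc (Cfsg.Agent.S1119.ta_ne hS).symm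
  -- `g u g⁻¹` lies in `D`
  have hD : g * u * g⁻¹ ∈ MulAction.stabilizer G a ⊓ MulAction.stabilizer G (t • a) := by
    constructor
    · show (g * u * g⁻¹) • a = a
      rw [mul_smul, mul_smul, ← hgb, inv_smul_smul, hb]
    · show (g * u * g⁻¹) • (t • a) = t • a
      rw [mul_smul, mul_smul, ← hgc, inv_smul_smul, hc]
  have h4 : (⟨g * u * g⁻¹, hD⟩ : ↥(MulAction.stabilizer G a ⊓ MulAction.stabilizer G (t • a))) ^ 2
      = 1 := by
    apply Subtype.ext
    show (g * u * g⁻¹) ^ 2 = 1
    rw [pow_two]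
    have : g * u * g⁻¹ * (g * u * g⁻¹) = g * (u * u) * g⁻¹ := by group
    rw [this, hu]; group
  have h5 : orderOf (⟨g * u * g⁻¹, hD⟩ :
      ↥(MulAction.stabilizer G a ⊓ MulAction.stabilizer G (t • a))) ∣ 2 := orderOf_dvd_of_pow_eq_one h4
  have h6 := orderOf_dvd_natCard (⟨g * u * g⁻¹, hD⟩ :
      ↥(MulAction.stabilizer G a ⊓ MulAction.stabilizer G (t • a)))
  have h7 : Nat.Coprime 2 (Nat.card ↥(MulAction.stabilizer G a ⊓ MulAction.stabilizer G (t • a))) :=
    hS.odd_card.coprime_two_left
  have h8 := Nat.eq_one_of_dvd_coprimes h7 h5 h6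
  rw [orderOf_eq_one_iff] at h8
  have h9 : g * u * g⁻¹ = 1 := congrArg Subtype.val h8
  apply hu1
  have : u = g⁻¹ * (g * u * g⁻¹) * g := by group
  rw [this, h9]; group

/-- An involution has exactly one fixed point. -/
theorem existsUnique_fixed [Finite G] (hS : Cfsg.IsRankOneSetup G Ω a t Q) {u : G} (hu1 : u ≠ 1)
    (hu : u * u = 1) : ∃! b : Ω, u • b = b := by
  obtain ⟨b, hb⟩ := exists_fixed hS hu
  exact ⟨b, hb, fun c hc => fixed_unique hS hu1 hu hc hb⟩

/-- Anything commuting with an involution fixes its fixed point. -/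
theorem smul_eq_of_comm [Finite G] (hS : Cfsg.IsRankOneSetup G Ω a t Q) {u x : G} (hu1 : u ≠ 1)
    (hu : u * u = 1) (hux : u * x = x * u) {b : Ω} (hb : u • b = b) : x • b = b := by
  apply fixed_unique hS hu1 hu (b := x • b) (c := b) _ hb
  rw [smul_smul, hux, mul_smul, hb]

/-- Two commuting involutions have the same fixed point. -/
theorem fixed_eq_of_comm [Finite G] (hS : Cfsg.IsRankOneSetup G Ω a t Q) {u v : G} (hu1 : u ≠ 1)
    (hu : u * u = 1) (hv1 : v ≠ 1) (hv : v * v = 1) (huv : u * v = v * u) {b c : Ω}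
    (hb : u • b = b) (hc : v • c = c) : b = c :=
  fixed_unique hS hv1 hv (smul_eq_of_comm hS hu1 hu huv hb) hc

/-- The product of two involutions with different fixed points has odd order. -/
theorem odd_orderOf_mul [Finite G] (hS : Cfsg.IsRankOneSetup G Ω a t Q) {s u : G} (hs1 : s ≠ 1)
    (hs : s * s = 1) (_hu1 : u ≠ 1) (hu : u * u = 1) {b : Ω} (hb : s • b = b) (hub : u • b ≠ b) :
    Odd (orderOf (s * u)) := by
  rw [← Nat.not_even_iff_odd]
  intro hev
  obtain ⟨k, hk⟩ := hev
  have hpos : 0 < orderOf (s * u) := orderOf_pos (s * u)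
  have hkpos : 0 < k := by omega
  have hsi : s⁻¹ = s := inv_eq_of_mul_eq_one_right hs
  have hui : u⁻¹ = u := inv_eq_of_mul_eq_one_right hu
  -- the central involution of the dihedral group
  set z := (s * u) ^ k with hz
  have hz1 : z ≠ 1 := by
    intro h
    have := Nat.le_of_dvd hkpos (orderOf_dvd_of_pow_eq_one h)
    omega
  have hzz : z * z = 1 := by
    rw [hz, ← pow_add, ← hk, pow_orderOf_eq_one]
  have hzi : z⁻¹ = z := inv_eq_of_mul_eq_one_right hzz
  have hszs : s * z * s⁻¹ = z := by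
    have h1 : s * z * s⁻¹ = (s * (s * u) * s⁻¹) ^ k := by rw [hz, conj_pow]
    have h2 : s * (s * u) * s⁻¹ = (s * u)⁻¹ := by
      rw [mul_inv_rev, hsi, hui, ← mul_assoc, hs, one_mul]
    rw [h1, h2, inv_pow, ← hz, hzi]
  have hsz : s * z = z * s := mul_inv_eq_iff_eq_mul.mp hszs
  have huz : u * z = z * u := by
    have h1 : (s * u) * z = z * (s * u) := by
      rw [hz, ← pow_succ', ← pow_succ]
    have h2 : s * (u * z) = s * (z * u) := by
      rw [← mul_assoc, h1, ← mul_assoc, ← hsz, mul_assoc]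
    exact mul_left_cancel h2
  have hzb : z • b = b := smul_eq_of_comm hS hs1 hs hsz hb
  exact hub (smul_eq_of_comm hS hz1 hzz huz.symm hzb)

/-- Two involutions whose product has odd order are conjugate. -/
theorem isConj_of_odd {s u : G} (hs : s * s = 1) (hu : u * u = 1)
    (hodd : Odd (orderOf (s * u))) : ∃ g : G, g * s * g⁻¹ = u := by
  obtain ⟨k, hk⟩ := hodd
  have hsi : s⁻¹ = s := inv_eq_of_mul_eq_one_right hs
  have hui : u⁻¹ = u := inv_eq_of_mul_eq_one_right hu
  -- `y = (s u) ^ k`, `s y s = y⁻¹`, `y⁻¹ s y = s y ^ 2 = s (s u)⁻¹ ...`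
  set y := (s * u) ^ k with hy
  have hsy : s * y * s⁻¹ = y⁻¹ := by
    have h2 : s * (s * u) * s⁻¹ = (s * u)⁻¹ := by
      rw [mul_inv_rev, hsi, hui, ← mul_assoc, hs, one_mul]
    rw [hy, ← conj_pow, h2, inv_pow]
  have hyy : y * y * (s * u) = 1 := by
    have : k + k + 1 = orderOf (s * u) := by omega
    rw [hy, ← pow_add, ← pow_succ, this, pow_orderOf_eq_one]
  refine ⟨y, ?_⟩
  have h3 : s * y⁻¹ = y * s := by
    rw [← hsy]
    have : s * (s * y * s⁻¹) = (s * s) * y * s⁻¹ := by group
    rw [this, hs, one_mul, hsi]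
  have h4 : y * y = (s * u)⁻¹ := eq_inv_of_mul_eq_one_left hyy
  rw [mul_assoc, h3, ← mul_assoc, h4, mul_inv_rev, hsi, hui, mul_assoc, hs, mul_one]

/-- There are involutions fixing any given point. -/
theorem exists_involution_fixing [Finite G] (hS : Cfsg.IsRankOneSetup G Ω a t Q) (b : Ω) :
    ∃ w : G, w ≠ 1 ∧ w * w = 1 ∧ w • b = b := by
  have htt := hS.mul_self
  obtain ⟨c, hc⟩ := exists_fixed hS htt
  have := Cfsg.Agent.S1119.isPretransitive hS
  obtain ⟨g, hg⟩ := MulAction.exists_smul_eq G c b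
  refine ⟨g * t * g⁻¹, ?_, ?_, ?_⟩
  · intro h
    apply hS.ne_one
    have : t = g⁻¹ * (g * t * g⁻¹) * g := by group
    rw [this, h]; group
  · have : g * t * g⁻¹ * (g * t * g⁻¹) = g * (t * t) * g⁻¹ := by group
    rw [this, htt]; group
  · rw [mul_smul, mul_smul, ← hg, inv_smul_smul, hc]

/-- All involutions are conjugate. -/
theorem isConj_involutions [Finite G] (hS : Cfsg.IsRankOneSetup G Ω a t Q) {u v : G} (hu1 : u ≠ 1)
    (hu : u * u = 1) (hv1 : v ≠ 1) (hv : v * v = 1) : ∃ g : G, g * u * g⁻¹ = v := by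
  obtain ⟨b, hb⟩ := exists_fixed hS hu
  obtain ⟨c, hc⟩ := exists_fixed hS hv
  -- a third point
  obtain ⟨d, hdb, hdc⟩ : ∃ d : Ω, d ≠ b ∧ d ≠ c := by
    have h3 : 3 ≤ Nat.card Ω := by
      rw [Cfsg.Agent.S1119.card_Omega hS]
      have h1 := hS.even_card
      have h2 : 0 < Nat.card Q := Nat.card_pos
      obtain ⟨k, hk⟩ := h1
      omega
    by_contra hcon
    push Not at hcon
    have hfin := Cfsg.Agent.S1119.finite_Omega hS
    have hsub : (Set.univ : Set Ω) ⊆ {b, c} := by
      intro d _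
      by_cases hd : d = b
      · left; exact hd
      · right; exact hcon d hd
    have h4 : Nat.card Ω ≤ 2 := by
      rw [← Set.ncard_univ]
      refine (Set.ncard_le_ncard hsub (Set.toFinite _)).trans ?_
      refine (Set.ncard_insert_le b {c}).trans ?_
      rw [Set.ncard_singleton]
    omega
  obtain ⟨w, hw1, hw, hwd⟩ := exists_involution_fixing hS d
  have hwb : w • b ≠ b := fun h => hdb (fixed_unique hS hw1 hw hwd h)
  have hwc : w • c ≠ c := fun h => hdc (fixed_unique hS hw1 hw hwd h)
  obtain ⟨g, hg⟩ := isConj_of_odd hu hw (odd_orderOf_mul hS hu1 hu hw1 hw hb hwb)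
  obtain ⟨h, hh⟩ := isConj_of_odd hv hw (odd_orderOf_mul hS hv1 hv hw1 hw hc hwc)
  refine ⟨h⁻¹ * g, ?_⟩
  have : h⁻¹ * g * u * (h⁻¹ * g)⁻¹ = h⁻¹ * (g * u * g⁻¹) * h := by group
  rw [this, hg, ← hh]; group

/-- The kernel of the action is contained in the two-point stabiliser `D`. -/
theorem normalCore_le (hS : Cfsg.IsRankOneSetup G Ω a t Q) :
    (MulAction.stabilizer G a).normalCore ≤
      MulAction.stabilizer G a ⊓ MulAction.stabilizer G (t • a) := by
  intro g hg
  have := Cfsg.Agent.S1119.isPretransitive hS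
  have key : ∀ b : Ω, g • b = b := by
    intro b
    obtain ⟨x, rfl⟩ := MulAction.exists_smul_eq G a b
    have h1 : x⁻¹ * g * x ∈ (MulAction.stabilizer G a).normalCore := by
      have := (Subgroup.normalCore_normal (MulAction.stabilizer G a)).conj_mem g hg x⁻¹
      simpa using this
    have h2 : (x⁻¹ * g * x) • a = a := Subgroup.normalCore_le _ h1
    rw [mul_smul, mul_smul, inv_smul_eq_iff] at h2
    exact h2
  exact ⟨key a, key (t • a)⟩

/-- The kernel of the action has odd order. -/
theorem odd_card_normalCore (hS : Cfsg.IsRankOneSetup G Ω a t Q) :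
    Odd (Nat.card (MulAction.stabilizer G a).normalCore) :=
  Odd.of_dvd_nat hS.odd_card (Subgroup.card_dvd_of_le (normalCore_le hS))

end Cfsg.Agent.LieRecognition.RankOneInvolutions
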