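import Mathlib
set_option linter.all false

set_option autoImplicit false

/-!
Elementary lemmas on finite permutation groups of odd degree without non-identity elements fixing
three points (the case "even regular normal subgroup" of Zassenhaus groups), for the structure equation.
-/

namespace Cfsg.Agent.LieRecognition.ZassEven

/-- abstract part of the structure equation -/
theorem abs_key {A : Type*} [AddCommGroup A] (K Q : A →+ A) (hK : Function.Injective K)
    (hQ : Function.Injective Q) (R S : A) (hR : R ≠ 0)
    (j : ℕ) (hj : 2 ^ j • R = 0) (hS : S + S = 0)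
    (hstar : Q R - R = K (Q S) + K (K (Q R)) - K (K (K R)))
    (hT : ∀ T, T + T = 0 → Q T = K T + T)
    (hKT : ∀ T, K T = T → T = 0) : R = S := by
  classical
  have hex : ∃ j : ℕ, 2 ^ j • R = 0 := ⟨j, hj⟩
  obtain ⟨i, hi⟩ : ∃ i, Nat.find hex = i + 1 := by
    cases h : Nat.find hex with
    | zero =>
      exfalso
      have := Nat.find_spec hex
      rw [h] at this
      simp at this
      exact hR this
    | succ n => exact ⟨n, rfl⟩
  have h1 : 2 ^ (i + 1) • R = 0 := hi ▸ Nat.find_spec hex
  have h2 : 2 ^ i • R ≠ 0 := Nat.find_min hex (by omega)
  have neg_eq : ∀ T : A, T + T = 0 → -T = T := fun T hT' => neg_eq_of_add_eq_zero_left hT'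
  have hTT : 2 ^ i • R + 2 ^ i • R = 0 := by
    rw [← add_smul, ← two_mul, ← pow_succ']; exact h1
  cases i with
  | zero =>
    simp only [pow_zero, one_smul] at hTT
    have e1 := hT R hTT
    have e2 := hT S hS
    have n1 := neg_eq R hTT
    have e3 : K R + K R = 0 := by rw [← map_add, hTT, map_zero]
    have e4 : K (K R) + K (K R) = 0 := by rw [← map_add, e3, map_zero]
    have e5 : K (K (K R)) + K (K (K R)) = 0 := by rw [← map_add, e4, map_zero]
    rw [e1] at hstar
    have e6 : K R = K (Q S) + K (K R) := by
      have : K (K (K R + R)) - K (K (K R)) = K (K R) := by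
        rw [map_add, map_add]; abel
      have h3 : K R + R - R = K R := by abel
      rw [h3, add_sub_assoc, this] at hstar
      exact hstar
    have e7 : R = Q S + K R := by
      apply hK
      rw [map_add]; exact e6
    have e8 : Q R = Q S := by
      rw [e1]
      have : K R + R = K R + (Q S + K R) := congrArg (fun t => K R + t) e7
      rw [this]
      have : K R + (Q S + K R) = Q S + (K R + K R) := by abel
      rw [this, e3, add_zero]
    exact hQ e8
  | succ i =>
    exfalso
    set n := 2 ^ (i + 1) with hn
    have hnS : n • S = 0 := by
      rw [hn, pow_succ, mul_smul, two_smul, hS, smul_zero]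
    set T := n • R with hTdef
    have e0 : Q T - T = K (K (Q T)) - K (K (K T)) := by
      have := congrArg (fun t => n • t) hstar
      simp only [smul_sub, smul_add] at this
      rw [← map_nsmul, ← map_nsmul K, ← map_nsmul Q, hnS, ← map_nsmul K, ← map_nsmul K,
        ← map_nsmul Q, ← map_nsmul K, ← map_nsmul K, ← map_nsmul K, map_zero, map_zero, zero_add] at this
      exact this
    have e1 := hT T hTT
    have e3 : K T + K T = 0 := by rw [← map_add, hTT, map_zero]
    rw [e1, map_add, map_add] at e0
    have e6 : K T = K (K T) := by
      have h3 : K T + T - T = K T := by abel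
      have h4 : K (K (K T)) + K (K T) - K (K (K T)) = K (K T) := by abel
      rw [h3, h4] at e0
      exact e0
    exact h2 (hKT T (hK e6).symm)

end Cfsg.Agent.LieRecognition.ZassEven
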