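import Mathlib
import Cfsg.Prelude.Def_Solvable
import Cfsg.Agent.Lib.Cores
import Cfsg.Agent.S0044
import Cfsg.Agent.S1160
set_option linter.all false

/-!
Transitive linear groups of odd order: the `p`-cores are cyclic and act fixed-point-freely, hence so
does the Fitting subgroup; with solvability the quotient by the Fitting subgroup is abelian.
-/

set_option autoImplicit false

namespace Cfsg.Agent.LieRecognition.OddTransFitting

open Cfsg.Agent.Lib.Cores

section

variable {D E : Type*} [Group D] [Finite D]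
    [AddCommGroup E] [Finite E] [DistribMulAction D E] [FaithfulSMul D E]

/-- Normal `p`-subgroups (`p ≠ 2`) of a transitive linear group are cyclic and fixed-point-free. -/
theorem normal_pgroup {q : ℕ} (hq : q.Prime) (hE : ∀ e : E, q • e = 0)
    (htrans : ∀ a b : E, a ≠ 0 → b ≠ 0 → ∃ d : D, d • a = b)
    {p : ℕ} [Fact p.Prime] (hp2 : p ≠ 2) (P : Subgroup D) [hPn : P.Normal] (hP : IsPGroup p P) :
    IsCyclic P ∧ ∀ g ∈ P, g ≠ 1 → ∀ a : E, g • a = a → a = 0 := by
  have hf : FaithfulSMul P E := ⟨fun {x y} h => Subtype.ext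
    (FaithfulSMul.eq_of_smul_eq_smul (fun e : E => h e))⟩
  have hconst : ∀ a b : E, a ≠ 0 → b ≠ 0 →
      Nat.card (MulAction.stabilizer P a) = Nat.card (MulAction.stabilizer P b) := by
    intro a b ha hb
    obtain ⟨d, hd⟩ := htrans a b ha hb
    refine Nat.card_congr ?_
    refine
      { toFun := fun x => ⟨⟨d * (x : P) * d⁻¹, hPn.conj_mem _ (x : P).2 d⟩, ?_⟩
        invFun := fun x => ⟨⟨d⁻¹ * (x : P) * d, by
          simpa using hPn.conj_mem _ (x : P).2 d⁻¹⟩, ?_⟩
        left_inv := ?_
        right_inv := ?_ }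
    · rw [MulAction.mem_stabilizer_iff]
      show (d * ((x : P) : D) * d⁻¹) • b = b
      have hx : ((x : P) : D) • a = a := MulAction.mem_stabilizer_iff.1 x.2
      rw [← hd, mul_smul, mul_smul, inv_smul_smul, hx]
    · rw [MulAction.mem_stabilizer_iff]
      show (d⁻¹ * ((x : P) : D) * d) • a = a
      have hx : ((x : P) : D) • b = b := MulAction.mem_stabilizer_iff.1 x.2
      rw [mul_smul, mul_smul, hd, hx, ← hd, inv_smul_smul]
    · intro x
      apply Subtype.ext
      apply Subtype.ext
      simp [mul_assoc]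
    · intro x
      apply Subtype.ext
      apply Subtype.ext
      simp [mul_assoc]
  obtain ⟨h1, h2⟩ := Cfsg.Agent.S1160.result hp2 hP hq hE hconst
  refine ⟨h1, fun g hg hg1 a ha => ?_⟩
  exact h2 ⟨g, hg⟩ (fun h => hg1 (congrArg Subtype.val h)) a ha

theorem fitting_isCyclic_and_free (hodd : Odd (Nat.card D)) {q : ℕ} (hq : q.Prime)
    (hE : ∀ e : E, q • e = 0)
    (htrans : ∀ a b : E, a ≠ 0 → b ≠ 0 → ∃ d : D, d • a = b) :
    IsCyclic ↥(Cfsg.fittingSubgroup D) ∧
      (∀ g ∈ Cfsg.fittingSubgroup D, g ≠ 1 → ∀ a : E, g • a = a → a = 0) := by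
  set F := Cfsg.fittingSubgroup D with hF
  haveI hFn : F.Normal := fittingSubgroup_normal
  haveI hFnil : Group.IsNilpotent F := fittingSubgroup_isNilpotent
  -- a prime dividing the order of `D` is odd
  have hodd' : ∀ p : ℕ, p.Prime → p ∣ Nat.card F → p ≠ 2 := by
    rintro p hp hd rfl
    have : 2 ∣ Nat.card D := hd.trans (Subgroup.card_subgroup_dvd_card F)
    exact (Nat.not_even_iff_odd.2 hodd) (even_iff_two_dvd.2 this)
  -- Sylow subgroups of `F`
  have key : ∀ p : ℕ, p.Prime → p ∣ Nat.card F → ∀ Q : Sylow p F,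
      IsCyclic Q ∧ ∀ g : F, g ∈ (Q : Subgroup F) → g ≠ 1 → ∀ a : E, (g : D) • a = a → a = 0 := by
    intro p hp hd Q
    haveI : Fact p.Prime := ⟨hp⟩
    have hQn : (Q : Subgroup F).Normal := by
      infer_instance
    have hQc : (Q : Subgroup F).Characteristic := Q.characteristic_of_normal hQn
    have hn : ((Q : Subgroup F).map F.subtype).Normal := by
      infer_instance
    have hpg : IsPGroup p ((Q : Subgroup F).map F.subtype) := Q.isPGroup'.map _
    obtain ⟨h1, h2⟩ := normal_pgroup (E := E) hq hE htrans (hodd' p hp hd) ((Q : Subgroup F).map F.subtype) hpg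
    refine ⟨?_, ?_⟩
    · exact isCyclic_of_injective
        (((Q : Subgroup F).equivMapOfInjective F.subtype F.subtype_injective).toMonoidHom)
        (MulEquiv.injective _)
    · intro g hg hg1 a ha
      exact h2 g ⟨g, hg, rfl⟩ (fun h => hg1 (Subtype.ext h)) a ha
  constructor
  · haveI : IsZGroup F := by
      refine ⟨fun p hp Q => ?_⟩
      haveI : Fact p.Prime := ⟨hp⟩
      by_cases hd : p ∣ Nat.card F
      · exact (key p hp hd Q).1
      · have : (Q : Subgroup F) = ⊥ := by
          rw [← Subgroup.card_eq_one]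
          obtain ⟨n, hn⟩ := (IsPGroup.iff_card.1 Q.isPGroup')
          rcases Nat.eq_zero_or_pos n with h0 | h0
          · rw [hn, h0, pow_zero]
          · exfalso
            apply hd
            have h3 : Nat.card (Q : Subgroup F) ∣ Nat.card F := Subgroup.card_subgroup_dvd_card _
            rw [hn] at h3
            exact (dvd_pow_self p h0.ne').trans h3
        rw [this]
        infer_instance
    infer_instance
  · intro g hg hg1 a ha
    by_contra ha0
    set x : F := ⟨g, hg⟩ with hx
    have hx1 : x ≠ 1 := fun h => hg1 (congrArg Subtype.val h)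
    have ho : orderOf x ≠ 1 := fun h => hx1 (orderOf_eq_one_iff.1 h)
    obtain ⟨p, hp, hpd⟩ := Nat.exists_prime_and_dvd ho
    haveI : Fact p.Prime := ⟨hp⟩
    obtain ⟨k, hk⟩ := hpd
    have hk0 : k ≠ 0 := by
      rintro rfl
      rw [mul_zero] at hk
      exact (orderOf_pos x).ne' hk
    have hxk : orderOf (x ^ k) = p := by
      rw [orderOf_pow' x hk0, hk, Nat.gcd_eq_right (Dvd.intro_left p rfl)]
      exact Nat.mul_div_cancel _ (Nat.pos_of_ne_zero hk0)
    have hpg : IsPGroup p (Subgroup.zpowers (x ^ k)) := by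
      apply IsPGroup.of_card (n := 1)
      rw [Nat.card_zpowers, hxk, pow_one]
    obtain ⟨Q, hQ⟩ := hpg.exists_le_sylow
    have hpd' : p ∣ Nat.card F := by
      rw [← hxk]
      exact orderOf_dvd_natCard _
    refine ha0 ((key p hp hpd' Q).2 (x ^ k) (hQ (Subgroup.mem_zpowers _)) ?_ a ?_)
    · intro h
      rw [h, orderOf_one] at hxk
      exact hp.one_lt.ne hxk
    · have : ∀ n : ℕ, (((x ^ n : F) : D)) • a = a := by
        intro n
        induction n with
        | zero => simp
        | succ n ih =>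
          rw [pow_succ, Subgroup.coe_mul, mul_smul]
          rw [show ((x : F) : D) • a = a from ha, ih]
      exact this k

theorem commutator_le_of_isSolvable [Group.IsSolvable D]
    (hF : IsCyclic ↥(Cfsg.fittingSubgroup D)) : commutator D ≤ Cfsg.fittingSubgroup D := by
  haveI hFn : (Cfsg.fittingSubgroup D).Normal := fittingSubgroup_normal
  refine le_trans ?_ (Cfsg.Agent.S0044.centralizer_fitting_le D hFn)
  -- `D` acts on the cyclic group `F` through an abelian group
  have h1 : commutator D ≤ (MulAut.conjNormal (H := Cfsg.fittingSubgroup D)).ker := by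
    rw [commutator_def, Subgroup.commutator_le]
    intro x _ y _
    rw [MonoidHom.mem_ker, commutatorElement_def, map_mul, map_mul, map_mul, map_inv, map_inv]
    have : ∀ a b : MulAut (Cfsg.fittingSubgroup D), a * b = b * a := by
      intro a b
      obtain ⟨k, hk⟩ := MonoidHom.map_cyclic a.toMonoidHom
      obtain ⟨l, hl⟩ := MonoidHom.map_cyclic b.toMonoidHom
      have hk' : ∀ g, a g = g ^ k := hk
      have hl' : ∀ g, b g = g ^ l := hl
      ext g
      rw [MulAut.mul_apply, MulAut.mul_apply, hl', hk', hk', hl', ← zpow_mul, ← zpow_mul, mul_comm]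
    rw [this (MulAut.conjNormal x), mul_assoc (MulAut.conjNormal y), mul_inv_cancel, mul_one,
      mul_inv_cancel]
  intro g hg
  rw [Subgroup.mem_centralizer_iff]
  intro h hh
  have h2 := h1 hg
  rw [MonoidHom.mem_ker] at h2
  have h3 := congrArg (fun f : MulAut (Cfsg.fittingSubgroup D) => ((f ⟨h, hh⟩ : Cfsg.fittingSubgroup D) : D)) h2
  simp only [MulAut.conjNormal_apply, MulAut.one_apply] at h3
  rw [mul_inv_eq_iff_eq_mul] at h3
  exact h3.symm

end

end Cfsg.Agent.LieRecognition.OddTransFitting
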