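import Mathlib
set_option linter.all false

/-!
Higman's theorem on Suzuki 2-groups, first part: a finite 2-group with a commutative group of automorphisms of odd
order which is transitive on involutions, all of whose elements of order dividing 4 are central, is abelian.
-/

set_option autoImplicit false

namespace Cfsg.Agent.LieRecognition.HigmanCentral

/-- Key lemma: an alternating biadditive equivariant map on a "Singer module" of odd-order Singer group vanishes. -/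
theorem key {E K : Type*} [CommGroup E] [Group K] [MulDistribMulAction K E]
    (hcomm : ∀ a b : K, a * b = b * a)
    (hE2 : ∀ e : E, e * e = 1)
    (htrans : ∀ x y : E, x ≠ 1 → y ≠ 1 → ∃ k : K, k • x = y)
    (hsq : ∀ k : K, ∃ m : K, m * m = k)
    (B : E → E → E)
    (hBl : ∀ x y z, B (x * y) z = B x z * B y z)
    (hBr : ∀ x y z, B x (y * z) = B x y * B x z)
    (halt : ∀ x, B x x = 1)
    (hBK : ∀ (k : K) x y, B (k • x) (k • y) = k • B x y) :
    ∀ x y, B x y = 1 := by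
  have hinv : ∀ e : E, e⁻¹ = e := fun e => inv_eq_of_mul_eq_one_left (hE2 e)
  have hB1l : ∀ z, B 1 z = 1 := fun z => by
    have := hBl 1 1 z
    simpa using this
  have hB1r : ∀ z, B z 1 = 1 := fun z => by
    have := hBr z 1 1
    simpa using this
  have hsymm : ∀ x y, B x y = B y x := by
    intro x y
    have h := halt (x * y)
    rw [hBl, hBr, hBr, halt, halt, one_mul, mul_one] at h
    rw [eq_inv_of_mul_eq_one_left h, hinv]
  intro u y
  by_cases hu : u = 1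
  · rw [hu, hB1l]
  by_cases hy : y = 1
  · rw [hy, hB1r]
  obtain ⟨k', hk'⟩ := htrans u y hu hy
  obtain ⟨k, rfl⟩ := hsq k'
  subst hk'
  by_cases hku : k • u = u
  · rw [mul_smul, hku, hku, halt]
  have h1 : (k • u) * u ≠ 1 := by
    intro h
    exact hku (by rw [eq_inv_of_mul_eq_one_left h, hinv])
  obtain ⟨k₁, hk₁⟩ := htrans u _ hu h1
  have hrel : ∀ v : E, k₁ • v = (k • v) * v := by
    intro v
    by_cases hv : v = 1
    · rw [hv]; simp
    obtain ⟨m, rfl⟩ := htrans u v hu hv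
    rw [smul_smul, hcomm, mul_smul, hk₁, smul_mul', smul_smul, smul_smul, hcomm m k]
  -- `g m = B u (m • u)`
  have hg : ∀ m : K, B u (m • u) = m • B u (m⁻¹ • u) := by
    intro m
    rw [hsymm, ← hBK, smul_smul, mul_inv_cancel, one_smul]
  have hw : B u (k₁ • u) = B u (k • u) := by
    rw [hrel, hBr, halt, mul_one]
  have hsum : ∀ v : E, (k⁻¹ • v) * (k₁⁻¹ • v) = (k * k₁)⁻¹ • v := by
    intro v
    have h2 : (k * k₁) • ((k⁻¹ • v) * (k₁⁻¹ • v)) = v := by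
      rw [smul_mul', smul_smul, smul_smul]
      have e1 : k * k₁ * k⁻¹ = k₁ := by rw [hcomm k k₁]; group
      have e2 : k * k₁ * k₁⁻¹ = k := by group
      rw [e1, e2, hrel, mul_right_comm, hE2, one_mul]
    rw [eq_inv_smul_iff, h2]
  have h3 : B u ((k * k₁)⁻¹ • u) = (k * k₁)⁻¹ • B u (k • u) := by
    rw [← hsum u, hBr, ← hsum (B u (k • u))]
    have e1 : B u (k⁻¹ • u) = k⁻¹ • B u (k • u) := by
      rw [hg k, inv_smul_smul]
    have e2 : B u (k₁⁻¹ • u) = k₁⁻¹ • B u (k • u) := by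
      rw [← hw, hg k₁, inv_smul_smul]
    rw [e1, e2]
  have h4 : B u ((k * k₁) • u) = B u (k • u) := by
    rw [hg, h3, smul_inv_smul]
  have h5 : (k * k₁) • u = ((k * k) • u) * (k • u) := by
    rw [mul_smul, hrel, smul_mul', smul_smul]
  rw [h5, hBr] at h4
  simpa using h4


/-- Relational form of `key`, for two subgroups `X`, `Y` mapping onto the group `E` of involutions. -/
theorem key2 {P K : Type*} [Group P] [Group K] [MulDistribMulAction K P]
    (hcomm : ∀ a b : K, a * b = b * a)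
    (hsq : ∀ k : K, ∃ m : K, m * m = k)
    (hT : ∀ x y : P, x ≠ 1 → x * x = 1 → y ≠ 1 → y * y = 1 → ∃ k : K, k • x = y)
    (hcent : ∀ x : P, x * x = 1 → ∀ y : P, x * y = y * x)
    (X Y : Subgroup P) (hXK : ∀ k : K, ∀ x ∈ X, k • x ∈ X) (hYK : ∀ k : K, ∀ y ∈ Y, k • y ∈ Y)
    (p q : P → P) (β : P → P → P)
    (hp : ∀ e : P, e * e = 1 → ∃ x ∈ X, p x = e) (hq : ∀ e : P, e * e = 1 → ∃ y ∈ Y, q y = e)
    (hpmul : ∀ x ∈ X, ∀ x' ∈ X, p (x * x') = p x * p x')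
    (hqmul : ∀ y ∈ Y, ∀ y' ∈ Y, q (y * y') = q y * q y')
    (hpK : ∀ k : K, ∀ x ∈ X, p (k • x) = k • p x) (hqK : ∀ k : K, ∀ y ∈ Y, q (k • y) = k • q y)
    (hβE : ∀ x ∈ X, ∀ y ∈ Y, β x y * β x y = 1)
    (hβX : ∀ x ∈ X, ∀ y ∈ Y, p x = 1 → β x y = 1)
    (hβY : ∀ x ∈ X, ∀ y ∈ Y, q y = 1 → β x y = 1)
    (hβl : ∀ x ∈ X, ∀ x' ∈ X, ∀ y ∈ Y, β (x * x') y = β x y * β x' y)
    (hβr : ∀ x ∈ X, ∀ y ∈ Y, ∀ y' ∈ Y, β x (y * y') = β x y * β x y')
    (halt : ∀ e : P, e * e = 1 → ∃ x ∈ X, ∃ y ∈ Y, p x = e ∧ q y = e ∧ β x y = 1)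
    (hβK : ∀ k : K, ∀ x ∈ X, ∀ y ∈ Y, β (k • x) (k • y) = k • β x y)
    (hpE : ∀ x ∈ X, p x * p x = 1) (hqE : ∀ y ∈ Y, q y * q y = 1) :
    ∀ x ∈ X, ∀ y ∈ Y, β x y = 1 := by
  classical
  let E : Subgroup P :=
    { carrier := {x | x * x = 1}
      mul_mem' := by
        intro a b ha hb
        change a * b * (a * b) = 1
        have ha' : a * a = 1 := ha
        have hb' : b * b = 1 := hb
        calc a * b * (a * b) = a * (b * a) * b := by group
          _ = a * (a * b) * b := by rw [← hcent a ha' b]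
          _ = (a * a) * (b * b) := by group
          _ = 1 := by rw [ha', hb', one_mul]
      one_mem' := by change (1 : P) * 1 = 1; simp
      inv_mem' := by
        intro a ha
        change a⁻¹ * a⁻¹ = 1
        rw [← mul_inv_rev, show a * a = 1 from ha, inv_one] }
  have hE : ∀ x : P, x ∈ E ↔ x * x = 1 := fun x => Iff.rfl
  let cgE : CommGroup E :=
    { (inferInstance : Group E) with
      mul_comm := fun a b => Subtype.ext (hcent a a.2 b) }
  let actE : MulDistribMulAction K E :=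
    { smul := fun k e => ⟨k • (e : P), by
        rw [hE, ← smul_mul', show (e : P) * e = 1 from e.2, smul_one]⟩
      one_smul := fun e => Subtype.ext (one_smul K (e : P))
      mul_smul := fun k l e => Subtype.ext (mul_smul k l (e : P))
      smul_mul := fun k e f => Subtype.ext (smul_mul' k (e : P) (f : P))
      smul_one := fun k => Subtype.ext (smul_one k) }
  choose fx hfxX hfx using hp
  choose fy hfyY hfy using hq
  -- well-definedness
  have hp1 : p 1 = 1 := by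
    have := hpmul 1 X.one_mem 1 X.one_mem
    simpa using this
  have hq1 : q 1 = 1 := by
    have := hqmul 1 Y.one_mem 1 Y.one_mem
    simpa using this
  have hwd1 : ∀ x ∈ X, ∀ x' ∈ X, ∀ y ∈ Y, p x = p x' → β x y = β x' y := by
    intro x hx x' hx' y hy h
    have e1 : p (x * x'⁻¹) = 1 := by
      have e2 := hpmul (x * x'⁻¹) (X.mul_mem hx (X.inv_mem hx')) x' hx'
      rw [inv_mul_cancel_right, h] at e2
      exact (mul_eq_right.mp e2.symm)
    have e3 := hβl (x * x'⁻¹) (X.mul_mem hx (X.inv_mem hx')) x' hx' y hy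
    rw [inv_mul_cancel_right, hβX _ (X.mul_mem hx (X.inv_mem hx')) y hy e1, one_mul] at e3
    exact e3
  have hwd2 : ∀ x ∈ X, ∀ y ∈ Y, ∀ y' ∈ Y, q y = q y' → β x y = β x y' := by
    intro x hx y hy y' hy' h
    have e1 : q (y * y'⁻¹) = 1 := by
      have e2 := hqmul (y * y'⁻¹) (Y.mul_mem hy (Y.inv_mem hy')) y' hy'
      rw [inv_mul_cancel_right, h] at e2
      exact (mul_eq_right.mp e2.symm)
    have e3 := hβr x hx (y * y'⁻¹) (Y.mul_mem hy (Y.inv_mem hy')) y' hy'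
    rw [inv_mul_cancel_right, hβY x hx _ (Y.mul_mem hy (Y.inv_mem hy')) e1, one_mul] at e3
    exact e3
  let B : E → E → E := fun e e' => ⟨β (fx e e.2) (fy e' e'.2), hβE _ (hfxX _ _) _ (hfyY _ _)⟩
  have hB : ∀ (e e' : E), ∀ x ∈ X, ∀ y ∈ Y, p x = e → q y = e' → (B e e' : P) = β x y := by
    intro e e' x hx y hy hxe hye
    change β (fx e e.2) (fy e' e'.2) = β x y
    rw [hwd1 _ (hfxX _ _) x hx _ (hfyY _ _) (by rw [hfx, hxe]),
      hwd2 x hx _ (hfyY _ _) y hy (by rw [hfy, hye])]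
  have hkey := key (E := E) (K := K) hcomm (fun e => Subtype.ext e.2) (by
      intro x y hx hy
      obtain ⟨k, hk⟩ := hT x y (fun h => hx (Subtype.ext h)) x.2 (fun h => hy (Subtype.ext h)) y.2
      exact ⟨k, Subtype.ext hk⟩) hsq B (by
      intro x y z
      apply Subtype.ext
      rw [hB (x * y) z (fx x x.2 * fx y y.2) (X.mul_mem (hfxX _ _) (hfxX _ _)) (fy z z.2) (hfyY _ _)
        (by rw [hpmul _ (hfxX _ _) _ (hfxX _ _), hfx, hfx]; rfl) (hfy _ _)]
      rw [hβl _ (hfxX _ _) _ (hfxX _ _) _ (hfyY _ _)]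
      rfl) (by
      intro x y z
      apply Subtype.ext
      rw [hB x (y * z) (fx x x.2) (hfxX _ _) (fy y y.2 * fy z z.2) (Y.mul_mem (hfyY _ _) (hfyY _ _))
        (hfx _ _) (by rw [hqmul _ (hfyY _ _) _ (hfyY _ _), hfy, hfy]; rfl)]
      rw [hβr _ (hfxX _ _) _ (hfyY _ _) _ (hfyY _ _)]
      rfl) (by
      intro x
      apply Subtype.ext
      obtain ⟨a, ha, b, hb, h1, h2, h3⟩ := halt x x.2
      rw [hB x x a ha b hb h1 h2, h3]
      rfl) (by
      intro k x y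
      apply Subtype.ext
      rw [hB (k • x) (k • y) (k • fx x x.2) (hXK _ _ (hfxX _ _)) (k • fy y y.2) (hYK _ _ (hfyY _ _))
        (by rw [hpK _ _ (hfxX _ _), hfx]; rfl) (by rw [hqK _ _ (hfyY _ _), hfy]; rfl)]
      rw [hβK _ _ (hfxX _ _) _ (hfyY _ _)]
      rfl)
  intro x hx y hy
  have h1 := hB ⟨p x, hpE x hx⟩ ⟨q y, hqE y hy⟩ x hx y hy rfl rfl
  rw [← h1, hkey]
  rfl


/-- Descent: if the elements of order dividing 4 are central, and `y` normalises the abelian group `A`, with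
`y² ∈ A`, then `[b, y]² = 1` for `b ∈ A`. -/
theorem comm_sq_eq_one {P : Type*} [Group P] {n : ℕ} (hn : ∀ x : P, x ^ (2 ^ n) = 1)
    (h4 : ∀ x : P, x ^ 4 = 1 → ∀ y, x * y = y * x)
    (A : Subgroup P) (hA : ∀ x ∈ A, ∀ y ∈ A, x * y = y * x)
    (y : P) (hyA : ∀ b ∈ A, y⁻¹ * b * y ∈ A) (hy2 : y * y ∈ A) :
    ∀ b ∈ A, (b⁻¹ * (y⁻¹ * b * y)) ^ 2 = 1 := by
  set d : P → P := fun b => b⁻¹ * (y⁻¹ * b * y) with hd
  have hdA : ∀ b ∈ A, d b ∈ A := fun b hb => A.mul_mem (A.inv_mem hb) (hyA b hb)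
  have hdmul : ∀ b ∈ A, ∀ b' ∈ A, d (b * b') = d b * d b' := by
    intro b hb b' hb'
    have e1 := hA b'⁻¹ (A.inv_mem hb') _ (hdA b hb)
    calc d (b * b') = b'⁻¹ * (d b) * (y⁻¹ * b' * y) := by simp only [hd]; group
      _ = (d b) * b'⁻¹ * (y⁻¹ * b' * y) := by rw [e1]
      _ = d b * d b' := by simp only [hd]; group
  have hd1 : d 1 = 1 := by simp [hd]
  have hdpow : ∀ b ∈ A, ∀ k : ℕ, d (b ^ k) = d b ^ k := by
    intro b hb k
    induction k with
    | zero => simp [hd1]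
    | succ k ih => rw [pow_succ, hdmul _ (A.pow_mem hb k) _ hb, ih, pow_succ]
  have hdd : ∀ b ∈ A, d b ^ 2 * d (d b) = 1 := by
    intro b hb
    have e1 := hA b hb _ hy2
    have e2 : b * (d b ^ 2 * d (d b)) = (y * y)⁻¹ * b * (y * y) := by
      have e3 : y⁻¹ * b * y = b * d b := by simp only [hd]; group
      have e4 : y⁻¹ * d b * y = d b * d (d b) := by simp only [hd]; group
      calc b * (d b ^ 2 * d (d b)) = (b * d b) * (d b * d (d b)) := by rw [pow_two]; group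
        _ = (y⁻¹ * b * y) * (y⁻¹ * d b * y) := by rw [e3, e4]
        _ = y⁻¹ * (b * d b) * y := by group
        _ = y⁻¹ * (y⁻¹ * b * y) * y := by rw [e3]
        _ = (y * y)⁻¹ * b * (y * y) := by group
    rw [mul_assoc, e1, inv_mul_cancel_left] at e2
    exact mul_eq_left.mp e2
  have main : ∀ m : ℕ, (∀ b ∈ A, d b ^ (2 ^ (m + 1)) = 1) → ∀ b ∈ A, d b ^ 2 = 1 := by
    intro m
    induction m with
    | zero => intro h; simpa using h
    | succ m ih =>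
      intro h
      apply ih
      intro b hb
      have hc := hdA b hb
      have h5 : (d b ^ (2 ^ m)) ^ 4 = 1 := by
        rw [← pow_mul, show 2 ^ m * 4 = 2 ^ (m + 1 + 1) by ring]
        exact h b hb
      have h6 : d (d b ^ (2 ^ m)) = 1 := by
        have := h4 _ h5 y
        generalize d b ^ (2 ^ m) = w at this
        change w⁻¹ * (y⁻¹ * w * y) = 1
        rw [mul_assoc y⁻¹, this]
        group
      rw [hdpow _ hc] at h6
      have h7 := hdd b hb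
      rw [pow_succ, mul_comm (2 ^ m) 2, pow_mul, eq_inv_of_mul_eq_one_left h7, inv_pow, h6, inv_one]
  exact main n fun b hb => by rw [pow_succ, pow_mul, hn, one_pow]

/-- The step: a group with an abelian subgroup containing its squares is abelian. -/
theorem step {P K : Type*} [Group P] [Group K] [MulDistribMulAction K P]
    {n : ℕ} (hn : ∀ x : P, x ^ (2 ^ n) = 1)
    (hcomm : ∀ a b : K, a * b = b * a)
    (hsq : ∀ k : K, ∃ m : K, m * m = k)
    (hT : ∀ x y : P, x ≠ 1 → x * x = 1 → y ≠ 1 → y * y = 1 → ∃ k : K, k • x = y)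
    (h4 : ∀ x : P, x ^ 4 = 1 → ∀ y, x * y = y * x)
    (A : Subgroup P) (hAK : ∀ k : K, ∀ x ∈ A, k • x ∈ A)
    (hA : ∀ x ∈ A, ∀ y ∈ A, x * y = y * x)
    (H : Subgroup P) (hHK : ∀ k : K, ∀ x ∈ H, k • x ∈ H)
    (hAH : A ≤ H) (hHA : ∀ x ∈ H, x * x ∈ A) :
    ∀ x ∈ H, ∀ y ∈ H, x * y = y * x := by
  classical
  have hcent : ∀ x : P, x * x = 1 → ∀ y : P, x * y = y * x := fun x hx y =>
    h4 x (by rw [show 4 = 2 * 2 by rfl, pow_mul, pow_two x, hx, one_pow]) y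
  -- commutators and normality
  have hcommA : ∀ x ∈ H, ∀ y ∈ H, x⁻¹ * y * x * y⁻¹ ∈ A := by
    intro x hx y hy
    have e : x⁻¹ * y * x * y⁻¹ =
        ((x⁻¹ * y) * (x⁻¹ * y)) * ((y⁻¹ * x * y) * (y⁻¹ * x * y)) * (y⁻¹ * y⁻¹) := by group
    rw [e]
    have hxi := H.inv_mem hx
    have hyi := H.inv_mem hy
    exact A.mul_mem (A.mul_mem (hHA _ (H.mul_mem hxi hy))
      (hHA _ (H.mul_mem (H.mul_mem hyi hx) hy))) (hHA _ hyi)
  have hnorm : ∀ y ∈ H, ∀ b ∈ A, y⁻¹ * b * y ∈ A := by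
    intro y hy b hb
    have e : y⁻¹ * b * y = (y⁻¹ * b * y * b⁻¹) * b := by group
    rw [e]
    exact A.mul_mem (hcommA y hy b (hAH hb)) hb
  -- step 1
  have hd2 : ∀ y ∈ H, ∀ b ∈ A, (b⁻¹ * (y⁻¹ * b * y)) ^ 2 = 1 := fun y hy b hb =>
    comm_sq_eq_one hn h4 A hA y (hnorm y hy) (hHA y hy) b hb
  -- exponent of `A`
  have hex : ∃ f : ℕ, ∀ a ∈ A, a ^ (2 ^ f) = 1 := ⟨n, fun a _ => hn a⟩
  obtain ⟨f, hf, hfmin⟩ : ∃ f : ℕ, (∀ a ∈ A, a ^ (2 ^ f) = 1) ∧
      ∀ m < f, ¬ ∀ a ∈ A, a ^ (2 ^ m) = 1 := ⟨Nat.find hex, Nat.find_spec hex, fun m hm => Nat.find_min hex hm⟩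
  rcases Nat.lt_or_ge f 2 with hf2 | hf2
  · -- `H` has exponent dividing 4
    intro x hx y _
    apply h4
    have : (x * x) ^ (2 ^ 1) = 1 := by
      have h1 := hf (x * x) (hHA x hx)
      have h2 : (2 : ℕ) ^ 1 = 2 ^ f * 2 ^ (1 - f) := by
        rw [← pow_add]; congr 1; omega
      rw [h2, pow_mul, h1, one_pow]
    rw [← pow_two, ← pow_mul] at this
    exact this
  obtain ⟨g, rfl⟩ : ∃ g, f = g + 2 := ⟨f - 2, by omega⟩
  obtain ⟨a₀, ha₀, ha₀1⟩ : ∃ a₀ ∈ A, a₀ ^ (2 ^ (g + 1)) ≠ 1 := by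
    have := hfmin (g + 1) (by omega)
    push Not at this
    exact this
  have hdbl : ∀ (x : P) (m : ℕ), x ^ (2 ^ (m + 1)) = (x ^ 2 ^ m) * (x ^ 2 ^ m) := by
    intro x m
    rw [pow_succ, pow_mul, pow_two]
  -- every involution is a `2^(g+1)`-th power of an element of `A`
  have hinvA : ∀ x : P, x * x = 1 → ∃ c ∈ A, c ^ (2 ^ (g + 1)) = x := by
    intro x hx
    by_cases hx1 : x = 1
    · exact ⟨1, A.one_mem, by rw [hx1, one_pow]⟩
    obtain ⟨k, hk⟩ := hT (a₀ ^ (2 ^ (g + 1))) x ha₀1 (by rw [← hdbl]; exact hf a₀ ha₀) hx1 hx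
    exact ⟨k • a₀, hAK k a₀ ha₀, by rw [← smul_pow', hk]⟩
  have hEA : ∀ x : P, x * x = 1 → x ∈ A := by
    intro x hx
    obtain ⟨c, hc, rfl⟩ := hinvA x hx
    exact A.pow_mem hc _
  -- square roots of involutions
  have hroot4 : ∀ x : P, x * x = 1 → ∃ e ∈ A, e ^ 4 = 1 ∧ e * e = x := by
    intro x hx
    obtain ⟨c, hc, hcx⟩ := hinvA x hx
    refine ⟨c ^ (2 ^ g), A.pow_mem hc _, ?_, ?_⟩
    · rw [← pow_mul, show 2 ^ g * 4 = 2 ^ (g + 2) by ring]
      exact hf c hc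
    · rw [← hdbl, hcx]
  -- homocyclicity
  have hhomo : ∀ j, j ≤ g + 1 → ∀ a ∈ A, a ^ (2 ^ j) = 1 → ∃ b ∈ A, a = b * b := by
    intro j
    induction j with
    | zero => intro _ a _ h; exact ⟨1, A.one_mem, by simpa using h⟩
    | succ j ih =>
      intro hj a ha h
      obtain ⟨c, hc, hcx⟩ := hinvA (a ^ (2 ^ j)) (by rw [← hdbl]; exact h)
      have hcomm1 : Commute a (c ^ (2 ^ (g + 1 - j)))⁻¹ :=
        hA _ ha _ (A.inv_mem (A.pow_mem hc _))
      obtain ⟨b, hb, hb2⟩ := ih (by omega) (a * (c ^ (2 ^ (g + 1 - j)))⁻¹)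
        (A.mul_mem ha (A.inv_mem (A.pow_mem hc _))) (by
          rw [hcomm1.mul_pow, inv_pow, ← pow_mul, ← pow_add, show g + 1 - j + j = g + 1 by omega, hcx,
            mul_inv_cancel])
      refine ⟨b * c ^ (2 ^ (g - j)), A.mul_mem hb (A.pow_mem hc _), ?_⟩
      have e1 : c ^ (2 ^ (g + 1 - j)) = c ^ (2 ^ (g - j)) * c ^ (2 ^ (g - j)) := by
        rw [show g + 1 - j = (g - j) + 1 by omega, hdbl]
      have e2 := hA _ hb _ (A.pow_mem hc (2 ^ (g - j)))
      calc a = (a * (c ^ (2 ^ (g + 1 - j)))⁻¹) * c ^ (2 ^ (g + 1 - j)) := by group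
        _ = b * b * (c ^ (2 ^ (g - j)) * c ^ (2 ^ (g - j))) := by rw [hb2, e1]
        _ = b * (b * c ^ (2 ^ (g - j))) * c ^ (2 ^ (g - j)) := by group
        _ = b * (c ^ (2 ^ (g - j)) * b) * c ^ (2 ^ (g - j)) := by rw [e2]
        _ = b * c ^ 2 ^ (g - j) * (b * c ^ 2 ^ (g - j)) := by group
  -- step 2
  have hker : ∀ y ∈ H, y ^ (2 ^ (g + 2)) = 1 → y ∈ A := by
    intro y hy h
    obtain ⟨b, hb, hyb⟩ := hhomo (g + 1) le_rfl (y * y) (hHA y hy) (by
      rw [← pow_two, ← pow_mul, ← pow_succ']; exact h)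
    have hdb := hd2 y hy b hb
    rw [pow_two] at hdb
    obtain ⟨e, he, he4, hee⟩ := hroot4 _ hdb
    have hec := h4 e he4
    have h1 : (y * b⁻¹ * e) * (y * b⁻¹ * e) = 1 := by
      have e1 : (y * b⁻¹ * e) * (y * b⁻¹ * e) = y * b⁻¹ * (e * (y * b⁻¹)) * e := by group
      rw [e1, hec]
      have e2 : y * b⁻¹ * (y * b⁻¹ * e) * e = (y * y) * (y⁻¹ * b⁻¹ * y) * b⁻¹ * (e * e) := by group
      rw [e2, hyb, hee]
      have hbc := hA _ (hnorm y hy _ (A.inv_mem hb)) _ (A.mul_mem hb hb)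
      calc b * b * (y⁻¹ * b⁻¹ * y) * b⁻¹ * (b⁻¹ * (y⁻¹ * b * y))
          = (y⁻¹ * b⁻¹ * y) * (b * b) * b⁻¹ * (b⁻¹ * (y⁻¹ * b * y)) := by rw [hbc]
        _ = 1 := by group
    have h2 := A.mul_mem (A.mul_mem (hEA _ h1) (A.inv_mem he)) hb
    have h3 : y * b⁻¹ * e * e⁻¹ * b = y := by group
    rwa [h3] at h2
  by_cases hHeqA : H ≤ A
  · exact fun x hx y hy => hA x (hHeqA hx) y (hHeqA hy)
  obtain ⟨y₀, hy₀, hy₀A⟩ : ∃ y₀ ∈ H, y₀ ∉ A := by
    by_contra hcon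
    push Not at hcon
    exact hHeqA hcon
  have hsE : ∀ y ∈ H, y ^ (2 ^ (g + 2)) * y ^ (2 ^ (g + 2)) = 1 := by
    intro y hy
    rw [← hdbl, pow_succ', pow_mul, pow_two]
    exact hf _ (hHA y hy)
  have hssurj : ∀ e : P, e * e = 1 → ∃ y ∈ H, y ^ (2 ^ (g + 2)) = e := by
    intro e he
    by_cases he1 : e = 1
    · exact ⟨1, H.one_mem, by rw [he1, one_pow]⟩
    obtain ⟨k, hk⟩ := hT (y₀ ^ (2 ^ (g + 2))) e (fun h => hy₀A (hker y₀ hy₀ h)) (hsE y₀ hy₀) he1 he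
    exact ⟨k • y₀, hHK k y₀ hy₀, by rw [← smul_pow', hk]⟩
  -- step 3
  have hsmul : ∀ x ∈ H, ∀ y ∈ H,
      (x * y) ^ (2 ^ (g + 2)) = x ^ (2 ^ (g + 2)) * y ^ (2 ^ (g + 2)) := by
    intro x hx y hy
    set c := x⁻¹ * y * x * y⁻¹ with hc
    have hcA : c ∈ A := hcommA x hx y hy
    have hx2 := hHA x hx
    have hy2 := hHA y hy
    have e1 : (x * y) * (x * y) = (x * x) * c * (y * y) := by rw [hc]; group
    -- `c * (y c y⁻¹) = d_x (y²)`
    have hdx := hd2 x hx (y * y) hy2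
    have hcc : c * (y * c * y⁻¹) = (y * y)⁻¹ * (x⁻¹ * (y * y) * x) := by
      have hyc : y * c * y⁻¹ ∈ A := by
        have := hnorm y⁻¹ (H.inv_mem hy) c hcA
        rwa [inv_inv] at this
      have h1 := hA _ (A.mul_mem hcA hyc) _ hy2
      have h2 : x⁻¹ * (y * y) * x = c * (y * c * y⁻¹) * (y * y) := by rw [hc]; group
      rw [h2, h1]; group
    have hdy := hd2 y⁻¹ (H.inv_mem hy) c hcA
    rw [inv_inv] at hdy
    have e2 : c * c = ((y * y)⁻¹ * (x⁻¹ * (y * y) * x)) * (c⁻¹ * (y * c * y⁻¹)) := by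
      rw [← hcc]
      have hyc : y * c * y⁻¹ ∈ A := by
        have := hnorm y⁻¹ (H.inv_mem hy) c hcA
        rwa [inv_inv] at this
      have h3 : (c⁻¹ * (y * c * y⁻¹)) = (c⁻¹ * (y * c * y⁻¹))⁻¹ := by
        rw [pow_two] at hdy
        exact eq_inv_of_mul_eq_one_left hdy
      rw [h3]
      group
    have hc4 : c ^ 4 = 1 := by
      have hyc : y * c * y⁻¹ ∈ A := by
        have := hnorm y⁻¹ (H.inv_mem hy) c hcA
        rwa [inv_inv] at this
      have hco : Commute ((y * y)⁻¹ * (x⁻¹ * (y * y) * x)) (c⁻¹ * (y * c * y⁻¹)) :=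
        hA _ (A.mul_mem (A.inv_mem hy2) (hnorm x hx _ hy2)) _ (A.mul_mem (A.inv_mem hcA) hyc)
      rw [show 4 = 2 * 2 by rfl, pow_mul, pow_two c, e2, hco.mul_pow, hdx, hdy, one_mul]
    have hccent := h4 c hc4
    have hc2 : c * c = (y * y)⁻¹ * (x⁻¹ * (y * y) * x) := by
      rw [e2, mul_assoc y c, hccent (y⁻¹)]
      group
    have hcpow : c ^ (2 ^ (g + 1)) = 1 := by
      rcases Nat.eq_zero_or_pos g with hg | hg
      · subst hg
        have h5 : (y * y) ^ 4 = 1 := by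
          have := hf _ hy2
          simpa using this
        have h6 := h4 _ h5 x
        rw [zero_add, pow_one, pow_two, hc2, mul_assoc x⁻¹, h6]
        group
      · obtain ⟨g', rfl⟩ : ∃ g', g = g' + 1 := ⟨g - 1, by omega⟩
        rw [show 2 ^ (g' + 1 + 1) = 4 * 2 ^ g' by ring, pow_mul, hc4, one_pow]
    have e3 : ∀ z : P, z ^ (2 ^ (g + 2)) = (z * z) ^ (2 ^ (g + 1)) := by
      intro z
      rw [← pow_two, ← pow_mul, ← pow_succ']
    rw [e3, e3 x, e3 y, e1]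
    have c1 : Commute (x * x * c) (y * y) := hA _ (A.mul_mem hx2 hcA) _ hy2
    have c2 : Commute (x * x) c := hA _ hx2 _ hcA
    rw [c1.mul_pow, c2.mul_pow, hcpow, mul_one]
  have hsmulK : ∀ (k : K) (x : P) (m : ℕ), (k • x) ^ m = k • x ^ m := fun k x m => (smul_pow' k x m).symm
  have hpmul : ∀ x ∈ A, ∀ x' ∈ A, (x * x') ^ (2 ^ (g + 1)) = x ^ (2 ^ (g + 1)) * x' ^ (2 ^ (g + 1)) := by
    intro x hx x' hx'
    have c1 : Commute x x' := hA _ hx _ hx'
    rw [c1.mul_pow]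
  have hpE : ∀ x ∈ A, x ^ (2 ^ (g + 1)) * x ^ (2 ^ (g + 1)) = 1 := by
    intro x hx
    rw [← hdbl]
    exact hf x hx
  -- step 4
  have hAcent : ∀ a ∈ A, ∀ y ∈ H, a⁻¹ * (y⁻¹ * a * y) = 1 := by
    refine key2 hcomm hsq hT hcent A H hAK hHK (fun a => a ^ (2 ^ (g + 1))) (fun y => y ^ (2 ^ (g + 2)))
      (fun a y => a⁻¹ * (y⁻¹ * a * y)) hinvA hssurj hpmul hsmul (fun k x _ => hsmulK k x _)
      (fun k x _ => hsmulK k x _) ?_ ?_ ?_ ?_ ?_ ?_ ?_ hpE hsE
    · intro a ha y hy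
      rw [← pow_two]
      exact hd2 y hy a ha
    · intro a ha y hy h
      obtain ⟨b, hb, rfl⟩ := hhomo (g + 1) le_rfl a ha h
      have h1 := hd2 y hy b hb
      have h2 := hA b⁻¹ (A.inv_mem hb) _ (A.mul_mem (A.inv_mem hb) (hnorm y hy b hb))
      calc (b * b)⁻¹ * (y⁻¹ * (b * b) * y)
          = b⁻¹ * (b⁻¹ * (y⁻¹ * b * y)) * (y⁻¹ * b * y) := by group
        _ = (b⁻¹ * (y⁻¹ * b * y)) * b⁻¹ * (y⁻¹ * b * y) := by rw [h2]
        _ = (b⁻¹ * (y⁻¹ * b * y)) ^ 2 := by rw [pow_two]; group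
        _ = 1 := h1
    · intro a ha y hy h
      have h1 := hA a ha y (hker y hy h)
      have : y⁻¹ * a * y = a := by rw [mul_assoc, h1]; group
      change a⁻¹ * (y⁻¹ * a * y) = 1
      rw [this]; group
    · intro a ha a' ha' y hy
      have h2 := hA a'⁻¹ (A.inv_mem ha') _ (A.mul_mem (A.inv_mem ha) (hnorm y hy a ha))
      change (a * a')⁻¹ * (y⁻¹ * (a * a') * y) = a⁻¹ * (y⁻¹ * a * y) * (a'⁻¹ * (y⁻¹ * a' * y))
      calc (a * a')⁻¹ * (y⁻¹ * (a * a') * y)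
          = a'⁻¹ * (a⁻¹ * (y⁻¹ * a * y)) * (y⁻¹ * a' * y) := by group
        _ = (a⁻¹ * (y⁻¹ * a * y)) * a'⁻¹ * (y⁻¹ * a' * y) := by rw [h2]
        _ = _ := by group
    · intro a ha y hy y' hy'
      have h1 := hd2 y hy a ha
      rw [pow_two] at h1
      have h2 := hcent _ h1 y'
      have h3 := hcent _ h1 (a⁻¹ * y'⁻¹ * a * y')
      have e1 : a⁻¹ * ((y * y')⁻¹ * a * (y * y'))
          = a⁻¹ * y'⁻¹ * a * ((a⁻¹ * (y⁻¹ * a * y)) * y') := by group
      change a⁻¹ * ((y * y')⁻¹ * a * (y * y')) = a⁻¹ * (y⁻¹ * a * y) * (a⁻¹ * (y'⁻¹ * a * y'))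
      rw [e1, h2, ← mul_assoc, ← h3]
      group
    · intro e he
      obtain ⟨y, hy, hye⟩ := hssurj e he
      refine ⟨y * y, hHA y hy, y, hy, ?_, hye, ?_⟩
      · rw [← hye, ← pow_two, ← pow_mul, ← pow_succ']
      · group
    · intro k a ha y hy
      simp only [smul_mul', smul_inv']
  have hAcent' : ∀ a ∈ A, ∀ y ∈ H, a * y = y * a := by
    intro a ha y hy
    have h1 := hAcent a ha y hy
    have h2 : y⁻¹ * a * y = a := (inv_mul_eq_one.mp h1).symm
    calc a * y = y * (y⁻¹ * a * y) := by group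
      _ = y * a := by rw [h2]
  -- step 5
  have hcomA2 : ∀ x ∈ H, ∀ y ∈ H, x⁻¹ * (y⁻¹ * x * y) ∈ A := by
    intro x hx y hy
    have h1 := hcommA x⁻¹ (H.inv_mem hx) y⁻¹ (H.inv_mem hy)
    rw [inv_inv, inv_inv] at h1
    have h2 := hcommA x hx y⁻¹ (H.inv_mem hy)
    rw [inv_inv] at h2
    have e : x⁻¹ * (y⁻¹ * x * y) = x⁻¹ * y⁻¹ * x * y := by group
    rw [e]
    exact h2
  have hfinal : ∀ x ∈ H, ∀ y ∈ H, x⁻¹ * (y⁻¹ * x * y) = 1 := by
    refine key2 hcomm hsq hT hcent H H hHK hHK (fun y => y ^ (2 ^ (g + 2))) (fun y => y ^ (2 ^ (g + 2)))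
      (fun a y => a⁻¹ * (y⁻¹ * a * y)) hssurj hssurj hsmul hsmul (fun k x _ => hsmulK k x _)
      (fun k x _ => hsmulK k x _) ?_ ?_ ?_ ?_ ?_ ?_ ?_ hsE hsE
    · intro x hx y hy
      have h1 := hcomA2 x hx y hy
      have h2 := hAcent' _ h1 x⁻¹ (H.inv_mem hx)
      have h3 := hAcent' _ (hHA x hx) y hy
      change (x⁻¹ * (y⁻¹ * x * y)) * (x⁻¹ * (y⁻¹ * x * y)) = 1
      calc (x⁻¹ * (y⁻¹ * x * y)) * (x⁻¹ * (y⁻¹ * x * y))
          = ((x⁻¹ * (y⁻¹ * x * y)) * x⁻¹) * (y⁻¹ * x * y) := by group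
        _ = (x⁻¹ * (x⁻¹ * (y⁻¹ * x * y))) * (y⁻¹ * x * y) := by rw [h2]
        _ = x⁻¹ * x⁻¹ * (y⁻¹ * ((x * x) * y)) := by group
        _ = x⁻¹ * x⁻¹ * (y⁻¹ * (y * (x * x))) := by rw [h3]
        _ = 1 := by group
    · intro x hx y hy h
      have h1 := hAcent' x (hker x hx h) y hy
      change x⁻¹ * (y⁻¹ * x * y) = 1
      rw [mul_assoc, h1]; group
    · intro x hx y hy h
      have h1 := hAcent' y (hker y hy h) x hx
      change x⁻¹ * (y⁻¹ * x * y) = 1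
      rw [mul_assoc, ← h1]; group
    · intro a ha a' ha' y hy
      have h2 := hAcent' _ (hcomA2 a ha y hy) a'⁻¹ (H.inv_mem ha')
      change (a * a')⁻¹ * (y⁻¹ * (a * a') * y) = a⁻¹ * (y⁻¹ * a * y) * (a'⁻¹ * (y⁻¹ * a' * y))
      calc (a * a')⁻¹ * (y⁻¹ * (a * a') * y)
          = a'⁻¹ * (a⁻¹ * (y⁻¹ * a * y)) * (y⁻¹ * a' * y) := by group
        _ = (a⁻¹ * (y⁻¹ * a * y)) * a'⁻¹ * (y⁻¹ * a' * y) := by rw [h2]
        _ = _ := by group
    · intro a ha y hy y' hy'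
      have h2 := hAcent' _ (hcomA2 a ha y hy) y' hy'
      have h3 := hAcent' _ (hcomA2 a ha y hy) (a⁻¹ * y'⁻¹ * a * y')
        (H.mul_mem (H.mul_mem (H.mul_mem (H.inv_mem ha) (H.inv_mem hy')) ha) hy')
      have e1 : a⁻¹ * ((y * y')⁻¹ * a * (y * y'))
          = a⁻¹ * y'⁻¹ * a * ((a⁻¹ * (y⁻¹ * a * y)) * y') := by group
      change a⁻¹ * ((y * y')⁻¹ * a * (y * y')) = a⁻¹ * (y⁻¹ * a * y) * (a⁻¹ * (y'⁻¹ * a * y'))
      rw [e1, h2, ← mul_assoc, ← h3]
      group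
    · intro e he
      obtain ⟨y, hy, hye⟩ := hssurj e he
      refine ⟨y, hy, y, hy, hye, hye, ?_⟩
      group
    · intro k a ha y hy
      simp only [smul_mul', smul_inv']
  intro x hx y hy
  have h1 := hfinal x hx y hy
  have h2 : y⁻¹ * x * y = x := (inv_mul_eq_one.mp h1).symm
  calc x * y = y * (y⁻¹ * x * y) := by group
    _ = y * x := by rw [h2]


/-- A nontrivial finite 2-group has a proper subgroup containing all squares. -/
theorem exists_lt_sq_mem {P : Type*} [Group P] [Finite P] (hP : IsPGroup 2 P) (H : Subgroup P) (hH : H ≠ ⊥) :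
    ∃ M : Subgroup P, M < H ∧ ∀ x ∈ H, x * x ∈ M := by
  have : Fact (Nat.Prime 2) := ⟨Nat.prime_two⟩
  have hH2 : IsPGroup 2 H := hP.to_subgroup H
  obtain ⟨n, hn⟩ := IsPGroup.iff_card.mp hH2
  have hn0 : n ≠ 0 := by
    rintro rfl
    rw [pow_zero] at hn
    exact hH (Subgroup.card_eq_one.mp hn)
  obtain ⟨m, rfl⟩ : ∃ m, n = m + 1 := ⟨n - 1, by omega⟩
  obtain ⟨M, hM⟩ := Sylow.exists_subgroup_card_pow_prime (G := H) 2 (n := m)
    (by rw [hn]; exact pow_dvd_pow 2 (Nat.le_succ m))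
  have hidx : M.index = 2 := by
    have := M.card_mul_index
    rw [hM, hn, pow_succ] at this
    exact Nat.eq_of_mul_eq_mul_left (by positivity) this
  refine ⟨M.map H.subtype, ?_, ?_⟩
  · refine lt_of_le_of_ne (Subgroup.map_subtype_le M) ?_
    intro h
    have h1 : Nat.card (M.map H.subtype) = Nat.card M :=
      Subgroup.card_map_of_injective H.subtype_injective
    rw [h, hn, hM, pow_succ] at h1
    have : 0 < 2 ^ m := by positivity
    omega
  · intro x hx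
    have h1 := Subgroup.mul_self_mem_of_index_two hidx (⟨x, hx⟩ : H)
    exact ⟨_, h1, rfl⟩

/-- All invariant subgroups are abelian. -/
theorem abelian_of_invariant {P K : Type*} [Group P] [Finite P] [Group K] [MulDistribMulAction K P]
    (hP : IsPGroup 2 P)
    (hcomm : ∀ a b : K, a * b = b * a)
    (hsq : ∀ k : K, ∃ m : K, m * m = k)
    (hT : ∀ x y : P, x ≠ 1 → x * x = 1 → y ≠ 1 → y * y = 1 → ∃ k : K, k • x = y)
    (h4 : ∀ x : P, x ^ 4 = 1 → ∀ y, x * y = y * x) :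
    ∀ (n : ℕ) (H : Subgroup P), Nat.card H = n → (∀ k : K, ∀ x ∈ H, k • x ∈ H) →
      ∀ x ∈ H, ∀ y ∈ H, x * y = y * x := by
  have : Fact (Nat.Prime 2) := ⟨Nat.prime_two⟩
  obtain ⟨m, hm⟩ := IsPGroup.iff_card.mp hP
  have hexp : ∀ x : P, x ^ (2 ^ m) = 1 := fun x => by rw [← hm]; exact pow_card_eq_one'
  intro n
  induction n using Nat.strong_induction_on with
  | _ n ih =>
    intro H hcard hHK
    by_cases hbot : H = ⊥
    · intro x hx y hy
      rw [hbot, Subgroup.mem_bot] at hx hy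
      rw [hx, hy]
    obtain ⟨M, hMH, hM⟩ := exists_lt_sq_mem hP H hbot
    let A : Subgroup P := Subgroup.closure {z | ∃ x ∈ H, z = x * x}
    have hAM : A ≤ M := by
      rw [Subgroup.closure_le]
      rintro _ ⟨x, hx, rfl⟩
      exact hM x hx
    have hAK : ∀ k : K, ∀ x ∈ A, k • x ∈ A := by
      intro k x hx
      have h1 : A ≤ A.comap (MulDistribMulAction.toMonoidHom P k) := by
        rw [Subgroup.closure_le]
        rintro _ ⟨x, hx, rfl⟩
        change k • (x * x) ∈ A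
        rw [smul_mul']
        exact Subgroup.subset_closure ⟨k • x, hHK k x hx, rfl⟩
      exact h1 hx
    have hAH : A < H := lt_of_le_of_lt hAM hMH
    have hcardA : Nat.card A < n := by
      rw [← hcard]
      have h0 : ((A : Set P)).ncard < ((H : Set P)).ncard := Set.ncard_lt_ncard hAH (Set.toFinite _)
      exact h0
    exact step hexp hcomm hsq hT h4 A hAK (ih _ hcardA A rfl hAK) H hHK hAH.le
      (fun x hx => Subgroup.subset_closure ⟨x, hx, rfl⟩)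

end Cfsg.Agent.LieRecognition.HigmanCentral
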