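import Mathlib
set_option linter.all false

set_option autoImplicit false

/-!
Field automorphisms of a finite field `F` form an `F`-basis of the additive endomorphisms of `F`;
biadditive maps `F → F → F` are combinations of `(x, y) ↦ σ x * τ y`.
-/

namespace Cfsg.Agent.LieRecognition.FieldAutBasis

variable {F : Type*} [Field F]

/-- Dedekind: ring automorphisms of a field are linearly independent over the field. -/
theorem linearIndependent_ringEquiv :
    LinearIndependent F (fun σ : F ≃+* F => ((σ : F →+* F) : F → F)) := by
  have h := linearIndependent_monoidHom F F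
  exact h.comp (fun σ : F ≃+* F => ((σ : F →+* F) : F →* F)) (by
    intro σ τ hst
    ext x
    exact DFunLike.congr_fun hst x)

/-- If finitely many coefficients combine the automorphisms to zero, all are zero. -/
theorem eq_zero_of_sum_eq_zero [Fintype (F ≃+* F)] (c : (F ≃+* F) → F)
    (h : ∀ x : F, ∑ σ, c σ * σ x = 0) : c = 0 := by
  have hli := linearIndependent_ringEquiv (F := F)
  rw [Fintype.linearIndependent_iff] at hli
  funext σ
  refine hli c ?_ σ
  funext x
  simpa [Finset.sum_apply] using h x

variable [Finite F] (p : ℕ) [hp : Fact p.Prime] [CharP F p]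

include hp in
/-- The ring automorphisms of a finite field of characteristic `p` span the additive endomorphisms,
uniquely. -/
theorem existsUnique_coeff [Fintype (F ≃+* F)] (f : F →+ F) :
    ∃! c : (F ≃+* F) → F, ∀ x : F, f x = ∑ σ, c σ * σ x := by
  classical
  let _ : Fintype F := Fintype.ofFinite F
  let _ : Algebra (ZMod p) F := ZMod.algebra F p
  have : IsGalois (ZMod p) F := inferInstance
  -- the automorphisms as linear maps
  let v : (F ≃+* F) → (F →ₗ[ZMod p] F) := fun σ => (σ : F ≃+ F).toAddMonoidHom.toZModLinearMap p
  have hv : ∀ σ x, v σ x = σ x := fun σ x => rfl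
  have hli : LinearIndependent F v := by
    rw [Fintype.linearIndependent_iff]
    intro g hg
    have := eq_zero_of_sum_eq_zero g (fun x => by
      have := LinearMap.congr_fun hg x
      simpa [LinearMap.sum_apply, hv] using this)
    exact fun i => congrFun this i
  have hcard : Fintype.card (F ≃+* F) = Module.finrank F (F →ₗ[ZMod p] F) := by
    rw [Module.finrank_linearMap_self, ← Nat.card_eq_fintype_card, ← IsGalois.card_aut_eq_finrank]
    refine Nat.card_congr
      { toFun := fun σ => AlgEquiv.ofRingEquiv (f := σ) (fun r => by
          have := DFunLike.congr_fun (Subsingleton.elim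
            ((σ : F →+* F).comp (algebraMap (ZMod p) F)) (algebraMap (ZMod p) F)) r
          exact this)
        invFun := fun σ => (σ : F ≃+* F)
        left_inv := fun σ => by ext x; rfl
        right_inv := fun σ => by ext x; rfl }
  have hspan : Submodule.span F (Set.range v) = ⊤ := hli.span_eq_top_of_card_eq_finrank' hcard
  have hf : (f.toZModLinearMap p) ∈ Submodule.span F (Set.range v) := by
    rw [hspan]; trivial
  rw [Submodule.mem_span_range_iff_exists_fun] at hf
  obtain ⟨c, hc⟩ := hf
  refine ⟨c, ?_, ?_⟩
  · intro x
    have := LinearMap.congr_fun hc x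
    simpa [LinearMap.sum_apply, hv] using this.symm
  · intro d hd
    have h0 := eq_zero_of_sum_eq_zero (d - c) (fun x => by
      have h1 := hd x
      have h2 := LinearMap.congr_fun hc x
      simp only [LinearMap.sum_apply, LinearMap.smul_apply, hv, smul_eq_mul] at h2
      have h3 : (f.toZModLinearMap p) x = f x := rfl
      rw [h3] at h2
      simp only [Pi.sub_apply, sub_mul, Finset.sum_sub_distrib]
      rw [h2, ← h1, sub_self])
    exact sub_eq_zero.mp h0

include hp in
/-- Biadditive maps are combinations of products of automorphisms, uniquely. -/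
theorem existsUnique_coeff₂ [Fintype (F ≃+* F)] (B : F →+ F →+ F) :
    ∃ c : (F ≃+* F) → (F ≃+* F) → F, ∀ x y : F, B x y = ∑ σ, ∑ τ, c σ τ * (σ x * τ y) := by
  classical
  choose g hg hg' using fun y : F => existsUnique_coeff p (B.flip y)
  have hadd : ∀ σ, ∃ f : F →+ F, ∀ y, f y = g y σ := by
    intro σ
    refine ⟨AddMonoidHom.mk' (fun y => g y σ) ?_, fun y => rfl⟩
    intro y z
    have := hg' (y + z) (g y + g z) (fun x => by
      have h1 := hg y x
      have h2 := hg z x
      simp only [map_add, AddMonoidHom.add_apply, Pi.add_apply, add_mul, Finset.sum_add_distrib]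
      rw [← h1, ← h2])
    exact (congrFun this σ).symm
  choose f hf using hadd
  choose c hc _ using fun σ => existsUnique_coeff p (f σ)
  refine ⟨c, fun x y => ?_⟩
  have h1 := hg y x
  have h2 : B.flip y x = B x y := rfl
  rw [← h2, h1]
  refine Finset.sum_congr rfl fun σ _ => ?_
  rw [← hf σ y, hc σ y, Finset.sum_mul]
  refine Finset.sum_congr rfl fun τ _ => ?_
  ring

end Cfsg.Agent.LieRecognition.FieldAutBasis
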