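import Mathlib
import Cfsg.Agent.S1140
import Cfsg.Agent.S1168
set_option linter.all false

set_option autoImplicit false

/-!
Torus-equivariant biadditive and quadratic maps `F × F → F`, `F → F` over a finite field of
characteristic two are monomials.  (For Higman's theorem on Suzuki 2-groups, S1137 and S1138.)
-/

namespace Cfsg.Agent.LieRecognition.SuzukiField

variable {F : Type*} [Field F]

/-- Two products of two automorphisms agreeing everywhere are equal up to order (characteristic 2). -/
theorem eq_or_swap_of_mul_eq [CharP F 2] (σ τ σ' τ' : F ≃+* F)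
    (h : ∀ x : F, σ x * τ x = σ' x * τ' x) : (σ = σ' ∧ τ = τ') ∨ (σ = τ' ∧ τ = σ') := by
  classical
  have two : (2 : F) = 0 := CharTwo.two_eq_zero
  have hli := Cfsg.Agent.LieRecognition.FieldAutBasis.linearIndependent_ringEquiv (F := F)
  -- polarise at `(x, 1)`
  have hpol : ∀ x : F, σ x + τ x = σ' x + τ' x := by
    intro x
    have h1 := h (x + 1)
    have h2 := h x
    have h3 := h 1
    simp only [map_add, map_one, mul_one] at h1 h2 h3
    linear_combination h1 - h2
  have hinj : Finsupp.single σ (1 : F) + Finsupp.single τ 1 = Finsupp.single σ' 1 + Finsupp.single τ' 1 := by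
    apply hli
    funext x
    simpa [Finsupp.linearCombination_single] using hpol x
  by_cases hst : σ = τ
  · subst hst
    have h0 : Finsupp.single σ' (1 : F) + Finsupp.single τ' 1 = 0 := by
      rw [← hinj, ← Finsupp.single_add, one_add_one_eq_two, two, Finsupp.single_zero]
    have hst' : σ' = τ' := by
      by_contra hne
      have := DFunLike.congr_fun h0 σ'
      simp [Ne.symm hne] at this
    subst hst'
    have hss : σ = σ' := by
      ext x
      have := h x
      have h4 : (σ x - σ' x) * (σ x - σ' x) = 0 := by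
        linear_combination this + (σ' x * σ' x - σ x * σ' x) * two
      have h5 : σ x - σ' x = 0 := by simpa using h4
      exact sub_eq_zero.mp h5
    exact Or.inl ⟨hss, hss⟩
  · have hσ := DFunLike.congr_fun hinj σ
    simp only [Finsupp.add_apply, Finsupp.single_eq_same] at hσ
    rw [Finsupp.single_eq_of_ne hst] at hσ
    by_cases h1 : σ = σ'
    · subst h1
      left
      refine ⟨rfl, ?_⟩
      have : Finsupp.single τ (1 : F) = Finsupp.single τ' 1 := add_left_cancel hinj
      exact Finsupp.single_left_injective one_ne_zero this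
    · by_cases h2 : σ = τ'
      · subst h2
        right
        refine ⟨rfl, ?_⟩
        rw [add_comm (Finsupp.single σ' (1 : F))] at hinj
        have : Finsupp.single τ (1 : F) = Finsupp.single σ' 1 := add_left_cancel hinj
        exact Finsupp.single_left_injective one_ne_zero this
      · rw [Finsupp.single_eq_of_ne h1, Finsupp.single_eq_of_ne h2] at hσ
        simp at hσ

/-- An element all of whose powers exhaust the nonzero elements. -/
def Primitive (a : F) : Prop := a ≠ 0 ∧ ∀ x : F, x ≠ 0 → ∃ i : ℕ, a ^ i = x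

theorem Primitive.ext {a : F} (ha : Primitive a) {f g : F →*₀ F} (h : f a = g a) : f = g := by
  ext x
  by_cases hx : x = 0
  · subst hx; simp
  · obtain ⟨i, rfl⟩ := ha.2 x hx
    rw [map_pow, map_pow, h]

/-- Two automorphisms of a field with a primitive element commute. -/
theorem Primitive.comm {a : F} (ha : Primitive a) (σ τ : F ≃+* F) (x : F) : σ (τ x) = τ (σ x) := by
  have hσ0 : σ a ≠ 0 := by simpa using ha.1
  have hτ0 : τ a ≠ 0 := by simpa using ha.1
  obtain ⟨i, hi⟩ := ha.2 _ hσ0
  obtain ⟨j, hj⟩ := ha.2 _ hτ0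
  by_cases hx : x = 0
  · subst hx; simp
  · obtain ⟨k, rfl⟩ := ha.2 x hx
    have h1 : σ (τ a) = τ (σ a) := by
      rw [← hi, ← hj, map_pow, map_pow, ← hi, ← hj, ← pow_mul, ← pow_mul, mul_comm]
    rw [map_pow, map_pow, map_pow, map_pow, h1]

theorem Primitive.aut_ext {a : F} (ha : Primitive a) {σ τ : F ≃+* F} (h : σ a = τ a) : σ = τ := by
  ext x
  by_cases hx : x = 0
  · subst hx; simp
  · obtain ⟨k, rfl⟩ := ha.2 x hx
    rw [map_pow, map_pow, h]

/-- A product of two automorphisms is determined by its value at a primitive element. -/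
theorem Primitive.mul_ext {a : F} (ha : Primitive a) {σ τ σ' τ' : F ≃+* F}
    (h : σ a * τ a = σ' a * τ' a) (x : F) : σ x * τ x = σ' x * τ' x := by
  by_cases hx : x = 0
  · subst hx; simp
  · obtain ⟨k, rfl⟩ := ha.2 x hx
    rw [map_pow, map_pow, map_pow, map_pow, ← mul_pow, ← mul_pow, h]

/-- The pair `(σ, τ)` with `σ μ * τ l = l` is unique. -/
theorem pair_unique [CharP F 2] {m l : F} (hm : Primitive m) (hl : Primitive l) (hm1 : m ≠ 1)
    {σ τ σ' τ' : F ≃+* F} (h : σ m * τ l = l) (h' : σ' m * τ' l = l) : σ = σ' ∧ τ = τ' := by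
  have h1 : σ' (σ m) * σ' (τ l) = σ' l := by rw [← map_mul, h]
  have h2 : σ (σ' m) * σ (τ' l) = σ l := by rw [← map_mul, h']
  have hne : σ' (σ m) ≠ 0 := by simpa using hm.1
  have h3 : σ (τ' l) * σ' l = σ' (τ l) * σ l := by
    rw [← h1, ← h2, hm.comm σ σ' m]
    ring
  have h4 := hl.mul_ext (σ := τ'.trans σ) (τ := σ') (σ' := τ.trans σ') (τ' := σ)
    (by simpa using h3)
  rcases eq_or_swap_of_mul_eq _ _ _ _ h4 with ⟨h5, h6⟩ | ⟨h5, h6⟩
  · subst h6
    refine ⟨rfl, ?_⟩
    ext x
    have := DFunLike.congr_fun h5 x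
    simp only [RingEquiv.coe_trans, Function.comp_apply] at this
    exact (σ'.injective this).symm
  · exfalso
    -- `σ ∘ τ' = σ`, so `τ' = 1` and `σ' m = 1`
    have h7 : τ' l = l := by
      have := DFunLike.congr_fun h5 l
      simp only [RingEquiv.coe_trans, Function.comp_apply] at this
      exact σ.injective this
    rw [h7] at h'
    have h8 : σ' m = 1 := by
      have := mul_eq_right₀ hl.1 |>.mp h'
      exact this
    apply hm1
    have := σ'.map_eq_one_iff.mp h8
    exact this

/-- Torus-equivariant biadditive maps are monomials. -/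
theorem equivariant_biadditive_monomial [Finite F] [CharP F 2] {m l : F} (hm : Primitive m)
    (hl : Primitive l) (hm1 : m ≠ 1) (b : F →+ F →+ F) (hb : ∀ x y, b (m * x) (l * y) = l * b x y) :
    ∃ (c : F) (σ τ : F ≃+* F), (∀ x y, b x y = c * (σ x * τ y)) ∧ (c ≠ 0 → σ m * τ l = l) := by
  classical
  have hft : Fintype F := Fintype.ofFinite F
  obtain ⟨s, c, hc⟩ := (Cfsg.Agent.S1140.result (F := F)).2.2 b
  -- linear independence of the pair characters
  let χ : (F ≃+* F) × (F ≃+* F) → (F × F →* F) := fun p =>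
    { toFun := fun z => p.1 z.1 * p.2 z.2
      map_one' := by simp
      map_mul' := fun z w => by simp only [Prod.fst_mul, Prod.snd_mul, map_mul]; ring }
  have hχ : Function.Injective χ := by
    rintro ⟨a, b⟩ ⟨a', b'⟩ h
    have h1 : a = a' := by
      ext x
      have := DFunLike.congr_fun h (x, 1)
      simpa [χ] using this
    have h2 : b = b' := by
      ext x
      have := DFunLike.congr_fun h (1, x)
      simpa [χ] using this
    rw [h1, h2]
  have hli : LinearIndependent F (fun p => (χ p : F × F → F)) :=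
    (linearIndependent_monoidHom (F × F) F).comp χ hχ
  rw [linearIndependent_iff'] at hli
  have hzero : ∀ p ∈ s, c p * (p.1 m * p.2 l - l) = 0 := by
    refine hli s (fun p => c p * (p.1 m * p.2 l - l)) ?_
    funext z
    have h1 := hb z.1 z.2
    rw [hc, hc, Finset.mul_sum] at h1
    simp only [Finset.sum_apply, Pi.smul_apply, smul_eq_mul, Pi.zero_apply]
    have h2 : ∑ p ∈ s, c p * (p.1 m * p.2 l - l) * (p.1 z.1 * p.2 z.2) =
        ∑ p ∈ s, c p * (p.1 (m * z.1) * p.2 (l * z.2)) - ∑ p ∈ s, l * (c p * (p.1 z.1 * p.2 z.2)) := by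
      rw [← Finset.sum_sub_distrib]
      refine Finset.sum_congr rfl fun p _ => ?_
      rw [map_mul, map_mul]; ring
    calc _ = ∑ p ∈ s, c p * (p.1 m * p.2 l - l) * (p.1 z.1 * p.2 z.2) := rfl
      _ = 0 := by rw [h2, h1, sub_self]
  by_cases hex : ∃ p ∈ s, c p ≠ 0
  · obtain ⟨p, hp, hcp⟩ := hex
    have hp1 : p.1 m * p.2 l = l := by
      have := (mul_eq_zero.mp (hzero p hp)).resolve_left hcp
      exact sub_eq_zero.mp this
    refine ⟨c p, p.1, p.2, fun x y => ?_, fun _ => hp1⟩
    rw [hc x y, Finset.sum_eq_single_of_mem p hp]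
    intro p' hp' hne
    by_cases hcp' : c p' = 0
    · rw [hcp', zero_mul]
    · exfalso
      have hp2 : p'.1 m * p'.2 l = l := by
        have := (mul_eq_zero.mp (hzero p' hp')).resolve_left hcp'
        exact sub_eq_zero.mp this
      obtain ⟨h1, h2⟩ := pair_unique hm hl hm1 hp2 hp1
      exact hne (Prod.ext h1 h2)
  · push Not at hex
    refine ⟨0, 1, 1, fun x y => ?_, fun h => absurd rfl h⟩
    rw [hc x y, zero_mul]
    exact Finset.sum_eq_zero fun p hp => by rw [hex p hp, zero_mul]

/-- Consequence: a nonzero equivariant biadditive map has no zero divisors. -/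
theorem equivariant_biadditive_ne_zero [Finite F] [CharP F 2] {m l : F} (hm : Primitive m)
    (hl : Primitive l) (hm1 : m ≠ 1) (b : F →+ F →+ F) (hb : ∀ x y, b (m * x) (l * y) = l * b x y)
    (hb0 : ∃ x y, b x y ≠ 0) (x y : F) (hx : x ≠ 0) (hy : y ≠ 0) : b x y ≠ 0 := by
  obtain ⟨c, σ, τ, hc, -⟩ := equivariant_biadditive_monomial hm hl hm1 b hb
  obtain ⟨x0, y0, h0⟩ := hb0
  rw [hc] at h0 ⊢
  have hc0 : c ≠ 0 := fun h => h0 (by rw [h, zero_mul])
  exact mul_ne_zero hc0 (mul_ne_zero (by simpa using hx) (by simpa using hy))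

/-- Consequence: an equivariant alternating biadditive map `F × F → F` (same module) vanishes. -/
theorem equivariant_alternating_eq_zero [Finite F] [CharP F 2] {l : F}
    (hl : Primitive l) (hl1 : l ≠ 1) (b : F →+ F →+ F) (hb : ∀ x y, b (l * x) (l * y) = l * b x y)
    (halt : ∀ x, b x x = 0) (x y : F) : b x y = 0 := by
  obtain ⟨c, σ, τ, hc, -⟩ := equivariant_biadditive_monomial hl hl hl1 b hb
  have := halt 1
  rw [hc] at this ⊢
  simp only [map_one, mul_one] at this
  rw [this, zero_mul]

/-- Torus-equivariant quadratic maps are monomials. -/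
theorem equivariant_quadratic_monomial [Finite F] [CharP F 2] {m l : F} (hm : Primitive m)
    (hl0 : l ≠ 0) (S : F → F)
    (hS : ∀ x y z : F, S (x + y + z) + S (x + y) + S (x + z) + S (y + z) + S x + S y + S z = 0)
    (hml : ∀ x, S (m * x) = l * S x) :
    ∃ (c : F) (σ τ : F ≃+* F), ∀ x, S x = c * (σ x * τ x) := by
  classical
  have hft : Fintype F := Fintype.ofFinite F
  have two : (2 : F) = 0 := CharTwo.two_eq_zero
  have hS0 : S 0 = 0 := by
    have h := hS 0 0 0
    simp only [add_zero] at h
    have h2 : S 0 = 7 * S 0 - 3 * 2 * S 0 := by ring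
    rw [h2, two]
    linear_combination h
  by_cases h1 : S 1 = 0
  · refine ⟨0, 1, 1, fun x => ?_⟩
    rw [zero_mul]
    by_cases hx : x = 0
    · rw [hx, hS0]
    · obtain ⟨i, rfl⟩ := hm.2 x hx
      clear hx
      induction i with
      | zero => simpa using h1
      | succ i ih => rw [pow_succ', hml, ih, mul_zero]
  · obtain ⟨j, hj⟩ := hm.2 l hl0
    -- replace `j` by a positive exponent
    obtain ⟨k, hk0, hk⟩ : ∃ k : ℕ, k ≠ 0 ∧ m ^ k = l := by
      obtain ⟨i, hi⟩ := hm.2 m⁻¹ (inv_ne_zero hm.1)
      refine ⟨j + (i + 1), by omega, ?_⟩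
      rw [pow_add, pow_succ, hi, hj, inv_mul_cancel₀ hm.1, mul_one]
    have hSx : ∀ x, S x = S 1 * x ^ k := by
      intro x
      by_cases hx : x = 0
      · subst hx; rw [hS0, zero_pow hk0, mul_zero]
      · obtain ⟨i, rfl⟩ := hm.2 x hx
        clear hx
        induction i with
        | zero => simp
        | succ i ih =>
          rw [pow_succ', hml, ih, ← hk, mul_pow]
          ring
    obtain ⟨s, c, hc⟩ := Cfsg.Agent.S1168.result S hS
    let χ : (F ≃+* F) × (F ≃+* F) → (F →* F) := fun p =>
      { toFun := fun z => p.1 z * p.2 z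
        map_one' := by simp
        map_mul' := fun z w => by simp only [map_mul]; ring }
    let ψ : F →* F := powMonoidHom k
    have hmem : ∃ p ∈ s, χ p = ψ := by
      by_contra hcon
      push Not at hcon
      have hli := linearIndependent_monoidHom F F
      have h2 : (Finsupp.single ψ (S 1) : (F →* F) →₀ F) = ∑ p ∈ s, Finsupp.single (χ p) (c p) := by
        apply hli
        rw [map_sum, Finsupp.linearCombination_single]
        simp only [Finsupp.linearCombination_single]
        funext x
        rw [Finset.sum_apply]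
        simp only [Pi.smul_apply, smul_eq_mul]
        have h3 := hSx x
        rw [hc x] at h3
        exact h3.symm
      have h4 := DFunLike.congr_fun h2 ψ
      rw [Finsupp.single_eq_same, Finsupp.finsetSum_apply] at h4
      apply h1
      rw [h4]
      refine Finset.sum_eq_zero fun p hp => ?_
      exact Finsupp.single_eq_of_ne (hcon p hp).symm
    obtain ⟨p, -, hp⟩ := hmem
    refine ⟨S 1, p.1, p.2, fun x => ?_⟩
    rw [hSx]
    have := DFunLike.congr_fun hp x
    have h5 : p.1 x * p.2 x = x ^ k := this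
    rw [h5]

end Cfsg.Agent.LieRecognition.SuzukiField
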