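import Cfsg.Agent.LieRecognition.CoxForm
set_option linter.all false

-- part: LieRecognition/CoxExcl
section
/-!
# Excluded subdiagrams of a positive definite Coxeter form

`bf` is the bilinear form of `q`; `Pth v n` says that `v 0, …, v (n-1)` is a simply laced path; `exclD`, `exclB`, `exclC`,
`exclG`, `exclF`, `exclE6`, `exclE7`, `exclE8` exclude the affine diagrams.
-/

set_option autoImplicit false
set_option linter.unusedSectionVars false

namespace Cfsg.Agent.LieRecognition.CoxExcl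

open Finset Cfsg.Agent.LieRecognition.CoxForm

variable {B : Type*} [Fintype B] [DecidableEq B] (M : CoxeterMatrix B)

/-- the bilinear form of `q` -/
noncomputable def bf (x y : B → ℝ) : ℝ := ∑ a, x a * fn M a y

theorem bf_self (x : B → ℝ) : bf M x x = q M x := rfl

theorem bf_add_left (x y z : B → ℝ) : bf M (x + y) z = bf M x z + bf M y z := by
  simp [bf, add_mul, Finset.sum_add_distrib]

theorem bf_add_right (x y z : B → ℝ) : bf M x (y + z) = bf M x y + bf M x z := by
  simp [bf, mul_add, Finset.sum_add_distrib]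

theorem bf_smul_left (r : ℝ) (x y : B → ℝ) : bf M (r • x) y = r * bf M x y := by
  simp only [bf, Pi.smul_apply, smul_eq_mul, Finset.mul_sum]
  exact Finset.sum_congr rfl fun a _ => by ring

theorem bf_smul_right (r : ℝ) (x y : B → ℝ) : bf M x (r • y) = r * bf M x y := by
  simp only [bf, map_smul, smul_eq_mul, Finset.mul_sum]
  exact Finset.sum_congr rfl fun a _ => by ring

theorem bf_zero_right (x : B → ℝ) : bf M x 0 = 0 := by simp [bf]

theorem bf_zero_left (x : B → ℝ) : bf M 0 x = 0 := by simp [bf]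

theorem bf_comm (x y : B → ℝ) : bf M x y = bf M y x := by
  simp only [bf, fn_apply, Finset.mul_sum]
  rw [Finset.sum_comm]
  refine Finset.sum_congr rfl fun a _ => Finset.sum_congr rfl fun b _ => ?_
  rw [K_symm M b a]
  ring

theorem bf_bs_left (a : B) (x : B → ℝ) : bf M (bs a) x = fn M a x := by
  rw [bf, Finset.sum_eq_single a]
  · simp [bs]
  · intro b _ hb
    simp [bs, hb]
  · intro h
    exact absurd (Finset.mem_univ a) h

theorem bf_bs_bs (a b : B) : bf M (bs a) (bs b) = K M a b := by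
  rw [bf_bs_left, fn_bs]

theorem bf_sum_left {ι : Type*} (s : Finset ι) (f : ι → B → ℝ) (y : B → ℝ) :
    bf M (∑ i ∈ s, f i) y = ∑ i ∈ s, bf M (f i) y := by
  classical
  induction s using Finset.induction_on with
  | empty => simp [bf_zero_left]
  | insert a s ha ih => rw [Finset.sum_insert ha, Finset.sum_insert ha, bf_add_left, ih]

theorem K_two {a b : B} (h : M a b = 2) : K M a b = 0 := by
  simp only [K, h]
  norm_num

theorem K_three {a b : B} (h : M a b = 3) : K M a b = -(1 / 2) := by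
  simp only [K, h]
  norm_num

theorem K_le {a b : B} {n : ℕ} (hn : 2 ≤ n) (h : n ≤ M a b) : K M a b ≤ - Real.cos (Real.pi / n) := by
  have hpi := Real.pi_pos
  have h0 : M a b ≠ 0 := by omega
  simp only [K, h0, if_false]
  apply neg_le_neg
  have hn' : (2 : ℝ) ≤ n := by exact_mod_cast hn
  have hm' : (n : ℝ) ≤ M a b := by exact_mod_cast h
  apply Real.cos_le_cos_of_nonneg_of_le_pi
  · positivity
  · rw [div_le_iff₀ (by positivity)]
    nlinarith
  · apply div_le_div_of_nonneg_left hpi.le (by positivity) hm'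

theorem K_le_three {a b : B} (h : 3 ≤ M a b) : K M a b ≤ -(1 / 2) := by
  have := K_le M (by norm_num) h
  norm_num at this
  linarith

theorem K_le_four {a b : B} (h : 4 ≤ M a b) : K M a b ≤ -(Real.sqrt 2 / 2) := by
  have := K_le M (by norm_num) h
  norm_num at this
  linarith

theorem K_le_six {a b : B} (h : 6 ≤ M a b) : K M a b ≤ -(Real.sqrt 3 / 2) := by
  have := K_le M (by norm_num) h
  norm_num at this
  linarith

variable (hpos : ∀ x : B → ℝ, x ≠ 0 → 0 < q M x)

include hpos in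
theorem excl4 (u w1 w2 w3 w4 : B → ℝ) (c1 c2 c3 c4 : ℝ) (x : B) (hx : 0 < u x)
    (h1 : 0 ≤ w1 x) (h2 : 0 ≤ w2 x) (h3 : 0 ≤ w3 x) (h4 : 0 ≤ w4 x)
    (k1 : 0 ≤ c1) (k2 : 0 ≤ c2) (k3 : 0 ≤ c3) (k4 : 0 ≤ c4)
    (o12 : bf M w1 w2 = 0) (o13 : bf M w1 w3 = 0) (o14 : bf M w1 w4 = 0) (o23 : bf M w2 w3 = 0)
    (o24 : bf M w2 w4 = 0) (o34 : bf M w3 w4 = 0) :
    0 < bf M u u + 2 * (c1 * bf M u w1 + c2 * bf M u w2 + c3 * bf M u w3 + c4 * bf M u w4) +
      (c1 ^ 2 * bf M w1 w1 + c2 ^ 2 * bf M w2 w2 + c3 ^ 2 * bf M w3 w3 + c4 ^ 2 * bf M w4 w4) := by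
  have hne : u + c1 • w1 + c2 • w2 + c3 • w3 + c4 • w4 ≠ 0 := by
    intro h
    have := congrFun h x
    simp only [Pi.add_apply, Pi.smul_apply, smul_eq_mul, Pi.zero_apply] at this
    nlinarith [mul_nonneg k1 h1, mul_nonneg k2 h2, mul_nonneg k3 h3, mul_nonneg k4 h4]
  have key := hpos _ hne
  rw [← bf_self] at key
  simp only [bf_add_left, bf_add_right, bf_smul_left, bf_smul_right, o12, o13, o14, o23, o24, o34,
    bf_comm M w2 w1, bf_comm M w3 w1, bf_comm M w4 w1, bf_comm M w3 w2, bf_comm M w4 w2, bf_comm M w4 w3,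
    bf_comm M w1 u, bf_comm M w2 u, bf_comm M w3 u, bf_comm M w4 u] at key
  linarith [key]

/-- `v 0, …, v (n-1)` is a simply laced path -/
def Pth (v : ℕ → B) (n : ℕ) : Prop :=
  ∀ i j, i < j → j < n → M (v i) (v j) = if i + 1 = j then 3 else 2

/-- path sum -/
noncomputable def ps (v : ℕ → B) (n : ℕ) : B → ℝ := ∑ i ∈ range n, bs (v i)

/-- `y` is adjacent at most to `v t` among `v 0, …, v (n-1)` -/
def Att (v : ℕ → B) (n : ℕ) (y : B) (t : ℕ) : Prop :=
  t < n ∧ ∀ j, j < n → j ≠ t → M (v j) y = 2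

theorem bs_nonneg (a x : B) : 0 ≤ bs a x := by
  unfold bs
  by_cases h : x = a
  · subst h; simp
  · simp [h]

theorem ps_bs {v : ℕ → B} {n : ℕ} {y : B} {t : ℕ} (h : Att M v n y t) :
    bf M (ps v n) (bs y) = K M (v t) y := by
  rw [ps, bf_sum_left, Finset.sum_eq_single t]
  · rw [bf_bs_bs]
  · intro j hj hjt
    rw [bf_bs_bs, K_two M (h.2 j (mem_range.1 hj) hjt)]
  · intro ht
    exact absurd (mem_range.2 h.1) ht

theorem Pth.mono {v : ℕ → B} {n k : ℕ} (h : Pth M v n) (hk : k ≤ n) : Pth M v k :=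
  fun i j hij hj => h i j hij (by omega)

theorem ps_ps {v : ℕ → B} {n : ℕ} (h : Pth M v (n + 1)) : bf M (ps v (n + 1)) (ps v (n + 1)) = 1 := by
  induction n with
  | zero => simp [ps, bf_bs_bs, K_self]
  | succ n ih =>
    have h1 : ps v (n + 1 + 1) = ps v (n + 1) + bs (v (n + 1)) := by
      rw [ps, Finset.sum_range_succ]
      rfl
    have h2 : bf M (ps v (n + 1)) (bs (v (n + 1))) = -(1 / 2) := by
      rw [ps_bs M (t := n) ⟨by omega, fun j hj hjt => ?_⟩]
      · apply K_three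
        rw [h n (n + 1) (by omega) (by omega)]
        simp
      · rw [h j (n + 1) (by omega) (by omega)]
        simp only [ite_eq_right_iff]
        omega
    rw [h1]
    simp only [bf_add_left, bf_add_right]
    rw [ih (h.mono M (by omega)), bf_comm M (bs (v (n + 1))), h2, bf_bs_bs, K_self]
    norm_num

theorem ps_pos (v : ℕ → B) (n : ℕ) : 0 < ps v (n + 1) (v 0) := by
  rw [ps, Finset.sum_apply]
  apply Finset.sum_pos'
  · intro i _
    exact bs_nonneg _ _
  · exact ⟨0, by simp, by simp [bs]⟩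

include hpos in
/-- four extra neighbours of a simply laced path -/
theorem exclD {v : ℕ → B} {n : ℕ} (h : Pth M v (n + 1)) {a b c d : B} {i j k l : ℕ}
    (ha : Att M v (n + 1) a i) (hb : Att M v (n + 1) b j) (hc : Att M v (n + 1) c k) (hd : Att M v (n + 1) d l)
    (ha3 : 3 ≤ M (v i) a) (hb3 : 3 ≤ M (v j) b) (hc3 : 3 ≤ M (v k) c) (hd3 : 3 ≤ M (v l) d)
    (hab : M a b = 2) (hac : M a c = 2) (had : M a d = 2) (hbc : M b c = 2) (hbd : M b d = 2) (hcd : M c d = 2) :
    False := by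
  have key := excl4 M hpos (ps v (n + 1)) (bs a) (bs b) (bs c) (bs d) (1 / 2) (1 / 2) (1 / 2) (1 / 2) (v 0)
    (ps_pos v n) (bs_nonneg _ _) (bs_nonneg _ _) (bs_nonneg _ _) (bs_nonneg _ _)
    (by norm_num) (by norm_num) (by norm_num) (by norm_num)
    (by rw [bf_bs_bs, K_two M hab]) (by rw [bf_bs_bs, K_two M hac]) (by rw [bf_bs_bs, K_two M had])
    (by rw [bf_bs_bs, K_two M hbc]) (by rw [bf_bs_bs, K_two M hbd]) (by rw [bf_bs_bs, K_two M hcd])
  rw [ps_ps M h, ps_bs M ha, ps_bs M hb, ps_bs M hc, ps_bs M hd] at key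
  simp only [bf_bs_bs, K_self] at key
  linarith [K_le_three M ha3, K_le_three M hb3, K_le_three M hc3, K_le_three M hd3]

include hpos in
/-- three extra neighbours of a simply laced path, one of them with a multiple bond -/
theorem exclB {v : ℕ → B} {n : ℕ} (h : Pth M v (n + 1)) {a b c : B} {i j k : ℕ}
    (ha : Att M v (n + 1) a i) (hb : Att M v (n + 1) b j) (hc : Att M v (n + 1) c k)
    (ha3 : 3 ≤ M (v i) a) (hb3 : 3 ≤ M (v j) b) (hc4 : 4 ≤ M (v k) c)
    (hab : M a b = 2) (hac : M a c = 2) (hbc : M b c = 2) : False := by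
  have key := excl4 M hpos (ps v (n + 1)) (bs a) (bs b) (bs c) 0 (1 / 2) (1 / 2) (Real.sqrt 2 / 2) 0 (v 0)
    (ps_pos v n) (bs_nonneg _ _) (bs_nonneg _ _) (bs_nonneg _ _) (le_refl _)
    (by norm_num) (by norm_num) (by positivity) (by norm_num)
    (by rw [bf_bs_bs, K_two M hab]) (by rw [bf_bs_bs, K_two M hac]) (bf_zero_right M _)
    (by rw [bf_bs_bs, K_two M hbc]) (bf_zero_right M _) (bf_zero_right M _)
  rw [ps_ps M h, ps_bs M ha, ps_bs M hb, ps_bs M hc] at key
  simp only [bf_bs_bs, K_self, bf_zero_right] at key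
  have h2 : Real.sqrt 2 ^ 2 = 2 := Real.sq_sqrt (by norm_num)
  have h3 := K_le_four M hc4
  have h4 : Real.sqrt 2 / 2 * K M (v k) c ≤ Real.sqrt 2 / 2 * -(Real.sqrt 2 / 2) :=
    mul_le_mul_of_nonneg_left h3 (by positivity)
  nlinarith [K_le_three M ha3, K_le_three M hb3]

include hpos in
/-- two extra neighbours of a simply laced path, both with multiple bonds -/
theorem exclC {v : ℕ → B} {n : ℕ} (h : Pth M v (n + 1)) {a b : B} {i j : ℕ}
    (ha : Att M v (n + 1) a i) (hb : Att M v (n + 1) b j)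
    (ha4 : 4 ≤ M (v i) a) (hb4 : 4 ≤ M (v j) b) (hab : M a b = 2) : False := by
  have key := excl4 M hpos (ps v (n + 1)) (bs a) (bs b) 0 0 (Real.sqrt 2 / 2) (Real.sqrt 2 / 2) 0 0 (v 0)
    (ps_pos v n) (bs_nonneg _ _) (bs_nonneg _ _) (le_refl _) (le_refl _)
    (by positivity) (by positivity) (by norm_num) (by norm_num)
    (by rw [bf_bs_bs, K_two M hab]) (bf_zero_right M _) (bf_zero_right M _)
    (bf_zero_right M _) (bf_zero_right M _) (bf_zero_right M _)
  rw [ps_ps M h, ps_bs M ha, ps_bs M hb] at key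
  simp only [bf_bs_bs, K_self, bf_zero_right] at key
  have h2 : Real.sqrt 2 ^ 2 = 2 := Real.sq_sqrt (by norm_num)
  have h4 : Real.sqrt 2 / 2 * K M (v i) a ≤ Real.sqrt 2 / 2 * -(Real.sqrt 2 / 2) :=
    mul_le_mul_of_nonneg_left (K_le_four M ha4) (by positivity)
  have h5 : Real.sqrt 2 / 2 * K M (v j) b ≤ Real.sqrt 2 / 2 * -(Real.sqrt 2 / 2) :=
    mul_le_mul_of_nonneg_left (K_le_four M hb4) (by positivity)
  nlinarith

include hpos in
/-- a bond with label at least `6` and another bond -/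
theorem exclG {x a b : B} (ha : 3 ≤ M x a) (hb : 6 ≤ M x b) (hab : M a b = 2) : False := by
  have key := excl4 M hpos (bs x) (bs a) (bs b) 0 0 (1 / 2) (Real.sqrt 3 / 2) 0 0 x
    (by simp [bs]) (bs_nonneg _ _) (bs_nonneg _ _) (le_refl _) (le_refl _)
    (by norm_num) (by positivity) (by norm_num) (by norm_num)
    (by rw [bf_bs_bs, K_two M hab]) (bf_zero_right M _) (bf_zero_right M _)
    (bf_zero_right M _) (bf_zero_right M _) (bf_zero_right M _)
  simp only [bf_bs_bs, K_self, bf_zero_right] at key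
  have h2 : Real.sqrt 3 ^ 2 = 3 := Real.sq_sqrt (by norm_num)
  have h5 : Real.sqrt 3 / 2 * K M x b ≤ Real.sqrt 3 / 2 * -(Real.sqrt 3 / 2) :=
    mul_le_mul_of_nonneg_left (K_le_six M hb) (by positivity)
  nlinarith [K_le_three M ha]

/-- arm vector: `n e_{v 1} + (n-1) e_{v 2} + … + e_{v n}` -/
noncomputable def av (v : ℕ → B) : ℕ → B → ℝ
  | 0 => 0
  | n + 1 => av v n + ∑ i ∈ range (n + 1), bs (v (i + 1))

theorem av_nonneg (v : ℕ → B) (n : ℕ) (x : B) : 0 ≤ av v n x := by
  induction n with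
  | zero => simp [av]
  | succ n ih =>
    rw [av, Pi.add_apply, Finset.sum_apply]
    exact add_nonneg ih (Finset.sum_nonneg fun i _ => bs_nonneg _ _)

/-- `y` is adjacent at most to `v 1` among `v 1, …, v n`: `(y, av) = n K(y, v 1)` -/
theorem bs_av {v : ℕ → B} {n : ℕ} {y : B} (h : ∀ i, 2 ≤ i → i ≤ n → M y (v i) = 2) :
    bf M (bs y) (av v n) = n * K M y (v 1) := by
  induction n with
  | zero => simp [av, bf_zero_right]
  | succ n ih =>
    rw [av, bf_add_right, ih fun i h1 h2 => h i h1 (by omega), bf_comm, bf_sum_left, Finset.sum_eq_single 0]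
    · rw [bf_bs_bs, K_symm]
      push_cast
      ring
    · intro i hi hi0
      rw [bf_bs_bs, K_symm, K_two M (h (i + 1) (by omega) (by have := mem_range.1 hi; omega))]
    · intro h0
      exact absurd (mem_range.2 (by omega)) h0

theorem av_orth {v : ℕ → B} {n : ℕ} (x : B → ℝ) (h : ∀ i, 1 ≤ i → i ≤ n → bf M x (bs (v i)) = 0) :
    bf M x (av v n) = 0 := by
  induction n with
  | zero => simp [av, bf_zero_right]
  | succ n ih =>
    rw [av, bf_add_right, ih fun i h1 h2 => h i h1 (by omega), bf_comm, bf_sum_left, Finset.sum_eq_zero, add_zero]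
    intro i hi
    rw [bf_comm]
    exact h _ (by omega) (by have := mem_range.1 hi; omega)

theorem av_av_orth {v w : ℕ → B} {m n : ℕ} (h : ∀ i j, 1 ≤ i → i ≤ m → 1 ≤ j → j ≤ n → M (v i) (w j) = 2) :
    bf M (av v m) (av w n) = 0 := by
  apply av_orth
  intro j h1 h2
  rw [bf_comm]
  apply av_orth
  intro i h3 h4
  rw [bf_comm, bf_bs_bs, K_two M (h i j h3 h4 h1 h2)]

/-- partial sums `v 1 + … + v n` -/
theorem ss_ss {v : ℕ → B} {n : ℕ} (h : Pth M v (n + 2)) :
    bf M (∑ i ∈ range (n + 1), bs (v (i + 1))) (∑ i ∈ range (n + 1), bs (v (i + 1))) = 1 := by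
  have := ps_ps M (v := fun i => v (i + 1)) (n := n) (by
    intro i j hij hj
    rw [h (i + 1) (j + 1) (by omega) (by omega)]
    simp)
  exact this

theorem ss_last {v : ℕ → B} {n : ℕ} (h : Pth M v (n + 3)) :
    bf M (∑ i ∈ range (n + 1), bs (v (i + 1))) (bs (v (n + 2))) = -(1 / 2) := by
  rw [bf_sum_left, Finset.sum_eq_single n]
  · rw [bf_bs_bs, K_three M]
    rw [h (n + 1) (n + 2) (by omega) (by omega)]
    simp
  · intro i hi hin
    have := mem_range.1 hi
    rw [bf_bs_bs, K_two M]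
    rw [h (i + 1) (n + 2) (by omega) (by omega)]
    simp only [ite_eq_right_iff]
    omega
  · intro h0
    exact absurd (mem_range.2 (by omega)) h0

theorem av_next {v : ℕ → B} {n : ℕ} (h : Pth M v (n + 2)) :
    bf M (av v n) (bs (v (n + 1))) = if n = 0 then 0 else -(1 / 2) := by
  rcases n with _ | n
  · simp [av, bf_zero_left]
  · rw [av, bf_add_left, ss_last M (by exact h)]
    have : bf M (av v n) (bs (v (n + 1 + 1))) = 0 := by
      rw [bf_comm]
      apply av_orth
      intro i h1 h2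
      rw [bf_bs_bs, K_symm, K_two M]
      rw [h i (n + 1 + 1) (by omega) (by omega)]
      simp only [ite_eq_right_iff]
      omega
    rw [this]
    simp

theorem av_ss {v : ℕ → B} {n : ℕ} (h : Pth M v (n + 2)) :
    bf M (av v n) (∑ i ∈ range (n + 1), bs (v (i + 1))) = n / 2 := by
  induction n with
  | zero => simp [av, bf_zero_left]
  | succ n ih =>
    have h1 := ih (h.mono M (by omega))
    have h2 := av_next M h
    rw [Finset.sum_range_succ, bf_add_right, h2, av, bf_add_left, h1, ss_ss M (h.mono M (by omega))]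
    push_cast
    simp
    ring

theorem av_av {v : ℕ → B} {n : ℕ} (h : Pth M v (n + 1)) :
    bf M (av v n) (av v n) = n * (n + 1) / 2 := by
  induction n with
  | zero => simp [av, bf_zero_left]
  | succ n ih =>
    have h1 := ih (h.mono M (by omega))
    have h2 := av_ss M (n := n) (by exact h)
    have h3 := ss_ss M (n := n) (by exact h)
    rw [av]
    simp only [bf_add_left, bf_add_right]
    rw [h1, h2, h3, bf_comm M (∑ i ∈ range (n + 1), bs (v (i + 1))) (av v n), h2]
    push_cast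
    ring

include hpos in
/-- a node with three arms of lengths `p, q, r` -/
theorem excl_arms {x y z : ℕ → B} {p q r : ℕ} (hx : Pth M x (p + 1)) (hy : Pth M y (q + 1)) (hz : Pth M z (r + 1))
    (hp : 1 ≤ p) (hq : 1 ≤ q) (hr : 1 ≤ r)
    (hxy0 : x 0 = y 0) (hxz0 : x 0 = z 0)
    (hxy : ∀ i j, 1 ≤ i → i ≤ p → 1 ≤ j → j ≤ q → M (x i) (y j) = 2)
    (hxz : ∀ i j, 1 ≤ i → i ≤ p → 1 ≤ j → j ≤ r → M (x i) (z j) = 2)
    (hyz : ∀ i j, 1 ≤ i → i ≤ q → 1 ≤ j → j ≤ r → M (y i) (z j) = 2)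
    (h : (2 : ℝ) ≤ p / (p + 1) + q / (q + 1) + r / (r + 1)) : False := by
  have e : ∀ (v : ℕ → B) (n : ℕ), Pth M v (n + 1) → 1 ≤ n → bf M (bs (v 0)) (av v n) = - (n / 2) := by
    intro v n hv hn
    rw [bs_av M, K_three M]
    · ring
    · rw [hv 0 1 (by omega) (by omega)]
      simp
    · intro i h1 h2
      rw [hv 0 i (by omega) (by omega)]
      simp only [ite_eq_right_iff]
      omega
  have ex := e x p hx hp
  have ey := e y q hy hq
  have ez := e z r hz hr
  rw [← hxy0] at ey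
  rw [← hxz0] at ez
  have key := excl4 M hpos (bs (x 0)) (av x p) (av y q) (av z r) 0 (1 / (p + 1)) (1 / (q + 1)) (1 / (r + 1)) 0 (x 0)
    (by simp [bs]) (av_nonneg _ _ _) (av_nonneg _ _ _) (av_nonneg _ _ _) (le_refl _)
    (by positivity) (by positivity) (by positivity) (by norm_num)
    (av_av_orth M hxy) (av_av_orth M hxz) (bf_zero_right M _)
    (av_av_orth M hyz) (bf_zero_right M _) (bf_zero_right M _)
  rw [ex, ey, ez, av_av M hx, av_av M hy, av_av M hz] at key
  simp only [bf_bs_bs, K_self, bf_zero_right] at key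
  have f : ∀ n : ℕ, 2 * (1 / ((n : ℝ) + 1) * -((n : ℝ) / 2)) + (1 / ((n : ℝ) + 1)) ^ 2 * ((n : ℝ) * (n + 1) / 2) =
      - (n / (n + 1)) / 2 := by
    intro n
    have : (n : ℝ) + 1 ≠ 0 := by positivity
    field_simp
    ring
  have fp := f p
  have fq := f q
  have fr := f r
  linarith

include hpos in
/-- a bond with label at least `4` and arms of lengths at least `p - 1`, `q - 1` at both ends -/
theorem exclF {x y : ℕ → B} (hx : Pth M x 3) (hy : Pth M y 2)
    (h4 : 4 ≤ M (x 0) (y 0)) (hxy : ∀ i j, i < 3 → j < 2 → (i ≠ 0 ∨ j ≠ 0) → M (x i) (y j) = 2) : False := by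
  have ex : bf M (bs (x 0)) (av x 2) = -1 := by
    rw [bs_av M, K_three M]
    · norm_num
    · rw [hx 0 1 (by omega) (by omega)]
      simp
    · intro i h1 h2
      rw [hx 0 i (by omega) (by omega)]
      simp only [ite_eq_right_iff]
      omega
  set w : B → ℝ := (2 : ℝ) • bs (y 0) + bs (y 1) with hw
  have hy01 : K M (y 0) (y 1) = -(1 / 2) := by
    apply K_three
    rw [hy 0 1 (by omega) (by omega)]
    simp
  have hww : bf M w w = 3 := by
    simp only [hw, bf_add_left, bf_add_right, bf_smul_left, bf_smul_right, bf_bs_bs, K_self, K_symm M (y 1) (y 0), hy01]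
    norm_num
  have hxw : bf M (bs (x 0)) w = 2 * K M (x 0) (y 0) := by
    simp only [hw, bf_add_right, bf_smul_right, bf_bs_bs, K_two M (hxy 0 1 (by omega) (by omega) (Or.inr one_ne_zero))]
    ring
  have hwa : bf M (av x 2) w = 0 := by
    rw [bf_comm]
    apply av_orth
    intro i h1 h2
    simp only [hw, bf_add_left, bf_smul_left, bf_bs_bs, K_symm M (y 0) (x i), K_symm M (y 1) (x i),
      K_two M (hxy i 0 (by omega) (by omega) (Or.inl (by omega))),
      K_two M (hxy i 1 (by omega) (by omega) (Or.inl (by omega)))]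
    ring
  have hw0 : 0 ≤ w (x 0) := by
    simp only [hw, Pi.add_apply, Pi.smul_apply, smul_eq_mul]
    have := bs_nonneg (y 0) (x 0)
    have := bs_nonneg (y 1) (x 0)
    linarith
  have key := excl4 M hpos (bs (x 0)) (av x 2) w 0 0 (1 / 3) (Real.sqrt 2 / 3) 0 0 (x 0)
    (by simp [bs]) (av_nonneg _ _ _) hw0 (le_refl _) (le_refl _)
    (by positivity) (by positivity) (by norm_num) (by norm_num)
    hwa (bf_zero_right M _) (bf_zero_right M _)
    (bf_zero_right M _) (bf_zero_right M _) (bf_zero_right M _)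
  have haa := av_av M hx
  push_cast at haa
  rw [ex, hxw, haa, hww] at key
  simp only [bf_bs_bs, K_self, bf_zero_right] at key
  have h2 : Real.sqrt 2 ^ 2 = 2 := Real.sq_sqrt (by norm_num)
  have h5 : Real.sqrt 2 / 3 * K M (x 0) (y 0) ≤ Real.sqrt 2 / 3 * -(Real.sqrt 2 / 2) :=
    mul_le_mul_of_nonneg_left (K_le_four M h4) (by positivity)
  nlinarith

theorem ne_of_ge {a b : B} (h : 2 ≤ M a b) : a ≠ b := by
  rintro rfl
  rw [M.diagonal] at h
  omega

theorem Pth.ne {v : ℕ → B} {n : ℕ} (h : Pth M v n) {i j : ℕ} (hi : i < n) (hj : j < n) (hij : i ≠ j) : v i ≠ v j := by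
  rcases Nat.lt_or_gt_of_ne hij with h1 | h1
  · apply ne_of_ge M
    rw [h i j h1 hj]
    split_ifs <;> omega
  · apply Ne.symm
    apply ne_of_ge M
    rw [h j i h1 hi]
    split_ifs <;> omega

theorem Pth.far {v : ℕ → B} {n : ℕ} (h : Pth M v n) {i j : ℕ} (hij : i + 1 < j) (hj : j < n) : M (v i) (v j) = 2 := by
  rw [h i j (by omega) hj, if_neg (by omega)]

theorem Pth.next {v : ℕ → B} {n : ℕ} (h : Pth M v n) {i : ℕ} (hi : i + 1 < n) : M (v i) (v (i + 1)) = 3 := by
  rw [h i (i + 1) (by omega) hi, if_pos rfl]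

theorem Pth.shift {v : ℕ → B} {n : ℕ} (k m : ℕ) (h : Pth M v n) (hm : k + m ≤ n) : Pth M (fun i => v (k + i)) m := by
  intro i j hij hj
  show M (v (k + i)) (v (k + j)) = _
  rw [h (k + i) (k + j) (by omega) (by omega)]
  by_cases h1 : i + 1 = j
  · rw [if_pos h1, if_pos (by omega)]
  · rw [if_neg h1, if_neg (by omega)]

theorem Pth.back {v : ℕ → B} {n : ℕ} (k m : ℕ) (h : Pth M v n) (hk : k < n) (hm : m ≤ k + 1) :
    Pth M (fun i => v (k - i)) m := by
  intro i j hij hj
  show M (v (k - i)) (v (k - j)) = _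
  rw [M.symmetric, h (k - j) (k - i) (by omega) (by omega)]
  by_cases h1 : i + 1 = j
  · rw [if_pos h1, if_pos (by omega)]
  · rw [if_neg h1, if_neg (by omega)]

end Cfsg.Agent.LieRecognition.CoxExcl
end

-- part: LieRecognition/CoxClass
section
/-!
# Classification of the connected diagrams with positive definite form and labels `≠ 5`

Leaf induction.  `IsP`: simply laced path; `IsT`: path with one multiple bond; `IsS`: simply laced star with three arms.
Main results: `classify` and `classify_coxeter`.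
-/

set_option autoImplicit false
set_option linter.unusedSectionVars false

namespace Cfsg.Agent.LieRecognition.CoxClass

open Finset Cfsg.Agent.LieRecognition.CoxForm Cfsg.Agent.LieRecognition.CoxExcl

variable {B : Type*} [Fintype B] [DecidableEq B] (M : CoxeterMatrix B)

/-- connected set of nodes -/
def Conn (S : Finset B) : Prop :=
  ∀ J : Finset B, J ⊆ S → J.Nonempty → (S \ J).Nonempty → ∃ a ∈ J, ∃ b ∈ S \ J, M a b ≠ 2

theorem ne_of_two {a b : B} (h : M a b = 2) : a ≠ b := by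
  rintro rfl
  rw [M.diagonal] at h
  omega

theorem K_nonpos {a b : B} (h : 2 ≤ M a b) : K M a b ≤ 0 := by
  have := K_le M (by norm_num) h
  norm_num at this
  linarith

theorem sum_le_zero {S : Finset B} (hM : ∀ a b : B, a ≠ b → 2 ≤ M a b) {l a b : B} (hl : l ∈ S) (ha : a ∈ S)
    (hb : b ∈ S) (hal : a ≠ l) (hbl : b ≠ l) (hab : a ≠ b) (ha3 : M l a ≠ 2) (hb3 : M l b ≠ 2) :
    ∑ c ∈ S, K M l c ≤ 0 := by
  rw [← Finset.add_sum_erase S _ hl, K_self, ← Finset.add_sum_erase (S.erase l) _ (mem_erase.2 ⟨hal, ha⟩),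
    ← Finset.add_sum_erase ((S.erase l).erase a) _ (mem_erase.2 ⟨hab.symm, mem_erase.2 ⟨hbl, hb⟩⟩)]
  have h1 : K M l a ≤ -(1 / 2) := K_le_three M (by have := hM l a hal.symm; omega)
  have h2 : K M l b ≤ -(1 / 2) := K_le_three M (by have := hM l b hbl.symm; omega)
  have h3 : ∑ c ∈ ((S.erase l).erase a).erase b, K M l c ≤ 0 := by
    apply Finset.sum_nonpos
    intro c hc
    simp only [mem_erase] at hc
    exact K_nonpos M (hM l c (Ne.symm hc.2.2.1))
  linarith

variable (hpos : ∀ x : B → ℝ, x ≠ 0 → 0 < q M x)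

include hpos in
theorem exists_leaf (hM : ∀ a b : B, a ≠ b → 2 ≤ M a b) {S : Finset B} (hS : Conn M S) (h2 : 2 ≤ S.card) :
    ∃ l ∈ S, ∃ k ∈ S, k ≠ l ∧ 3 ≤ M k l ∧ ∀ b ∈ S, b ≠ l → b ≠ k → M b l = 2 := by
  by_contra hcon
  have key : ∀ l ∈ S, ∑ c ∈ S, K M l c ≤ 0 := by
    intro l hl
    obtain ⟨l', hl', b, hb, hne⟩ := hS {l} (by simpa using hl) (by simp) (by
      rw [sdiff_singleton_eq_erase]
      apply Finset.card_pos.1
      rw [card_erase_of_mem hl]
      omega)
    rw [mem_singleton] at hl'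
    subst hl'
    rw [mem_sdiff, mem_singleton] at hb
    by_contra hsum
    apply hcon
    refine ⟨l', hl, b, hb.1, hb.2, ?_, ?_⟩
    · rw [M.symmetric]
      have := hM l' b (Ne.symm hb.2)
      omega
    · intro c hc hcl hcb
      by_contra hc2
      exact hsum (sum_le_zero M hM hl hb.1 hc hb.2 hcl (Ne.symm hcb) hne (by rwa [M.symmetric]))
  have hne : (∑ a ∈ S, bs a : B → ℝ) ≠ 0 := by
    obtain ⟨a, ha⟩ := Finset.card_pos.1 (by omega : 0 < S.card)
    intro h
    have := congrFun h a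
    rw [Finset.sum_apply, Pi.zero_apply] at this
    have h3 : 0 < ∑ c ∈ S, (bs c : B → ℝ) a :=
      Finset.sum_pos' (fun c _ => bs_nonneg _ _) ⟨a, ha, by simp [bs]⟩
    linarith
  have := hpos _ hne
  rw [← bf_self, bf_sum_left] at this
  have h4 : ∑ i ∈ S, bf M (bs i) (∑ a ∈ S, bs a) ≤ 0 := by
    apply Finset.sum_nonpos
    intro l hl
    rw [bf_comm, bf_sum_left]
    simp only [bf_bs_bs, K_symm M _ l]
    exact key l hl
  linarith

theorem Conn.erase {S : Finset B} (hS : Conn M S) {l k : B} (hl : l ∈ S) (hk : k ∈ S) (hkl : k ≠ l)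
    (h : ∀ b ∈ S, b ≠ l → b ≠ k → M b l = 2) : Conn M (S.erase l) := by
  intro J hJ hJne hJc
  have hlJ : l ∉ J := fun hh => (mem_erase.1 (hJ hh)).1 rfl
  have hJS : J ⊆ S := fun x hx => (mem_erase.1 (hJ hx)).2
  by_cases hkJ : k ∈ J
  · obtain ⟨a, ha, b, hb, hab⟩ := hS (insert l J) (by
      intro x hx
      rcases mem_insert.1 hx with rfl | hx
      · exact hl
      · exact hJS hx) (by simp) (by
      obtain ⟨x, hx⟩ := hJc
      simp only [mem_sdiff, mem_erase] at hx
      refine ⟨x, ?_⟩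
      simp only [mem_sdiff, mem_insert, not_or]
      exact ⟨hx.1.2, hx.1.1, hx.2⟩)
    simp only [mem_sdiff, mem_insert, not_or] at hb
    rcases mem_insert.1 ha with rfl | ha
    · exfalso
      apply hab
      rw [M.symmetric]
      apply h b hb.1 hb.2.1
      rintro rfl
      exact hb.2.2 hkJ
    · refine ⟨a, ha, b, ?_, hab⟩
      simp only [mem_sdiff, mem_erase]
      exact ⟨⟨hb.2.1, hb.1⟩, hb.2.2⟩
  · obtain ⟨a, ha, b, hb, hab⟩ := hS J hJS hJne ⟨l, by simp [hl, hlJ]⟩
    simp only [mem_sdiff] at hb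
    by_cases hbl : b = l
    · subst hbl
      exfalso
      apply hab
      apply h a (hJS ha)
      · rintro rfl
        exact hlJ ha
      · rintro rfl
        exact hkJ ha
    · refine ⟨a, ha, b, ?_, hab⟩
      simp only [mem_sdiff, mem_erase]
      exact ⟨⟨hbl, hb.1⟩, hb.2⟩

/-! ### the three shapes -/

/-- simply laced path -/
def IsP (S : Finset B) : Prop := ∃ (v : ℕ → B) (n : ℕ), Pth M v (n + 1) ∧ ∀ b, b ∈ S ↔ ∃ i, i ≤ n ∧ v i = b

/-- path with one multiple bond -/
def TP (x : ℕ → B) (p : ℕ) (y : ℕ → B) (q : ℕ) : Prop :=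
  Pth M x (p + 1) ∧ Pth M y (q + 1) ∧ 4 ≤ M (x 0) (y 0) ∧
    ∀ i j, i ≤ p → j ≤ q → (i ≠ 0 ∨ j ≠ 0) → M (x i) (y j) = 2

def IsT (S : Finset B) : Prop :=
  ∃ (x : ℕ → B) (p : ℕ) (y : ℕ → B) (q : ℕ), TP M x p y q ∧
    ∀ b, b ∈ S ↔ (∃ i, i ≤ p ∧ x i = b) ∨ (∃ i, i ≤ q ∧ y i = b)

/-- simply laced star with three arms -/
structure ST (x : ℕ → B) (p : ℕ) (y : ℕ → B) (q : ℕ) (z : ℕ → B) (r : ℕ) : Prop where
  px : Pth M x (p + 1)
  py : Pth M y (q + 1)
  pz : Pth M z (r + 1)
  hp : 1 ≤ p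
  hq : 1 ≤ q
  hr : 1 ≤ r
  xy0 : x 0 = y 0
  xz0 : x 0 = z 0
  xy : ∀ i j, 1 ≤ i → i ≤ p → 1 ≤ j → j ≤ q → M (x i) (y j) = 2
  xz : ∀ i j, 1 ≤ i → i ≤ p → 1 ≤ j → j ≤ r → M (x i) (z j) = 2
  yz : ∀ i j, 1 ≤ i → i ≤ q → 1 ≤ j → j ≤ r → M (y i) (z j) = 2

def IsS (S : Finset B) : Prop :=
  ∃ (x : ℕ → B) (p : ℕ) (y : ℕ → B) (q : ℕ) (z : ℕ → B) (r : ℕ), ST M x p y q z r ∧
    ∀ b, b ∈ S ↔ (∃ i, i ≤ p ∧ x i = b) ∨ (∃ i, i ≤ q ∧ y i = b) ∨ (∃ i, i ≤ r ∧ z i = b)

theorem TP.symm {x : ℕ → B} {p : ℕ} {y : ℕ → B} {q : ℕ} (h : TP M x p y q) : TP M y q x p :=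
  ⟨h.2.1, h.1, by rw [M.symmetric]; exact h.2.2.1, fun i j hi hj hij => by
    rw [M.symmetric]; exact h.2.2.2 j i hj hi hij.symm⟩

theorem ST.swap {x y z : ℕ → B} {p q r : ℕ} (h : ST M x p y q z r) : ST M y q x p z r :=
  ⟨h.py, h.px, h.pz, h.hq, h.hp, h.hr, h.xy0.symm, h.xy0.symm.trans h.xz0,
    fun i j h1 h2 h3 h4 => by rw [M.symmetric]; exact h.xy j i h3 h4 h1 h2, h.yz, h.xz⟩

theorem ST.rot {x y z : ℕ → B} {p q r : ℕ} (h : ST M x p y q z r) : ST M z r x p y q :=
  ⟨h.pz, h.px, h.py, h.hr, h.hp, h.hq, h.xz0.symm, h.xz0.symm.trans h.xy0,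
    fun i j h1 h2 h3 h4 => by rw [M.symmetric]; exact h.xz j i h3 h4 h1 h2,
    fun i j h1 h2 h3 h4 => by rw [M.symmetric]; exact h.yz j i h3 h4 h1 h2, h.xy⟩

/-- append a node -/
def ext (v : ℕ → B) (n : ℕ) (l : B) : ℕ → B := fun i => if i ≤ n then v i else l

theorem ext_le {v : ℕ → B} {n : ℕ} {l : B} {i : ℕ} (h : i ≤ n) : ext v n l i = v i := by simp [ext, h]

theorem ext_gt {v : ℕ → B} {n : ℕ} {l : B} {i : ℕ} (h : n < i) : ext v n l i = l := by
  simp [ext, Nat.not_le.2 h]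

theorem ext_mem {v : ℕ → B} {n : ℕ} {l b : B} : (∃ i, i ≤ n + 1 ∧ ext v n l i = b) ↔ b = l ∨ ∃ i, i ≤ n ∧ v i = b := by
  constructor
  · rintro ⟨i, hi, rfl⟩
    by_cases h : i ≤ n
    · exact Or.inr ⟨i, h, (ext_le h).symm⟩
    · left
      rw [ext_gt (by omega)]
  · rintro (rfl | ⟨i, hi, rfl⟩)
    · exact ⟨n + 1, le_refl _, ext_gt (by omega)⟩
    · exact ⟨i, by omega, ext_le hi⟩

theorem Pth_ext {v : ℕ → B} {n : ℕ} {l : B} (h : Pth M v (n + 1)) (h3 : M (v n) l = 3)
    (h2 : ∀ i, i < n → M (v i) l = 2) : Pth M (ext v n l) (n + 1 + 1) := by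
  intro i j hij hj
  by_cases hjn : j ≤ n
  · rw [ext_le hjn, ext_le (by omega)]
    exact h i j hij (by omega)
  · rw [ext_gt (by omega : n < j), ext_le (by omega)]
    by_cases hi : i = n
    · subst hi
      rw [h3]
      rw [if_pos (by omega)]
    · rw [h2 i (by omega), if_neg (by omega)]

theorem Pth_rev {v : ℕ → B} {n : ℕ} (h : Pth M v (n + 1)) : Pth M (fun i => v (n - i)) (n + 1) := by
  intro i j hij hj
  show M (v (n - i)) (v (n - j)) = _
  rw [M.symmetric, h (n - j) (n - i) (by omega) (by omega)]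
  by_cases h1 : i + 1 = j
  · rw [if_pos h1, if_pos (by omega)]
  · rw [if_neg h1, if_neg (by omega)]

theorem Pth_one (v : ℕ → B) : Pth M v 1 := fun i j hij hj => by omega

/-! ### the induction step -/

theorem step_P_end {S : Finset B} {v : ℕ → B} {n : ℕ} (h : Pth M v (n + 1)) (hS : ∀ b, b ∈ S ↔ ∃ i, i ≤ n ∧ v i = b)
    {l : B} (h3 : 3 ≤ M (v n) l) (h2 : ∀ i, i < n → M (v i) l = 2) : IsP M (insert l S) ∨ IsT M (insert l S) := by
  rcases Nat.lt_or_ge (M (v n) l) 4 with h4 | h4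
  · left
    refine ⟨ext v n l, n + 1, Pth_ext M h (by omega) h2, ?_⟩
    intro b
    rw [mem_insert, hS, ext_mem]
  · right
    refine ⟨fun i => v (n - i), n, fun _ => l, 0, ⟨Pth_rev M h, Pth_one M _, ?_, ?_⟩, ?_⟩
    · simpa using h4
    · intro i j hi hj hij
      exact h2 (n - i) (by omega)
    · intro b
      rw [mem_insert, hS]
      constructor
      · rintro (rfl | ⟨i, hi, rfl⟩)
        · exact Or.inr ⟨0, le_refl _, rfl⟩
        · exact Or.inl ⟨n - i, by omega, congrArg v (by omega : n - (n - i) = i)⟩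
      · rintro (⟨i, hi, rfl⟩ | ⟨i, hi, rfl⟩)
        · exact Or.inr ⟨n - i, by omega, rfl⟩
        · exact Or.inl rfl

include hpos in
theorem step_P {S : Finset B} (hS : IsP M S) {k l : B} (hk : k ∈ S) (h3 : 3 ≤ M k l)
    (h2 : ∀ b ∈ S, b ≠ k → M b l = 2) : IsP M (insert l S) ∨ IsT M (insert l S) ∨ IsS M (insert l S) := by
  obtain ⟨v, n, hv, hvS⟩ := hS
  obtain ⟨t, ht, rfl⟩ := (hvS k).1 hk
  have h2' : ∀ i, i ≤ n → i ≠ t → M (v i) l = 2 := fun i hi hit =>
    h2 _ ((hvS _).2 ⟨i, hi, rfl⟩) (hv.ne M (by omega) (by omega) hit)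
  by_cases htn : t = n
  · subst htn
    rcases step_P_end M hv hvS h3 (fun i hi => h2' i (by omega) (by omega)) with h | h
    · exact Or.inl h
    · exact Or.inr (Or.inl h)
  by_cases ht0 : t = 0
  · subst ht0
    rcases step_P_end M (v := fun i => v (n - i)) (n := n) (Pth_rev M hv) (S := S) (by
      intro b
      rw [hvS]
      constructor
      · rintro ⟨i, hi, rfl⟩
        exact ⟨n - i, by omega, congrArg v (by omega : n - (n - i) = i)⟩
      · rintro ⟨i, hi, rfl⟩
        exact ⟨n - i, by omega, rfl⟩) (l := l) (by simpa using h3) (fun i hi => h2' (n - i) (by omega) (by omega)) with h | h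
    · exact Or.inl h
    · exact Or.inr (Or.inl h)
  rcases Nat.lt_or_ge (M (v t) l) 4 with h4 | h4
  · right; right
    have h33 : M (v t) l = 3 := by omega
    refine ⟨fun i => v (t + i), n - t, fun i => v (t - i), t, fun i => if i = 0 then v t else l, 1,
      ⟨hv.shift M t _ (by omega), hv.back M t _ (by omega) (le_refl _), ?_, by omega, by omega, le_refl _,
        rfl, rfl, ?_, ?_, ?_⟩, ?_⟩
    · intro i j hij hj
      obtain rfl : i = 0 := by omega
      obtain rfl : j = 1 := by omega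
      simpa using h33
    · intro i j hi1 hi hj1 hj
      show M (v (t + i)) (v (t - j)) = 2
      rw [M.symmetric]
      exact hv.far M (by omega) (by omega)
    · intro i j hi1 hi hj1 hj
      show M (v (t + i)) (if j = 0 then v t else l) = 2
      rw [if_neg (by omega)]
      exact h2' _ (by omega) (by omega)
    · intro i j hi1 hi hj1 hj
      show M (v (t - i)) (if j = 0 then v t else l) = 2
      rw [if_neg (by omega)]
      exact h2' _ (by omega) (by omega)
    · intro b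
      rw [mem_insert, hvS]
      constructor
      · rintro (rfl | ⟨i, hi, rfl⟩)
        · exact Or.inr (Or.inr ⟨1, le_refl _, by simp⟩)
        · rcases Nat.lt_or_ge i t with hit | hit
          · exact Or.inr (Or.inl ⟨t - i, by omega, congrArg v (by omega : t - (t - i) = i)⟩)
          · exact Or.inl ⟨i - t, by omega, congrArg v (by omega : t + (i - t) = i)⟩
      · rintro (⟨i, hi, rfl⟩ | ⟨i, hi, rfl⟩ | ⟨i, hi, rfl⟩)
        · exact Or.inr ⟨t + i, by omega, rfl⟩
        · exact Or.inr ⟨t - i, by omega, rfl⟩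
        · by_cases hi0 : i = 0
          · exact Or.inr ⟨t, ht, by simp [hi0]⟩
          · exact Or.inl (by simp [hi0])
  · exfalso
    refine exclB M hpos (v := fun i => v (t + i)) (n := 0) (Pth_one M _) (a := v (t - 1)) (b := v (t + 1)) (c := l)
      (i := 0) (j := 0) (k := 0) ⟨by omega, fun j hj hj0 => by omega⟩ ⟨by omega, fun j hj hj0 => by omega⟩
      ⟨by omega, fun j hj hj0 => by omega⟩ ?_ ?_ ?_ ?_ ?_ ?_
    · show 3 ≤ M (v t) (v (t - 1))
      rw [M.symmetric]
      have := hv.next M (i := t - 1) (by omega)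
      rw [show t - 1 + 1 = t by omega] at this
      omega
    · show 3 ≤ M (v t) (v (t + 1))
      rw [hv.next M (by omega)]
    · exact h4
    · exact hv.far M (by omega) (by omega)
    · exact h2' _ (by omega) (by omega)
    · exact h2' _ (by omega) (by omega)

include hpos in
theorem step_T_aux {S : Finset B} {x : ℕ → B} {p : ℕ} {y : ℕ → B} {q : ℕ} (h : TP M x p y q)
    (hS : ∀ b, b ∈ S ↔ (∃ i, i ≤ p ∧ x i = b) ∨ (∃ i, i ≤ q ∧ y i = b)) {t : ℕ} (ht : t ≤ p) {l : B}
    (h3 : 3 ≤ M (x t) l) (h2 : ∀ b ∈ S, b ≠ x t → M b l = 2) : IsT M (insert l S) := by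
  have hx2 : ∀ i, i ≤ p → i ≠ t → M (x i) l = 2 := fun i hi hit =>
    h2 _ ((hS _).2 (Or.inl ⟨i, hi, rfl⟩)) (h.1.ne M (by omega) (by omega) hit)
  have hne : ∀ i j, i ≤ p → j ≤ q → y j ≠ x i := by
    intro i j hi hj
    apply Ne.symm
    apply ne_of_ge M
    by_cases hij : i ≠ 0 ∨ j ≠ 0
    · rw [h.2.2.2 i j hi hj hij]
    · push Not at hij
      rw [hij.1, hij.2]
      have := h.2.2.1
      omega
  have hy2 : ∀ j, j ≤ q → M (y j) l = 2 := fun j hj =>
    h2 _ ((hS _).2 (Or.inr ⟨j, hj, rfl⟩)) (hne t j ht hj)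
  by_cases htp : t = p
  · subst htp
    rcases Nat.lt_or_ge (M (x t) l) 4 with h4 | h4
    · refine ⟨ext x t l, t + 1, y, q, ⟨Pth_ext M h.1 (by omega) fun i hi => hx2 i (by omega) (by omega), h.2.1, ?_, ?_⟩, ?_⟩
      · rw [ext_le (by omega)]
        exact h.2.2.1
      · intro i j hi hj hij
        by_cases hit : i ≤ t
        · rw [ext_le hit]
          exact h.2.2.2 i j hit hj hij
        · rw [ext_gt (by omega), M.symmetric]
          exact hy2 j hj
      · intro b
        rw [mem_insert, hS, ext_mem, or_assoc]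
    · exfalso
      refine exclC M hpos h.1 (a := y 0) (b := l) (i := 0) (j := t) ⟨by omega, fun j hj hj0 => ?_⟩
        ⟨by omega, fun j hj hj0 => ?_⟩ ?_ h4 ?_
      · exact h.2.2.2 j 0 (by omega) (by omega) (Or.inl hj0)
      · exact hx2 j (by omega) hj0
      · exact h.2.2.1
      · exact hy2 0 (by omega)
  · exfalso
    refine exclB M hpos (h.1.mono M (by omega : t + 1 ≤ p + 1)) (a := x (t + 1)) (b := l) (c := y 0) (i := t) (j := t) (k := 0)
      ⟨by omega, fun j hj hj0 => ?_⟩ ⟨by omega, fun j hj hj0 => ?_⟩ ⟨by omega, fun j hj hj0 => ?_⟩ ?_ h3 h.2.2.1 ?_ ?_ ?_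
    · exact h.1.far M (by omega) (by omega)
    · exact hx2 j (by omega) hj0
    · exact h.2.2.2 j 0 (by omega) (by omega) (Or.inl hj0)
    · rw [h.1.next M (by omega)]
    · exact hx2 _ (by omega) (by omega)
    · exact h.2.2.2 _ 0 (by omega) (by omega) (Or.inl (by omega))
    · rw [M.symmetric]
      exact hy2 0 (by omega)

include hpos in
theorem step_T {S : Finset B} (hS : IsT M S) {k l : B} (hk : k ∈ S) (h3 : 3 ≤ M k l)
    (h2 : ∀ b ∈ S, b ≠ k → M b l = 2) : IsT M (insert l S) := by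
  obtain ⟨x, p, y, q, h, hxy⟩ := hS
  rcases (hxy k).1 hk with ⟨t, ht, rfl⟩ | ⟨t, ht, rfl⟩
  · exact step_T_aux M hpos h hxy ht h3 h2
  · exact step_T_aux M hpos (h.symm M) (fun b => by rw [hxy, or_comm]) ht h3 h2

include hpos in
theorem step_S_aux {S : Finset B} {x : ℕ → B} {p : ℕ} {y : ℕ → B} {q : ℕ} {z : ℕ → B} {r : ℕ} (h : ST M x p y q z r)
    (hS : ∀ b, b ∈ S ↔ (∃ i, i ≤ p ∧ x i = b) ∨ (∃ i, i ≤ q ∧ y i = b) ∨ (∃ i, i ≤ r ∧ z i = b)) {t : ℕ} (ht : t ≤ p)
    {l : B} (h3 : 3 ≤ M (x t) l) (h2 : ∀ b ∈ S, b ≠ x t → M b l = 2) : IsS M (insert l S) := by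
  have hx2 : ∀ i, i ≤ p → i ≠ t → M (x i) l = 2 := fun i hi hit =>
    h2 _ ((hS _).2 (Or.inl ⟨i, hi, rfl⟩)) (h.px.ne M (by omega) (by omega) hit)
  have hyx : ∀ i j, i ≤ p → 1 ≤ j → j ≤ q → y j ≠ x i := by
    intro i j hi hj1 hj
    by_cases hi0 : i = 0
    · subst hi0
      rw [h.xy0]
      exact h.py.ne M (by omega) (by omega) (by omega)
    · apply Ne.symm
      apply ne_of_two M
      exact h.xy i j (by omega) hi hj1 hj
  have hzx : ∀ i j, i ≤ p → 1 ≤ j → j ≤ r → z j ≠ x i := by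
    intro i j hi hj1 hj
    by_cases hi0 : i = 0
    · subst hi0
      rw [h.xz0]
      exact h.pz.ne M (by omega) (by omega) (by omega)
    · apply Ne.symm
      apply ne_of_two M
      exact h.xz i j (by omega) hi hj1 hj
  have hy2 : ∀ j, 1 ≤ j → j ≤ q → M (y j) l = 2 := fun j h1 hj =>
    h2 _ ((hS _).2 (Or.inr (Or.inl ⟨j, hj, rfl⟩))) (hyx t j ht h1 hj)
  have hz2 : ∀ j, 1 ≤ j → j ≤ r → M (z j) l = 2 := fun j h1 hj =>
    h2 _ ((hS _).2 (Or.inr (Or.inr ⟨j, hj, rfl⟩))) (hzx t j ht h1 hj)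
  have hp := h.hp
  have hq := h.hq
  have hr := h.hr
  have xy1 : ∀ j, j ≠ 0 → j ≤ p → M (x j) (y 1) = 2 := fun j hj0 hj => h.xy j 1 (by omega) hj le_rfl hq
  have xz1 : ∀ j, j ≠ 0 → j ≤ p → M (x j) (z 1) = 2 := fun j hj0 hj => h.xz j 1 (by omega) hj le_rfl hr
  have x0y1 : M (x 0) (y 1) = 3 := by rw [h.xy0]; exact h.py.next M (by omega)
  have x0z1 : M (x 0) (z 1) = 3 := by rw [h.xz0]; exact h.pz.next M (by omega)
  by_cases htp : t = p
  · subst htp
    rcases Nat.lt_or_ge (M (x t) l) 4 with h4 | h4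
    · refine ⟨ext x t l, t + 1, y, q, z, r,
        ⟨Pth_ext M h.px (by omega) fun i hi => hx2 i (by omega) (by omega), h.py, h.pz, by omega, hq, hr, ?_, ?_, ?_, ?_, h.yz⟩, ?_⟩
      · rw [ext_le (by omega)]
        exact h.xy0
      · rw [ext_le (by omega)]
        exact h.xz0
      · intro i j hi1 hi hj1 hj
        by_cases hit : i ≤ t
        · rw [ext_le hit]
          exact h.xy i j hi1 hit hj1 hj
        · rw [ext_gt (by omega), M.symmetric]
          exact hy2 j hj1 hj
      · intro i j hi1 hi hj1 hj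
        by_cases hit : i ≤ t
        · rw [ext_le hit]
          exact h.xz i j hi1 hit hj1 hj
        · rw [ext_gt (by omega), M.symmetric]
          exact hz2 j hj1 hj
      · intro b
        rw [mem_insert, hS, ext_mem, or_assoc]
    · exfalso
      refine exclB M hpos h.px (a := y 1) (b := z 1) (c := l) (i := 0) (j := 0) (k := t)
        ⟨by omega, fun j hj hj0 => xy1 j hj0 (by omega)⟩ ⟨by omega, fun j hj hj0 => xz1 j hj0 (by omega)⟩
        ⟨by omega, fun j hj hj0 => hx2 j (by omega) hj0⟩ (by omega) (by omega) h4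
        (h.yz 1 1 le_rfl hq le_rfl hr) (hy2 1 le_rfl hq) (hz2 1 le_rfl hr)
  · exfalso
    refine exclD M hpos (h.px.mono M (by omega : t + 1 ≤ p + 1)) (a := y 1) (b := z 1) (c := x (t + 1)) (d := l)
      (i := 0) (j := 0) (k := t) (l := t)
      ⟨by omega, fun j hj hj0 => xy1 j hj0 (by omega)⟩ ⟨by omega, fun j hj hj0 => xz1 j hj0 (by omega)⟩
      ⟨by omega, fun j hj hj0 => h.px.far M (by omega) (by omega)⟩ ⟨by omega, fun j hj hj0 => hx2 j (by omega) hj0⟩
      (by omega) (by omega) ?_ h3 (h.yz 1 1 le_rfl hq le_rfl hr) ?_ (hy2 1 le_rfl hq) ?_ (hz2 1 le_rfl hr)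
      (hx2 _ (by omega) (by omega))
    · rw [h.px.next M (by omega)]
    · rw [M.symmetric]
      exact xy1 _ (by omega) (by omega)
    · rw [M.symmetric]
      exact xz1 _ (by omega) (by omega)

include hpos in
theorem step_S {S : Finset B} (hS : IsS M S) {k l : B} (hk : k ∈ S) (h3 : 3 ≤ M k l)
    (h2 : ∀ b ∈ S, b ≠ k → M b l = 2) : IsS M (insert l S) := by
  obtain ⟨x, p, y, q, z, r, h, hxy⟩ := hS
  rcases (hxy k).1 hk with ⟨t, ht, rfl⟩ | ⟨t, ht, rfl⟩ | ⟨t, ht, rfl⟩
  · exact step_S_aux M hpos h hxy ht h3 h2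
  · exact step_S_aux M hpos (h.swap M) (fun b => by rw [hxy]; exact or_left_comm) ht h3 h2
  · exact step_S_aux M hpos (h.rot M) (fun b => by rw [hxy]; exact or_rotate.symm) ht h3 h2

include hpos in
theorem shapes (hM : ∀ a b : B, a ≠ b → 2 ≤ M a b) (n : ℕ) : ∀ S : Finset B, S.card = n + 1 → Conn M S →
    IsP M S ∨ IsT M S ∨ IsS M S := by
  induction n with
  | zero =>
    intro S hS _
    obtain ⟨a, rfl⟩ := Finset.card_eq_one.1 hS
    left
    refine ⟨fun _ => a, 0, Pth_one M _, ?_⟩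
    intro b
    rw [mem_singleton]
    constructor
    · rintro rfl
      exact ⟨0, le_refl _, rfl⟩
    · rintro ⟨i, _, rfl⟩
      rfl
  | succ n ih =>
    intro S hS hc
    obtain ⟨l, hl, k, hk, hkl, h3, h2⟩ := exists_leaf M hpos hM hc (by omega)
    have hS' : (S.erase l).card = n + 1 := by
      rw [card_erase_of_mem hl]
      omega
    have hk' : k ∈ S.erase l := mem_erase.2 ⟨hkl, hk⟩
    have h2' : ∀ b ∈ S.erase l, b ≠ k → M b l = 2 := fun b hb hbk =>
      h2 b (mem_erase.1 hb).2 (mem_erase.1 hb).1 hbk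
    have hi := Finset.insert_erase hl
    rw [← hi]
    rcases ih _ hS' (hc.erase M hl hk hkl h2) with h | h | h
    · exact step_P M hpos h hk' h3 h2'
    · exact Or.inr (Or.inl (step_T M hpos h hk' h3 h2'))
    · exact Or.inr (Or.inr (step_S M hpos h hk' h3 h2'))

/-! ### the standard matrices -/

/-- type `A_n`: path `0, …, n-1` -/
def mA (i j : ℕ) : ℕ := if i = j then 1 else if i + 1 = j ∨ j + 1 = i then 3 else 2

/-- type `C_n = B_n`: path `0, …, n-1`, the last bond has label `4` -/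
def mC (n i j : ℕ) : ℕ :=
  if i = j then 1 else if i + 1 = j then (if j + 1 = n then 4 else 3) else if j + 1 = i then
    (if i + 1 = n then 4 else 3) else 2

/-- type `D_n`: path `0, …, n-2`, and `n-1` is attached to `n-3` -/
def mD (n i j : ℕ) : ℕ :=
  if i = j then 1 else if (i + 1 = j ∧ j + 1 < n) ∨ (j + 1 = i ∧ i + 1 < n) ∨ (i + 3 = n ∧ j + 1 = n) ∨
    (j + 3 = n ∧ i + 1 = n) then 3 else 2

/-- type `E_n`: path `0, …, n-2`, and `n-1` is attached to `2` -/
def mE (n i j : ℕ) : ℕ :=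
  if i = j then 1 else if (i + 1 = j ∧ j + 1 < n) ∨ (j + 1 = i ∧ i + 1 < n) ∨ (i = 2 ∧ j + 1 = n) ∨
    (j = 2 ∧ i + 1 = n) then 3 else 2

/-- type `F_4`: path `0, 1, 2, 3`, the middle bond has label `4` -/
def mF (i j : ℕ) : ℕ :=
  if i = j then 1 else if (i = 1 ∧ j = 2) ∨ (i = 2 ∧ j = 1) then 4 else if i + 1 = j ∨ j + 1 = i then 3 else 2

/-- `v` is a labelling of the nodes with Coxeter matrix `m` -/
def Lab {n : ℕ} (v : Fin n ≃ B) (m : ℕ → ℕ → ℕ) : Prop := ∀ i j : Fin n, M (v i) (v j) = m i j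

theorem mk_lab (m : ℕ → ℕ → ℕ) (hm1 : ∀ i, m i i = 1) (hms : ∀ i j, m i j = m j i) {n : ℕ}
    (hne : ∀ i j, i < j → m i j ≠ 1)
    {v : ℕ → B} (hsurj : ∀ b, ∃ i, i < n ∧ v i = b) (hv : ∀ i j, i < j → j < n → M (v i) (v j) = m i j) :
    ∃ e : Fin n ≃ B, Lab M e m := by
  have hinj : Function.Injective (fun i : Fin n => v i) := by
    have key : ∀ i j, i < j → j < n → v i ≠ v j := by
      intro i j hij hj h
      have h1 := hv i j hij hj
      rw [h, M.diagonal] at h1
      exact hne i j hij h1.symm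
    intro i j h
    rcases Nat.lt_trichotomy i j with h1 | h1 | h1
    · exact absurd h (key _ _ h1 j.2)
    · exact Fin.ext h1
    · exact absurd h.symm (key _ _ h1 i.2)
  have hs : Function.Surjective (fun i : Fin n => v i) := by
    intro b
    obtain ⟨i, hi, rfl⟩ := hsurj b
    exact ⟨⟨i, hi⟩, rfl⟩
  refine ⟨Equiv.ofBijective _ ⟨hinj, hs⟩, ?_⟩
  intro i j
  show M (v i) (v j) = m i j
  rcases Nat.lt_trichotomy i j with h1 | h1 | h1
  · exact hv _ _ h1 j.2
  · rw [h1, M.diagonal, hm1]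
  · rw [M.symmetric, hms]
    exact hv _ _ h1 i.2

theorem mA_lab {v : ℕ → B} {n : ℕ} (h : Pth M v n) (hs : ∀ b, ∃ i, i < n ∧ v i = b) : ∃ e : Fin n ≃ B, Lab M e mA := by
  apply mk_lab M mA (fun i => by simp [mA]) (fun i j => by unfold mA; split_ifs <;> omega)
    (fun i j hij => by unfold mA; split_ifs <;> omega) hs
  intro i j hij hj
  rw [h i j hij hj]
  unfold mA
  split_ifs <;> omega

theorem mC_lab {x : ℕ → B} {n : ℕ} {y : B} (h : Pth M x (n + 1)) (h4 : M (x 0) y = 4)
    (h2 : ∀ i, 1 ≤ i → i ≤ n → M (x i) y = 2) (hs : ∀ b, b = y ∨ ∃ i, i ≤ n ∧ x i = b) :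
    ∃ e : Fin (n + 2) ≃ B, Lab M e (mC (n + 2)) := by
  refine mk_lab M (mC (n + 2)) (fun i => by simp [mC]) (fun i j => by unfold mC; split_ifs <;> omega)
    (fun i j hij => by unfold mC; split_ifs <;> omega) (v := fun i => if i ≤ n then x (n - i) else y) ?_ ?_
  · intro b
    rcases hs b with rfl | ⟨i, hi, rfl⟩
    · exact ⟨n + 1, by omega, by simp⟩
    · refine ⟨n - i, by omega, ?_⟩
      rw [if_pos (by omega), show n - (n - i) = i by omega]
  · intro i j hij hj
    rw [if_pos (by omega : i ≤ n)]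
    by_cases hjn : j ≤ n
    · rw [if_pos hjn, M.symmetric, h (n - j) (n - i) (by omega) (by omega)]
      unfold mC
      split_ifs <;> omega
    · rw [if_neg hjn]
      by_cases hi : i = n
      · subst hi
        rw [Nat.sub_self, h4]
        unfold mC
        split_ifs <;> omega
      · rw [h2 _ (by omega) (by omega)]
        unfold mC
        split_ifs <;> omega

theorem mD_lab {x : ℕ → B} {n : ℕ} {y z : B} (h : Pth M x (n + 1)) (hn : 1 ≤ n) (hy3 : M (x 0) y = 3) (hz3 : M (x 0) z = 3)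
    (hy2 : ∀ i, 1 ≤ i → i ≤ n → M (x i) y = 2) (hz2 : ∀ i, 1 ≤ i → i ≤ n → M (x i) z = 2) (hyz : M y z = 2)
    (hs : ∀ b, b = y ∨ b = z ∨ ∃ i, i ≤ n ∧ x i = b) :
    ∃ e : Fin (n + 3) ≃ B, Lab M e (mD (n + 3)) := by
  refine mk_lab M (mD (n + 3)) (fun i => by simp [mD]) (fun i j => by unfold mD; split_ifs <;> omega)
    (fun i j hij => by unfold mD; split_ifs <;> omega)
    (v := fun i => if i ≤ n then x (n - i) else if i = n + 1 then y else z) ?_ ?_
  · intro b
    rcases hs b with rfl | rfl | ⟨i, hi, rfl⟩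
    · exact ⟨n + 1, by omega, by simp⟩
    · exact ⟨n + 2, by omega, by simp⟩
    · refine ⟨n - i, by omega, ?_⟩
      rw [if_pos (by omega), show n - (n - i) = i by omega]
  · intro i j hij hj
    by_cases hjn : j ≤ n
    · rw [if_pos (by omega : i ≤ n), if_pos hjn, M.symmetric, h (n - j) (n - i) (by omega) (by omega)]
      unfold mD
      split_ifs <;> omega
    rw [if_neg hjn]
    by_cases hin : i ≤ n
    · rw [if_pos hin]
      by_cases hi : i = n
      · subst hi
        rw [Nat.sub_self]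
        by_cases hj1 : j = i + 1
        · rw [if_pos hj1, hy3]
          unfold mD
          split_ifs <;> omega
        · rw [if_neg hj1, hz3]
          unfold mD
          split_ifs <;> omega
      · by_cases hj1 : j = n + 1
        · rw [if_pos hj1, hy2 _ (by omega) (by omega)]
          unfold mD
          split_ifs <;> omega
        · rw [if_neg hj1, hz2 _ (by omega) (by omega)]
          unfold mD
          split_ifs <;> omega
    · rw [if_neg hin, if_pos (by omega), if_neg (by omega), hyz]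
      unfold mD
      split_ifs <;> omega

theorem mE_lab {x y z : ℕ → B} {n : ℕ} (h : ST M x 1 y 2 z n)
    (hs : ∀ b, (∃ i, i ≤ 1 ∧ x i = b) ∨ (∃ i, i ≤ 2 ∧ y i = b) ∨ (∃ i, i ≤ n ∧ z i = b)) :
    ∃ e : Fin (n + 4) ≃ B, Lab M e (mE (n + 4)) := by
  have hn := h.hr
  have z0 : y 0 = z 0 := h.xy0.symm.trans h.xz0
  refine mk_lab M (mE (n + 4)) (fun i => by simp [mE]) (fun i j => by unfold mE; split_ifs <;> omega)
    (fun i j hij => by unfold mE; split_ifs <;> omega)
    (v := fun i => if i ≤ 2 then y (2 - i) else if i ≤ n + 2 then z (i - 2) else x 1) ?_ ?_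
  · intro b
    rcases hs b with ⟨i, hi, rfl⟩ | ⟨i, hi, rfl⟩ | ⟨i, hi, rfl⟩
    · by_cases hi0 : i = 0
      · subst hi0
        refine ⟨2, by omega, ?_⟩
        simp [h.xy0]
      · obtain rfl : i = 1 := by omega
        refine ⟨n + 3, by omega, ?_⟩
        rw [if_neg (by omega), if_neg (by omega)]
    · refine ⟨2 - i, by omega, ?_⟩
      rw [if_pos (by omega), show 2 - (2 - i) = i by omega]
    · by_cases hi0 : i = 0
      · subst hi0
        refine ⟨2, by omega, ?_⟩
        simp [z0]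
      · refine ⟨i + 2, by omega, ?_⟩
        rw [if_neg (by omega), if_pos (by omega), show i + 2 - 2 = i by omega]
  · intro i j hij hj
    by_cases hj2 : j ≤ 2
    · rw [if_pos (by omega : i ≤ 2), if_pos hj2, M.symmetric, h.py (2 - j) (2 - i) (by omega) (by omega)]
      unfold mE
      split_ifs <;> omega
    rw [if_neg hj2]
    by_cases hjn : j ≤ n + 2
    · rw [if_pos hjn]
      by_cases hi2 : i ≤ 2
      · rw [if_pos hi2]
        by_cases hi : i = 2
        · subst hi
          rw [Nat.sub_self, z0, h.pz 0 (j - 2) (by omega) (by omega)]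
          unfold mE
          split_ifs <;> omega
        · rw [h.yz (2 - i) (j - 2) (by omega) (by omega) (by omega) (by omega)]
          unfold mE
          split_ifs <;> omega
      · rw [if_neg hi2, if_pos (by omega), h.pz (i - 2) (j - 2) (by omega) (by omega)]
        unfold mE
        split_ifs <;> omega
    · rw [if_neg hjn]
      by_cases hi2 : i ≤ 2
      · rw [if_pos hi2]
        by_cases hi : i = 2
        · subst hi
          rw [Nat.sub_self, ← h.xy0, h.px 0 1 (by omega) (by omega)]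
          unfold mE
          split_ifs <;> omega
        · rw [M.symmetric, h.xy 1 (2 - i) (by omega) (by omega) (by omega) (by omega)]
          unfold mE
          split_ifs <;> omega
      · rw [if_neg hi2, if_pos (by omega), M.symmetric, h.xz 1 (i - 2) (by omega) (by omega) (by omega) (by omega)]
        unfold mE
        split_ifs <;> omega

theorem mF_lab {x y : ℕ → B} (h : TP M x 1 y 1) (h4 : M (x 0) (y 0) = 4)
    (hs : ∀ b, (∃ i, i ≤ 1 ∧ x i = b) ∨ (∃ i, i ≤ 1 ∧ y i = b)) : ∃ e : Fin 4 ≃ B, Lab M e mF := by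
  refine mk_lab M mF (fun i => by simp [mF]) (fun i j => by unfold mF; split_ifs <;> omega)
    (fun i j hij => by unfold mF; split_ifs <;> omega)
    (v := fun i => if i ≤ 1 then x (1 - i) else y (i - 2)) ?_ ?_
  · intro b
    rcases hs b with ⟨i, hi, rfl⟩ | ⟨i, hi, rfl⟩
    · refine ⟨1 - i, by omega, ?_⟩
      rw [if_pos (by omega), show 1 - (1 - i) = i by omega]
    · refine ⟨i + 2, by omega, ?_⟩
      rw [if_neg (by omega), show i + 2 - 2 = i by omega]
  · intro i j hij hj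
    by_cases hj1 : j ≤ 1
    · rw [if_pos (by omega), if_pos hj1, M.symmetric, h.1 (1 - j) (1 - i) (by omega) (by omega)]
      unfold mF
      split_ifs <;> omega
    rw [if_neg hj1]
    by_cases hi1 : i ≤ 1
    · rw [if_pos hi1]
      by_cases hij2 : i = 1 ∧ j = 2
      · rw [hij2.1, hij2.2]
        exact h4
      · rw [h.2.2.2 (1 - i) (j - 2) (by omega) (by omega) (by omega)]
        unfold mF
        split_ifs <;> omega
    · rw [if_neg hi1, h.2.1 (i - 2) (j - 2) (by omega) (by omega)]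
      unfold mF
      split_ifs <;> omega

/-- the possible outcomes -/
def Outcome : Prop :=
  (∃ (n : ℕ) (v : Fin n ≃ B), 3 ≤ n ∧ Lab M v mA) ∨
  (∃ (n : ℕ) (v : Fin n ≃ B), 3 ≤ n ∧ Lab M v (mC n)) ∨
  (∃ (n : ℕ) (v : Fin n ≃ B), 4 ≤ n ∧ Lab M v (mD n)) ∨
  (∃ v : Fin 6 ≃ B, Lab M v (mE 6)) ∨ (∃ v : Fin 7 ≃ B, Lab M v (mE 7)) ∨ (∃ v : Fin 8 ≃ B, Lab M v (mE 8)) ∨
  (∃ v : Fin 4 ≃ B, Lab M v mF)

include hpos in
theorem arms_lt {x y z : ℕ → B} {p q r : ℕ} (h : ST M x p y q z r) (a b c : ℕ) (ha : 1 ≤ a) (hb : 1 ≤ b) (hc : 1 ≤ c)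
    (hap : a ≤ p) (hbq : b ≤ q) (hcr : c ≤ r) : ((a : ℝ) / (a + 1) + b / (b + 1) + c / (c + 1)) < 2 := by
  by_contra hcon
  push Not at hcon
  exact excl_arms M hpos (h.px.mono M (by omega : a + 1 ≤ p + 1)) (h.py.mono M (by omega : b + 1 ≤ q + 1))
    (h.pz.mono M (by omega : c + 1 ≤ r + 1)) ha hb hc h.xy0 h.xz0
    (fun i j h1 h2 h3 h4 => h.xy i j h1 (by omega) h3 (by omega))
    (fun i j h1 h2 h3 h4 => h.xz i j h1 (by omega) h3 (by omega))
    (fun i j h1 h2 h3 h4 => h.yz i j h1 (by omega) h3 (by omega)) hcon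

include hpos in
theorem star_aux {x y z : ℕ → B} {p q r : ℕ} (h : ST M x p y q z r) (hpq : p ≤ q) (hqr : q ≤ r)
    (hs : ∀ b, (∃ i, i ≤ p ∧ x i = b) ∨ (∃ i, i ≤ q ∧ y i = b) ∨ (∃ i, i ≤ r ∧ z i = b)) : Outcome M := by
  have hp := h.hp
  have hq := h.hq
  have hr := h.hr
  have hp1 : p = 1 := by
    by_contra hcon
    have := arms_lt M hpos h 2 2 2 (by omega) (by omega) (by omega) (by omega) (by omega) (by omega)
    norm_num at this
  subst hp1
  have hq2 : q ≤ 2 := by
    by_contra hcon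
    have := arms_lt M hpos h 1 3 3 (by omega) (by omega) (by omega) (by omega) (by omega) (by omega)
    norm_num at this
  rcases Nat.lt_or_ge q 2 with hq1 | hq1
  · obtain rfl : q = 1 := by omega
    right; right; left
    have h0y := h.py.next M (i := 0) (by omega)
    have h0x := h.px.next M (i := 0) (by omega)
    rw [Nat.zero_add] at h0x h0y
    rw [← h.xy0, h.xz0] at h0y
    rw [h.xz0] at h0x
    obtain ⟨e, he⟩ := mD_lab M h.pz hr h0x h0y (fun i h1 h2 => by
        rw [M.symmetric]; exact h.xz 1 i le_rfl le_rfl h1 h2) (fun i h1 h2 => by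
        rw [M.symmetric]; exact h.yz 1 i le_rfl le_rfl h1 h2) (h.xy 1 1 le_rfl le_rfl le_rfl le_rfl) (by
        intro b
        rcases hs b with ⟨i, hi, rfl⟩ | ⟨i, hi, rfl⟩ | ⟨i, hi, rfl⟩
        · by_cases hi0 : i = 0
          · subst hi0
            exact Or.inr (Or.inr ⟨0, by omega, h.xz0.symm⟩)
          · obtain rfl : i = 1 := by omega
            exact Or.inl rfl
        · by_cases hi0 : i = 0
          · subst hi0
            exact Or.inr (Or.inr ⟨0, by omega, h.xz0.symm.trans h.xy0⟩)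
          · obtain rfl : i = 1 := by omega
            exact Or.inr (Or.inl rfl)
        · exact Or.inr (Or.inr ⟨i, hi, rfl⟩))
    exact ⟨r + 3, e, by omega, he⟩
  · obtain rfl : q = 2 := by omega
    have hr4 : r ≤ 4 := by
      by_contra hcon
      have := arms_lt M hpos h 1 2 5 (by omega) (by omega) (by omega) (by omega) (by omega) (by omega)
      norm_num at this
    have hlab := mE_lab M h hs
    interval_cases r
    · exact Or.inr (Or.inr (Or.inr (Or.inl hlab)))
    · exact Or.inr (Or.inr (Or.inr (Or.inr (Or.inl hlab))))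
    · exact Or.inr (Or.inr (Or.inr (Or.inr (Or.inr (Or.inl hlab)))))

include hpos in
theorem star_case {x y z : ℕ → B} {p q r : ℕ} (h : ST M x p y q z r)
    (hs : ∀ b, (∃ i, i ≤ p ∧ x i = b) ∨ (∃ i, i ≤ q ∧ y i = b) ∨ (∃ i, i ≤ r ∧ z i = b)) : Outcome M := by
  -- the six orders
  have main : ∀ {x y z : ℕ → B} {p q r : ℕ}, ST M x p y q z r → p ≤ r → q ≤ r →
      (∀ b, (∃ i, i ≤ p ∧ x i = b) ∨ (∃ i, i ≤ q ∧ y i = b) ∨ (∃ i, i ≤ r ∧ z i = b)) → Outcome M := by
    intro x y z p q r h h1 h2 hs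
    rcases Nat.le_total p q with h3 | h3
    · exact star_aux M hpos h h3 h2 hs
    · exact star_aux M hpos (h.swap M) h3 h1 (fun b => or_left_comm.1 (hs b))
  rcases Nat.le_total p r with h1 | h1
  · rcases Nat.le_total q r with h2 | h2
    · exact main h h1 h2 hs
    · exact main (h.rot M) h2 (by omega) (fun b => or_rotate.2 (hs b))
  · rcases Nat.le_total q p with h2 | h2
    · exact main ((h.rot M).rot M) h2 h1 (fun b => or_rotate.2 (or_rotate.2 (hs b)))
    · exact main (h.rot M) (by omega) (by omega) (fun b => or_rotate.2 (hs b))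

include hpos in
theorem bond_case {x y : ℕ → B} {p q : ℕ} (h : TP M x p y q) (h5 : ∀ a b : B, M a b ≠ 5) (hpq : q ≤ p) (h3 : 3 ≤ p + q + 2)
    (hs : ∀ b, (∃ i, i ≤ p ∧ x i = b) ∨ (∃ i, i ≤ q ∧ y i = b)) : Outcome M := by
  have hp : 1 ≤ p := by omega
  have h4 : M (x 0) (y 0) = 4 := by
    by_contra hcon
    have h6 := h.2.2.1
    have h7 := h5 (x 0) (y 0)
    refine exclG M hpos (x := x 0) (a := x 1) (b := y 0) ?_ (by omega) (h.2.2.2 1 0 hp (by omega) (Or.inl one_ne_zero))
    rw [h.1.next M (i := 0) (by omega)]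
  rcases Nat.eq_zero_or_pos q with rfl | hq
  · right; left
    obtain ⟨e, he⟩ := mC_lab M h.1 h4 (fun i h1 h2 => h.2.2.2 i 0 h2 le_rfl (Or.inl (by omega))) (by
      intro b
      rcases hs b with ⟨i, hi, rfl⟩ | ⟨i, hi, rfl⟩
      · exact Or.inr ⟨i, hi, rfl⟩
      · obtain rfl : i = 0 := by omega
        exact Or.inl rfl)
    exact ⟨p + 2, e, by omega, he⟩
  · have hp1 : p = 1 := by
      by_contra hcon
      exact exclF M hpos (h.1.mono M (by omega : 3 ≤ p + 1)) (h.2.1.mono M (by omega : 2 ≤ q + 1)) h.2.2.1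
        (fun i j hi hj hij => h.2.2.2 i j (by omega) (by omega) hij)
    subst hp1
    obtain rfl : q = 1 := by omega
    right; right; right; right; right; right
    exact mF_lab M h h4 hs

include hpos in
/-- **Classification of connected diagrams with positive definite form and labels `≠ 5`, rank at least 3.** -/
theorem classify (hM : ∀ a b : B, a ≠ b → 2 ≤ M a b) (h5 : ∀ a b : B, M a b ≠ 5)
    (hconn : ∀ J : Set B, J.Nonempty → Jᶜ.Nonempty → ∃ a ∈ J, ∃ b ∈ Jᶜ, M a b ≠ 2)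
    (h3 : 3 ≤ Fintype.card B) : Outcome M := by
  have hc : Conn M (Finset.univ : Finset B) := by
    intro J _ hJ hJc
    obtain ⟨a, ha, b, hb, hab⟩ := hconn (J : Set B) (by simpa using hJ) (by
      obtain ⟨b, hb⟩ := hJc
      exact ⟨b, by simpa using hb⟩)
    exact ⟨a, by simpa using ha, b, by simpa using hb, hab⟩
  have hcard : (Finset.univ : Finset B).card = Fintype.card B := rfl
  rcases shapes M hpos hM (Fintype.card B - 1) Finset.univ (by omega) hc with h | h | h
  · obtain ⟨v, n, hv, hS⟩ := h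
    have hs : ∀ b, ∃ i, i < n + 1 ∧ v i = b := fun b => by
      obtain ⟨i, hi, hb⟩ := (hS b).1 (Finset.mem_univ b)
      exact ⟨i, by omega, hb⟩
    obtain ⟨e, he⟩ := mA_lab M hv hs
    have := Fintype.card_congr e
    rw [Fintype.card_fin] at this
    exact Or.inl ⟨n + 1, e, by omega, he⟩
  · obtain ⟨x, p, y, q, h, hS⟩ := h
    have hs : ∀ b, (∃ i, i ≤ p ∧ x i = b) ∨ (∃ i, i ≤ q ∧ y i = b) := fun b => (hS b).1 (Finset.mem_univ b)
    have hpq : 3 ≤ p + q + 2 := by
      by_contra hcon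
      obtain rfl : p = 0 := by omega
      obtain rfl : q = 0 := by omega
      have hsub : (Finset.univ : Finset B) ⊆ {x 0, y 0} := by
        intro b _
        rcases hs b with ⟨i, hi, rfl⟩ | ⟨i, hi, rfl⟩
        · obtain rfl : i = 0 := by omega
          simp
        · obtain rfl : i = 0 := by omega
          simp
      have h1 := Finset.card_le_card hsub
      have h2 := Finset.card_le_two (a := x 0) (b := y 0)
      omega
    rcases Nat.le_total q p with h1 | h1
    · exact bond_case M hpos h h5 h1 hpq hs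
    · exact bond_case M hpos (h.symm M) h5 h1 (by omega) (fun b => (hs b).symm)
  · obtain ⟨x, p, y, q, z, r, h, hS⟩ := h
    exact star_case M hpos h (fun b => (hS b).1 (Finset.mem_univ b))

/-- **Classification of irreducible finite Coxeter systems of rank at least 3 with labels `≠ 5`.** -/
theorem classify_coxeter {M : CoxeterMatrix B} {W : Type*} [Group W] [Finite W] (cs : CoxeterSystem M W)
    (h5 : ∀ a b : B, M a b ≠ 5)
    (hconn : ∀ J : Set B, J.Nonempty → Jᶜ.Nonempty → ∃ a ∈ J, ∃ b ∈ Jᶜ, M a b ≠ 2)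
    (h3 : 3 ≤ Fintype.card B) : Outcome M := by
  refine classify M (fun x hx => q_pos cs hconn x hx) (fun a b hab => ?_) h5 hconn h3
  have h1 := M.off_diagonal a b hab
  have h0 := ne_zero_of_finite cs a b
  omega

end Cfsg.Agent.LieRecognition.CoxClass
end
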