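import Mathlib
set_option linter.all false

/-!
Abstract counting for groups of Ree type: self-centralising cyclic tori of order dividing `q² - q + 1`.
-/

set_option autoImplicit false

namespace Cfsg.Agent.LieRecognition.ReeCount

open Subgroup

variable {G : Type*} [Group G]

/-- The non-identity elements conjugate into `A`. -/
def conjSet (A : Subgroup G) : Set G := {y | y ≠ 1 ∧ ∃ g : G, g⁻¹ * y * g ∈ A}

theorem mem_conjSet {A : Subgroup G} {y : G} : y ∈ conjSet A ↔ y ≠ 1 ∧ ∃ g : G, g⁻¹ * y * g ∈ A :=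
  Iff.rfl

/-- If `A` is the centraliser of each of its non-identity elements then
`|conjSet A| * |N(A)| = |G| * (|A| - 1)`. -/
theorem card_conjSet_mul [Finite G] (A : Subgroup G) (hA : ∀ x ∈ A, x ≠ 1 → centralizer {x} = A) :
    Nat.card (conjSet A) * Nat.card (normalizer (A : Set G)) = Nat.card G * (Nat.card A - 1) := by
  classical
  -- the key fact: if `x, y ∈ A`, `x ≠ 1` and `y = n x n⁻¹`, then `n` normalises `A`
  have key : ∀ x ∈ A, x ≠ 1 → ∀ n : G, n⁻¹ * x * n ∈ A → n ∈ normalizer (A : Set G) := by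
    intro x hx hx1 n hn
    have h1 : centralizer {x} = A := hA x hx hx1
    have h2 : centralizer {n⁻¹ * x * n} = A := by
      apply hA _ hn
      intro h
      apply hx1
      have : x = n * (n⁻¹ * x * n) * n⁻¹ := by group
      rw [this, h]; group
    rw [mem_normalizer_iff]
    intro h
    constructor
    · intro hh
      have hh' : h ∈ centralizer {n⁻¹ * x * n} := by rw [h2]; exact hh
      have : n * h * n⁻¹ ∈ centralizer {x} := by
        rw [mem_centralizer_singleton_iff] at hh' ⊢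
        calc n * h * n⁻¹ * x = n * (h * (n⁻¹ * x * n)) * n⁻¹ := by group
          _ = n * ((n⁻¹ * x * n) * h) * n⁻¹ := by rw [hh']
          _ = x * (n * h * n⁻¹) := by group
      rw [h1] at this
      exact this
    · intro hh
      have hh' : n * h * n⁻¹ ∈ centralizer {x} := by rw [h1]; exact hh
      have : h ∈ centralizer {n⁻¹ * x * n} := by
        rw [mem_centralizer_singleton_iff] at hh' ⊢
        calc h * (n⁻¹ * x * n) = n⁻¹ * ((n * h * n⁻¹) * x) * n := by group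
          _ = n⁻¹ * (x * (n * h * n⁻¹)) * n := by rw [hh']
          _ = n⁻¹ * x * n * h := by group
      rw [h2] at this
      exact this
  have hch : ∀ y : conjSet A, ∃ g : G, g⁻¹ * (y : G) * g ∈ A := fun y => y.2.2
  choose g₀ hg₀ using hch
  let e : (conjSet A) × (normalizer (A : Set G)) ≃ G × {x : A // x ≠ 1} :=
  { toFun := fun p => ⟨g₀ p.1 * (p.2 : G),
      ⟨⟨(g₀ p.1 * (p.2 : G))⁻¹ * (p.1 : G) * (g₀ p.1 * (p.2 : G)), by
        have h1 := hg₀ p.1
        have h2 := p.2.2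
        rw [mem_normalizer_iff] at h2
        rw [h2]
        have : (p.2 : G) * ((g₀ p.1 * (p.2 : G))⁻¹ * (p.1 : G) * (g₀ p.1 * (p.2 : G))) * (p.2 : G)⁻¹ =
          (g₀ p.1)⁻¹ * (p.1 : G) * g₀ p.1 := by group
        rw [this]
        exact h1⟩, by
        intro h
        have h' : (g₀ p.1 * (p.2 : G))⁻¹ * (p.1 : G) * (g₀ p.1 * (p.2 : G)) = 1 := congrArg Subtype.val h
        apply p.1.2.1
        have : (p.1 : G) = (g₀ p.1 * (p.2 : G)) * ((g₀ p.1 * (p.2 : G))⁻¹ * (p.1 : G) * (g₀ p.1 * (p.2 : G))) * (g₀ p.1 * (p.2 : G))⁻¹ := by group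
        rw [this, h']; group⟩⟩
    invFun := fun p =>
      let y : conjSet A := ⟨p.1 * (p.2.1 : G) * p.1⁻¹, by
        refine ⟨?_, p.1, ?_⟩
        · intro h
          apply p.2.2
          apply Subtype.ext
          have : (p.2.1 : G) = p.1⁻¹ * (p.1 * (p.2.1 : G) * p.1⁻¹) * p.1 := by group
          rw [this, h]; simp
        · have : p.1⁻¹ * (p.1 * (p.2.1 : G) * p.1⁻¹) * p.1 = (p.2.1 : G) := by group
          rw [this]; exact p.2.1.2⟩
      ⟨y, ⟨(g₀ y)⁻¹ * p.1, by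
        have h1 := hg₀ y
        apply key _ h1
        · intro h
          apply y.2.1
          have : (y : G) = g₀ y * ((g₀ y)⁻¹ * (y : G) * g₀ y) * (g₀ y)⁻¹ := by group
          rw [this, h]; group
        · have : ((g₀ y)⁻¹ * p.1)⁻¹ * ((g₀ y)⁻¹ * (y : G) * g₀ y) * ((g₀ y)⁻¹ * p.1) = p.1⁻¹ * (y : G) * p.1 := by group
          rw [this]
          have : p.1⁻¹ * (y : G) * p.1 = (p.2.1 : G) := by
            change p.1⁻¹ * (p.1 * (p.2.1 : G) * p.1⁻¹) * p.1 = _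
            group
          rw [this]; exact p.2.1.2⟩⟩
    left_inv := by
      rintro ⟨y, n⟩
      have hy : (⟨(g₀ y * (n : G)) * ((g₀ y * (n : G))⁻¹ * (y : G) * (g₀ y * (n : G))) * (g₀ y * (n : G))⁻¹, by
          have : (g₀ y * (n : G)) * ((g₀ y * (n : G))⁻¹ * (y : G) * (g₀ y * (n : G))) * (g₀ y * (n : G))⁻¹ = y := by group
          rw [this]; exact y.2⟩ : conjSet A) = y := by
        apply Subtype.ext
        change (g₀ y * (n : G)) * ((g₀ y * (n : G))⁻¹ * (y : G) * (g₀ y * (n : G))) * (g₀ y * (n : G))⁻¹ = y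
        group
      refine Prod.ext ?_ ?_
      · exact hy
      · apply Subtype.ext
        change (g₀ _)⁻¹ * (g₀ y * (n : G)) = n
        rw [hy]; group
    right_inv := by
      rintro ⟨g, x⟩
      refine Prod.ext ?_ ?_
      · change g₀ _ * ((g₀ _)⁻¹ * g) = g
        group
      · apply Subtype.ext
        apply Subtype.ext
        change (g₀ _ * ((g₀ _)⁻¹ * g))⁻¹ * (g * (x.1 : G) * g⁻¹) * (g₀ _ * ((g₀ _)⁻¹ * g)) = x.1
        group }
  have h1 := Nat.card_congr e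
  rw [Nat.card_prod, Nat.card_prod] at h1
  rw [h1]
  congr 1
  have : Nat.card {x : A // x ≠ 1} = Nat.card ({1}ᶜ : Set A) := rfl
  rw [this, Nat.card_coe_set_eq, Set.ncard_compl, Set.ncard_singleton]


theorem centralizer_conj (g x : G) (y : G) :
    y ∈ centralizer {g⁻¹ * x * g} ↔ g * y * g⁻¹ ∈ centralizer {x} := by
  rw [mem_centralizer_singleton_iff, mem_centralizer_singleton_iff]
  constructor
  · intro h
    calc g * y * g⁻¹ * x = g * (y * (g⁻¹ * x * g)) * g⁻¹ := by group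
      _ = g * ((g⁻¹ * x * g) * y) * g⁻¹ := by rw [h]
      _ = x * (g * y * g⁻¹) := by group
  · intro h
    calc y * (g⁻¹ * x * g) = g⁻¹ * ((g * y * g⁻¹) * x) * g := by group
      _ = g⁻¹ * (x * (g * y * g⁻¹)) * g := by rw [h]
      _ = g⁻¹ * x * g * y := by group

section Tori

variable [Finite G] {Q : ℕ}

omit [Finite G] in
/-- trivial intersection property -/
theorem centralizer_eq_of_mem
    (hcyc : ∀ x : G, x ≠ 1 → orderOf x ∣ Q → IsCyclic (centralizer {x}))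
    (hdvd : ∀ x : G, x ≠ 1 → orderOf x ∣ Q → Nat.card (centralizer {x}) ∣ Q)
    {x y : G} (hx1 : x ≠ 1) (hxQ : orderOf x ∣ Q) (hy : y ∈ centralizer {x}) (hy1 : y ≠ 1) :
    orderOf y ∣ Q ∧ centralizer {y} = centralizer {x} := by
  have hyQ : orderOf y ∣ Q := by
    refine Dvd.dvd.trans ?_ (hdvd x hx1 hxQ)
    have := orderOf_dvd_natCard (⟨y, hy⟩ : centralizer {x})
    rwa [← Subgroup.orderOf_coe] at this
  refine ⟨hyQ, ?_⟩
  have comm : ∀ z : G, z ≠ 1 → orderOf z ∣ Q → ∀ u ∈ centralizer {z}, ∀ v ∈ centralizer {z}, u * v = v * u := by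
    intro z hz hzQ u hu v hv
    have := hcyc z hz hzQ
    obtain ⟨c, hc⟩ := IsCyclic.exists_generator (α := centralizer {z})
    obtain ⟨i, hi⟩ := mem_zpowers_iff.mp (hc ⟨u, hu⟩)
    obtain ⟨j, hj⟩ := mem_zpowers_iff.mp (hc ⟨v, hv⟩)
    have h : (⟨u, hu⟩ : centralizer {z}) * ⟨v, hv⟩ = ⟨v, hv⟩ * ⟨u, hu⟩ := by
      rw [← hi, ← hj, ← zpow_add, ← zpow_add, add_comm]
    exact congrArg Subtype.val h
  apply le_antisymm
  · intro z hz
    rw [mem_centralizer_singleton_iff]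
    apply comm y hy1 hyQ z hz x
    rw [mem_centralizer_singleton_iff] at hy ⊢
    exact hy.symm
  · intro z hz
    rw [mem_centralizer_singleton_iff]
    exact comm x hx1 hxQ z hz y hy

/-- For a prime `p ∣ Q` there is a torus containing a Sylow `p`-subgroup. -/
theorem exists_torus {p : ℕ} (hp : p.Prime) (hpQ : p ∣ Q) (hQG : Q ∣ Nat.card G)
    (hcyc : ∀ x : G, x ≠ 1 → orderOf x ∣ Q → IsCyclic (centralizer {x}))
    (hdvd : ∀ x : G, x ≠ 1 → orderOf x ∣ Q → Nat.card (centralizer {x}) ∣ Q) :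
    ∃ z : G, z ≠ 1 ∧ orderOf z ∣ Q ∧ ¬ p ∣ Q / Nat.card (centralizer {z}) ∧
      ∀ x : G, x ≠ 1 → orderOf x ∣ Q → p ∣ orderOf x → x ∈ conjSet (centralizer {z}) := by
  classical
  have : Fact p.Prime := ⟨hp⟩
  obtain ⟨P⟩ : Nonempty (Sylow p G) := inferInstance
  have hpG : p ∣ Nat.card G := hpQ.trans hQG
  have hPne : Nontrivial (P : Subgroup G) := by
    rw [Subgroup.nontrivial_iff_ne_bot]
    exact P.ne_bot_of_dvd_card hpG
  have hPp : IsPGroup p (P : Subgroup G) := P.isPGroup'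
  have := hPp.center_nontrivial
  obtain ⟨k, hk⟩ : ∃ k, Nat.card (center (P : Subgroup G)) = p ^ k :=
    (hPp.to_subgroup _).exists_card_eq
  have hpc : p ∣ Nat.card (center (P : Subgroup G)) := by
    rw [hk]
    apply dvd_pow_self
    rintro rfl
    rw [pow_zero] at hk
    have := Finite.one_lt_card (α := center (P : Subgroup G))
    omega
  obtain ⟨c, hc⟩ := exists_prime_orderOf_dvd_card' p hpc
  set z : G := ((c : (P : Subgroup G)) : G) with hz
  have hzo : orderOf z = p := by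
    rw [hz, Subgroup.orderOf_coe, Subgroup.orderOf_coe, hc]
  have hz1 : z ≠ 1 := by
    intro h
    rw [h, orderOf_one] at hzo
    exact hp.one_lt.ne hzo
  have hzQ : orderOf z ∣ Q := by rw [hzo]; exact hpQ
  have hPC : (P : Subgroup G) ≤ centralizer {z} := by
    intro u hu
    rw [mem_centralizer_singleton_iff]
    have := c.2
    rw [mem_center_iff] at this
    have h := this ⟨u, hu⟩
    exact congrArg Subtype.val h
  have hpow : ∀ x : G, x ≠ 1 → orderOf x ∣ Q → p ∣ orderOf x → x ∈ conjSet (centralizer {z}) := by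
    intro x hx1 hxQ hpx
    refine ⟨hx1, ?_⟩
    set x' := x ^ (orderOf x / p) with hx'
    have hx'o : orderOf x' = p := orderOf_pow_orderOf_div (orderOf_pos x).ne' hpx
    have hx'1 : x' ≠ 1 := by
      intro h
      rw [h, orderOf_one] at hx'o
      exact hp.one_lt.ne hx'o
    have hzp : IsPGroup p (zpowers x') := by
      apply IsPGroup.of_card (n := 1)
      rw [Nat.card_zpowers, hx'o, pow_one]
    obtain ⟨P', hP'⟩ := hzp.exists_le_sylow
    obtain ⟨g, hg⟩ := MulAction.exists_smul_eq G P P'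
    refine ⟨g, ?_⟩
    have hx'P : g⁻¹ * x' * g ∈ (P : Subgroup G) := by
      have h1 : x' ∈ ((g • P : Sylow p G) : Subgroup G) := by
        rw [hg]; exact hP' (mem_zpowers x')
      rw [Sylow.coe_subgroup_smul, Subgroup.mem_pointwise_smul_iff_inv_smul_mem] at h1
      simpa [MulAut.smul_def, MulAut.conj_apply, mul_assoc] using h1
    have hx''1 : g⁻¹ * x' * g ≠ 1 := by
      intro h
      apply hx'1
      have : x' = g * (g⁻¹ * x' * g) * g⁻¹ := by group
      rw [this, h]; group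
    have h2 := (centralizer_eq_of_mem hcyc hdvd hz1 hzQ (hPC hx'P) hx''1).2
    rw [← h2, centralizer_conj]
    have : g * (g⁻¹ * x * g) * g⁻¹ = x := by group
    rw [this, mem_centralizer_singleton_iff, hx']
    exact (Commute.refl x).pow_right _
  refine ⟨z, hz1, hzQ, ?_, hpow⟩
  -- Sylow argument
  intro hdiv
  have hCQ := hdvd z hz1 hzQ
  have h1 : p * Nat.card (centralizer {z}) ∣ Q := by
    obtain ⟨t, ht⟩ := hCQ
    have hpos : 0 < Nat.card (centralizer {z}) := Nat.card_pos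
    rw [ht, Nat.mul_div_cancel_left _ hpos] at hdiv
    obtain ⟨s, hs⟩ := hdiv
    rw [ht, hs]
    exact ⟨s, by ring⟩
  have h2 : p * Nat.card (P : Subgroup G) ∣ Nat.card G := by
    refine Dvd.dvd.trans ?_ (h1.trans hQG)
    exact Nat.mul_dvd_mul_left p (Subgroup.card_dvd_of_le hPC)
  have h3 : ¬ p ∣ (P : Subgroup G).index := P.not_dvd_index
  apply h3
  have h4 : (P : Subgroup G).index * Nat.card (P : Subgroup G) = Nat.card G := Subgroup.index_mul_card _
  rw [← h4] at h2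
  exact Nat.dvd_of_mul_dvd_mul_right Nat.card_pos h2

/-- Non-identity elements of a torus `A` with a common prime are conjugate into each other's torus. -/
theorem mem_conjSet_of_dvd {p : ℕ} (hp : p.Prime) (hQG : Q ∣ Nat.card G)
    (hcyc : ∀ x : G, x ≠ 1 → orderOf x ∣ Q → IsCyclic (centralizer {x}))
    (hdvd : ∀ x : G, x ≠ 1 → orderOf x ∣ Q → Nat.card (centralizer {x}) ∣ Q)
    {x y : G} (hx1 : x ≠ 1) (hxQ : orderOf x ∣ Q) (hy1 : y ≠ 1) (hyQ : orderOf y ∣ Q)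
    (hpx : p ∣ orderOf x) (hpy : p ∣ Nat.card (centralizer {y})) :
    x ∈ conjSet (centralizer {y}) := by
  obtain ⟨z, hz1, hzQ, -, hz⟩ := exists_torus hp (hpx.trans hxQ) hQG hcyc hdvd
  have : Fact p.Prime := ⟨hp⟩
  obtain ⟨y', hy'⟩ := exists_prime_orderOf_dvd_card' p hpy
  have hy'o : orderOf (y' : G) = p := by rw [Subgroup.orderOf_coe, hy']
  have hy'1 : (y' : G) ≠ 1 := by
    intro h
    rw [h, orderOf_one] at hy'o
    exact hp.one_lt.ne hy'o
  obtain ⟨hy'Q, hy'C⟩ := centralizer_eq_of_mem hcyc hdvd hy1 hyQ y'.2 hy'1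
  obtain ⟨-, g, hg⟩ := hz y' hy'1 hy'Q (by rw [hy'o])
  obtain ⟨-, h, hh⟩ := hz x hx1 hxQ hpx
  refine ⟨hx1, h * g⁻¹, ?_⟩
  have hg1 : g⁻¹ * (y' : G) * g ≠ 1 := by
    intro h
    apply hy'1
    have : (y' : G) = g * (g⁻¹ * (y' : G) * g) * g⁻¹ := by group
    rw [this, h]; group
  have h2 := (centralizer_eq_of_mem hcyc hdvd hz1 hzQ hg hg1).2
  rw [← h2, centralizer_conj, hy'C] at hh
  have : (h * g⁻¹)⁻¹ * x * (h * g⁻¹) = g * (h⁻¹ * x * h) * g⁻¹ := by group
  rw [this]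
  exact hh

/-- Distinct classes of tori have coprime orders. -/
theorem coprime_of {p : ℕ} (hQG : Q ∣ Nat.card G)
    (hcyc : ∀ x : G, x ≠ 1 → orderOf x ∣ Q → IsCyclic (centralizer {x}))
    (hdvd : ∀ x : G, x ≠ 1 → orderOf x ∣ Q → Nat.card (centralizer {x}) ∣ Q)
    {x y : G} (hx1 : x ≠ 1) (hxQ : orderOf x ∣ Q) (hy1 : y ≠ 1) (hyQ : orderOf y ∣ Q)
    (hpx : p ∣ Q / Nat.card (centralizer {x})) (hpy : ¬ p ∣ Q / Nat.card (centralizer {y})) :
    (Nat.card (centralizer {x})).Coprime (Nat.card (centralizer {y})) := by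
  by_contra hcon
  obtain ⟨l, hl, hlx, hly⟩ := Nat.Prime.not_coprime_iff_dvd.mp hcon
  have : Fact l.Prime := ⟨hl⟩
  obtain ⟨x', hx'⟩ := exists_prime_orderOf_dvd_card' l hlx
  have hx'o : orderOf (x' : G) = l := by rw [Subgroup.orderOf_coe, hx']
  have hx'1 : (x' : G) ≠ 1 := by
    intro h
    rw [h, orderOf_one] at hx'o
    exact hl.one_lt.ne hx'o
  obtain ⟨hx'Q, hx'C⟩ := centralizer_eq_of_mem hcyc hdvd hx1 hxQ x'.2 hx'1
  obtain ⟨-, g, hg⟩ := mem_conjSet_of_dvd hl hQG hcyc hdvd hx'1 hx'Q hy1 hyQ (by rw [hx'o]) hly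
  have hg1 : g⁻¹ * (x' : G) * g ≠ 1 := by
    intro h
    apply hx'1
    have : (x' : G) = g * (g⁻¹ * (x' : G) * g) * g⁻¹ := by group
    rw [this, h]; group
  have h2 := (centralizer_eq_of_mem hcyc hdvd hy1 hyQ hg hg1).2
  have h3 : Nat.card (centralizer {x}) = Nat.card (centralizer {y}) := by
    have e1 := congrArg (fun A : Subgroup G => Nat.card A) hx'C
    have e2 := congrArg (fun A : Subgroup G => Nat.card A) h2
    refine e1.symm.trans (Eq.trans ?_ e2)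
    refine Nat.card_congr ⟨fun u => ⟨g⁻¹ * (u : G) * g, ?_⟩, fun u => ⟨g * (u : G) * g⁻¹, ?_⟩, ?_, ?_⟩
    · rw [centralizer_conj]
      have : g * (g⁻¹ * (u : G) * g) * g⁻¹ = u := by group
      rw [this]; exact u.2
    · rw [← centralizer_conj]; exact u.2
    · intro u
      apply Subtype.ext
      change g * (g⁻¹ * (u : G) * g) * g⁻¹ = u
      group
    · intro u
      apply Subtype.ext
      change g⁻¹ * (g * (u : G) * g⁻¹) * g = u
      group
  rw [h3] at hpx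
  exact hpy hpx

omit [Finite G] in
theorem disjoint_conjSet {A B : Subgroup G} (h : (Nat.card A).Coprime (Nat.card B)) :
    Disjoint (conjSet A) (conjSet B) := by
  rw [Set.disjoint_left]
  rintro y ⟨hy1, g, hg⟩ ⟨-, k, hk⟩
  apply hy1
  rw [← orderOf_eq_one_iff]
  have h1 : orderOf y ∣ Nat.card A := by
    have h1 := orderOf_dvd_natCard (⟨_, hg⟩ : A)
    rw [← Subgroup.orderOf_coe] at h1
    have : orderOf (g⁻¹ * y * g) = orderOf y := by
      have := orderOf_injective (MulAut.conj g⁻¹).toMonoidHom (MulAut.conj g⁻¹).injective y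
      simpa [MulAut.conj_apply] using this
    rwa [this] at h1
  have h2 : orderOf y ∣ Nat.card B := by
    have h1 := orderOf_dvd_natCard (⟨_, hk⟩ : B)
    rw [← Subgroup.orderOf_coe] at h1
    have : orderOf (k⁻¹ * y * k) = orderOf y := by
      have := orderOf_injective (MulAut.conj k⁻¹).toMonoidHom (MulAut.conj k⁻¹).injective y
      simpa [MulAut.conj_apply] using this
    rwa [this] at h1
  exact Nat.dvd_one.mp (h ▸ Nat.dvd_gcd h1 h2)

end Tori


/-- Arithmetic: the case of one class is impossible. -/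
theorem arith_one {q f : ℕ} (hq : 27 ≤ q) (h : 2 * (q * (q - 2)) = (q * (q - 1)) * f) : False := by
  obtain ⟨t, rfl⟩ := Nat.exists_eq_add_of_le hq
  have h1 : 27 + t - 2 = 25 + t := by omega
  have h2 : 27 + t - 1 = 26 + t := by omega
  rw [h1, h2] at h
  have h3 : 2 * (25 + t) = (26 + t) * f := by
    have : (27 + t) * (2 * (25 + t)) = (27 + t) * ((26 + t) * f) := by linarith
    exact Nat.eq_of_mul_eq_mul_left (by omega) this
  rcases Nat.lt_or_ge f 2 with hf | hf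
  · interval_cases f <;> omega
  · nlinarith

/-- Arithmetic: the case of two classes. -/
theorem arith_two {q Q a b f g : ℕ} (hq : 27 ≤ q) (hQ : Q + q = q ^ 2 + 1) (ha : 5 ≤ a) (hb : 5 ≤ b)
    (hab : a * b = Q) (hf : 1 ≤ f) (hg : 1 ≤ g)
    (h : (a - 1) * f * b + (b - 1) * g * a = 2 * (q * (q - 2))) : f = 1 ∧ g = 1 ∧ a + b = 2 * (q + 1) := by
  obtain ⟨c, rfl⟩ := Nat.exists_eq_add_of_le ha
  obtain ⟨d, rfl⟩ := Nat.exists_eq_add_of_le hb
  obtain ⟨t, rfl⟩ := Nat.exists_eq_add_of_le hq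
  obtain ⟨f', rfl⟩ := Nat.exists_eq_add_of_le hf
  obtain ⟨g', rfl⟩ := Nat.exists_eq_add_of_le hg
  have h1 : 27 + t - 2 = 25 + t := by omega
  have h2 : 5 + c - 1 = 4 + c := by omega
  have h3 : 5 + d - 1 = 4 + d := by omega
  rw [h1, h2, h3] at h
  have hf0 : f' = 0 := by
    by_contra hne
    have : 1 ≤ f' := Nat.one_le_iff_ne_zero.mpr hne
    nlinarith [Nat.zero_le (c * d), Nat.zero_le (f' * c), Nat.zero_le (f' * d), Nat.zero_le (g' * c),
      Nat.zero_le (g' * d), Nat.zero_le (f' * c * d), Nat.zero_le (g' * c * d),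
      Nat.mul_le_mul_right ((4 + c) * (5 + d)) this]
  have hg0 : g' = 0 := by
    by_contra hne
    have : 1 ≤ g' := Nat.one_le_iff_ne_zero.mpr hne
    nlinarith [Nat.zero_le (c * d), Nat.zero_le (f' * c), Nat.zero_le (f' * d), Nat.zero_le (g' * c),
      Nat.zero_le (g' * d), Nat.zero_le (f' * c * d), Nat.zero_le (g' * c * d),
      Nat.mul_le_mul_right ((4 + d) * (5 + c)) this]
  subst hf0 hg0
  refine ⟨rfl, rfl, ?_⟩
  nlinarith

/-- Arithmetic: three classes are impossible. -/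
theorem arith_three {q Q M X x y z a b c f g h : ℕ} (hq : 27 ≤ q) (hQ : Q + q = q ^ 2 + 1) (hM : 0 < M)
    (ha : 5 ≤ a) (hb : 5 ≤ b) (hc : 5 ≤ c) (hf : 1 ≤ f) (hg : 1 ≤ g) (hh : 1 ≤ h)
    (hx : 6 * a * x = M * (a - 1) * f) (hy : 6 * b * y = M * (b - 1) * g) (hz : 6 * c * z = M * (c - 1) * h)
    (hX : x + y + z ≤ X) (htot : 3 * Q * X = q * (q - 2) * M) : False := by
  have key : ∀ {a x f : ℕ}, 5 ≤ a → 1 ≤ f → 6 * a * x = M * (a - 1) * f → 2 * M ≤ 15 * x := by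
    intro a x f ha hf hx
    obtain ⟨c, rfl⟩ := Nat.exists_eq_add_of_le ha
    obtain ⟨f', rfl⟩ := Nat.exists_eq_add_of_le hf
    have h2 : 5 + c - 1 = 4 + c := by omega
    rw [h2] at hx
    by_contra hcon
    push Not at hcon
    have h4 : (5 + c) * (15 * x) < (5 + c) * (2 * M) := Nat.mul_lt_mul_of_pos_left hcon (by omega)
    nlinarith [Nat.zero_le (M * c), Nat.zero_le (M * f'), Nat.zero_le (M * c * f')]
  have h1 := key ha hf hx
  have h2 := key hb hg hy
  have h3 := key hc hh hz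
  have h4 : 2 * M ≤ 5 * X := by omega
  obtain ⟨t, rfl⟩ := Nat.exists_eq_add_of_le hq
  have h5 : 27 + t - 2 = 25 + t := by omega
  rw [h5] at htot
  have h6 : 3 * Q * (2 * M) ≤ 5 * (3 * Q * X) := by nlinarith
  rw [htot] at h6
  have h7 : 6 * Q ≤ 5 * ((27 + t) * (25 + t)) := by
    by_contra hcon
    push Not at hcon
    have := Nat.mul_lt_mul_of_pos_right hcon hM
    nlinarith
  nlinarith

/-- Arithmetic: the two orders are `q + 1 ∓ r`. -/
theorem arith_final {q Q a b r : ℕ} (hQ : Q + q = q ^ 2 + 1) (hr : r ^ 2 = 3 * q) (hrq : r ≤ q)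
    (hab : a * b = Q) (hs : a + b = 2 * (q + 1)) :
    (a = q - r + 1 ∧ b = q + r + 1) ∨ (a = q + r + 1 ∧ b = q - r + 1) := by
  zify [hrq] at *
  have : ((a : ℤ) - (q + 1) - r) * ((a : ℤ) - (q + 1) + r) = 0 := by
    have hb : (b : ℤ) = 2 * (q + 1) - a := by linarith
    rw [hb] at hab
    nlinarith
  rcases mul_eq_zero.mp this with h | h
  · right; constructor <;> linarith
  · left; constructor <;> linarith


/-- A divisor of `q² - q + 1` (`q = 3^(2m+1)`) different from `1` is at least `5`. -/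
theorem five_le_of_dvd {m a : ℕ} (h1 : a ≠ 1)
    (ha : a ∣ (3 ^ (2 * m + 1)) ^ 2 - 3 ^ (2 * m + 1) + 1) : 5 ≤ a := by
  set q := 3 ^ (2 * m + 1) with hq
  have hq1 : 1 ≤ q := Nat.one_le_pow _ _ (by norm_num)
  have h3 : 3 ∣ q := dvd_pow_self 3 (by omega)
  have hodd : q % 2 = 1 := by
    rw [hq, Nat.pow_mod]; norm_num
  obtain ⟨k, hk⟩ : ∃ k, q ^ 2 - q = 6 * k := by
    obtain ⟨t, ht⟩ := h3
    have ht2 : t % 2 = 1 := by omega
    have hqq : q ^ 2 - q = q * (q - 1) := by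
      rw [Nat.mul_sub, mul_one, sq]
    obtain ⟨s, hs⟩ : ∃ s, q - 1 = 2 * s := ⟨(q - 1) / 2, by omega⟩
    exact ⟨t * s, by rw [hqq, hs, ht]; ring⟩
  rw [hk] at ha
  by_contra hcon
  push Not at hcon
  have h0 : a ≠ 0 := by
    rintro rfl
    have := Nat.eq_zero_of_zero_dvd ha
    omega
  have : a = 2 ∨ a = 3 ∨ a = 4 := by omega
  rcases this with rfl | rfl | rfl <;> omega

/-- **Counting of tori.**  `q = 3^(2m+1)`, `r = 3^(m+1)`, `Q = q² - q + 1`. -/
theorem exists_tori [Finite G] {m : ℕ} (hm : 1 ≤ m)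
    (hcard : Nat.card G = (3 ^ (2 * m + 1)) ^ 3 * (3 ^ (2 * m + 1) - 1) * ((3 ^ (2 * m + 1)) ^ 3 + 1))
    (hcyc : ∀ x : G, x ≠ 1 → orderOf x ∣ (3 ^ (2 * m + 1)) ^ 2 - 3 ^ (2 * m + 1) + 1 → IsCyclic (centralizer {x}))
    (hdvd : ∀ x : G, x ≠ 1 → orderOf x ∣ (3 ^ (2 * m + 1)) ^ 2 - 3 ^ (2 * m + 1) + 1 →
      Nat.card (centralizer {x}) ∣ (3 ^ (2 * m + 1)) ^ 2 - 3 ^ (2 * m + 1) + 1)
    (hnorm : ∀ x : G, x ≠ 1 → orderOf x ∣ (3 ^ (2 * m + 1)) ^ 2 - 3 ^ (2 * m + 1) + 1 →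
      Nat.card (normalizer (centralizer {x} : Set G)) ∣ 6 * Nat.card (centralizer {x}))
    (hcount : 3 * Nat.card {x : G // x ≠ 1 ∧ orderOf x ∣ (3 ^ (2 * m + 1)) ^ 2 - 3 ^ (2 * m + 1) + 1} =
      (3 ^ (2 * m + 1)) ^ 4 * ((3 ^ (2 * m + 1)) ^ 2 - 1) * (3 ^ (2 * m + 1) - 2)) :
    ∃ A B : Subgroup G, IsCyclic A ∧ IsCyclic B ∧ Nat.card A = 3 ^ (2 * m + 1) - 3 ^ (m + 1) + 1 ∧
      Nat.card B = 3 ^ (2 * m + 1) + 3 ^ (m + 1) + 1 ∧
      Nat.card (normalizer (A : Set G)) = 6 * (3 ^ (2 * m + 1) - 3 ^ (m + 1) + 1) ∧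
      Nat.card (normalizer (B : Set G)) = 6 * (3 ^ (2 * m + 1) + 3 ^ (m + 1) + 1) ∧
      (∀ x ∈ A, x ≠ 1 → centralizer {x} = A) ∧ (∀ x ∈ B, x ≠ 1 → centralizer {x} = B) ∧
      ∀ x : G, x ≠ 1 → orderOf x ∣ (3 ^ (2 * m + 1)) ^ 2 - 3 ^ (2 * m + 1) + 1 →
        ∃ g : G, g * x * g⁻¹ ∈ A ∨ g * x * g⁻¹ ∈ B := by
  classical
  have h5 : ∀ {a : ℕ}, a ≠ 1 → a ∣ (3 ^ (2 * m + 1)) ^ 2 - 3 ^ (2 * m + 1) + 1 → 5 ≤ a :=
    fun h1 h2 => five_le_of_dvd h1 h2
  have hr2 : (3 ^ (m + 1)) ^ 2 = 3 * 3 ^ (2 * m + 1) := by ring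
  have hrq : 3 ^ (m + 1) ≤ 3 ^ (2 * m + 1) := Nat.pow_le_pow_right (by norm_num) (by omega)
  have hq27 : 27 ≤ 3 ^ (2 * m + 1) := by
    calc 27 = 3 ^ 3 := by norm_num
      _ ≤ 3 ^ (2 * m + 1) := Nat.pow_le_pow_right (by norm_num) (by omega)
  generalize 3 ^ (2 * m + 1) = q at *
  generalize 3 ^ (m + 1) = r at *
  have hqq : q ≤ q ^ 2 := by nlinarith
  have hQq' : q ^ 2 - q + 1 + q = q ^ 2 + 1 := by omega
  have hQz : ((q ^ 2 - q + 1 : ℕ) : ℤ) = (q : ℤ) ^ 2 - q + 1 := by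
    push_cast [hqq]; ring
  generalize q ^ 2 - q + 1 = Q at *
  have hQq : Q + q = q ^ 2 + 1 := hQq'
  have hQpos : 0 < Q := by omega
  have hQ1 : Q ≠ 1 := by
    intro h
    have : q ^ 2 = q := by omega
    nlinarith
  -- the order of `G`
  have hMQ : Nat.card G = q ^ 3 * (q ^ 2 - 1) * Q := by
    rw [hcard]
    have h1 : q ^ 3 + 1 = (q + 1) * Q := by
      zify
      rw [hQz]; ring
    have h2 : q ^ 2 - 1 = (q - 1) * (q + 1) := by
      obtain ⟨t, rfl⟩ := Nat.exists_eq_add_of_le hq27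
      have : 27 + t - 1 = 26 + t := by omega
      rw [this]
      have : (27 + t) ^ 2 = (26 + t) * (27 + t + 1) + 1 := by ring
      rw [this]; simp
    rw [h1, h2]; ring
  have hM : 0 < Nat.card G := Nat.card_pos
  have hQG : Q ∣ Nat.card G := by rw [hMQ]; exact Dvd.intro_left _ rfl
  set X : Set G := {x : G | x ≠ 1 ∧ orderOf x ∣ Q} with hX
  have hXcard : 3 * Nat.card X = q ^ 4 * (q ^ 2 - 1) * (q - 2) := hcount
  have htot : 3 * Q * Nat.card X = q * (q - 2) * Nat.card G := by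
    rw [hMQ]
    calc 3 * Q * Nat.card X = Q * (3 * Nat.card X) := by ring
      _ = Q * (q ^ 4 * (q ^ 2 - 1) * (q - 2)) := by rw [hXcard]
      _ = _ := by ring
  -- basic facts on the torus of `z`
  have hfacts : ∀ z : G, z ≠ 1 → orderOf z ∣ Q →
      ∃ f : ℕ, 1 ≤ f ∧ 5 ≤ Nat.card (centralizer {z}) ∧ conjSet (centralizer {z}) ⊆ X ∧
        Nat.card (normalizer (centralizer {z} : Set G)) * f = 6 * Nat.card (centralizer {z}) ∧
        6 * Nat.card (centralizer {z}) * Nat.card (conjSet (centralizer {z})) =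
          Nat.card G * (Nat.card (centralizer {z}) - 1) * f := by
    intro z hz1 hzQ
    obtain ⟨f, hf⟩ := hnorm z hz1 hzQ
    have hpos : 0 < Nat.card (centralizer {z}) := Nat.card_pos
    have hf0 : 1 ≤ f := by
      rw [Nat.one_le_iff_ne_zero]
      rintro rfl
      omega
    have ha1 : Nat.card (centralizer {z}) ≠ 1 := by
      intro h
      rw [Subgroup.card_eq_one] at h
      have : z ∈ centralizer {z} := by rw [mem_centralizer_singleton_iff]
      rw [h, mem_bot] at this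
      exact hz1 this
    refine ⟨f, hf0, h5 ha1 (hdvd z hz1 hzQ), ?_, hf.symm, ?_⟩
    · rintro y ⟨hy1, g, hg⟩
      refine ⟨hy1, ?_⟩
      have h1 := orderOf_dvd_natCard (⟨_, hg⟩ : centralizer {z})
      rw [← Subgroup.orderOf_coe] at h1
      have : orderOf (g⁻¹ * y * g) = orderOf y := by
        have := orderOf_injective (MulAut.conj g⁻¹).toMonoidHom (MulAut.conj g⁻¹).injective y
        simpa [MulAut.conj_apply] using this
      rw [this] at h1
      exact h1.trans (hdvd z hz1 hzQ)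
    · have h1 := card_conjSet_mul (centralizer {z}) (fun x hx hx1 =>
        (centralizer_eq_of_mem hcyc hdvd hz1 hzQ hx hx1).2)
      rw [hf, ← h1]; ring
  have hself : ∀ z : G, z ≠ 1 → orderOf z ∣ Q → ∀ x ∈ centralizer {z}, x ≠ 1 → centralizer {x} = centralizer {z} :=
    fun z hz1 hzQ x hx hx1 => (centralizer_eq_of_mem hcyc hdvd hz1 hzQ hx hx1).2
  -- first torus
  obtain ⟨p₁, hp₁, hp₁Q⟩ := Nat.exists_prime_and_dvd hQ1
  obtain ⟨z₁, hz₁1, hz₁Q, hz₁p, hz₁⟩ := exists_torus hp₁ hp₁Q hQG hcyc hdvd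
  obtain ⟨f₁, hf₁, ha₁, hs₁, hn₁, hc₁⟩ := hfacts z₁ hz₁1 hz₁Q
  have hd₁ := hdvd z₁ hz₁1 hz₁Q
  have hcase1 : Nat.card (centralizer {z₁}) ≠ Q := by
    intro ha
    have hXeq : conjSet (centralizer {z₁}) = X := by
      apply Set.Subset.antisymm hs₁
      rintro x ⟨hx1, hxQ⟩
      have : orderOf x ≠ 1 := by rwa [Ne, orderOf_eq_one_iff]
      obtain ⟨p, hp, hpx⟩ := Nat.exists_prime_and_dvd this
      exact mem_conjSet_of_dvd hp hQG hcyc hdvd hx1 hxQ hz₁1 hz₁Q hpx (by rw [ha]; exact hpx.trans hxQ)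
    rw [hXeq, ha] at hc₁
    have : Nat.card G * (2 * (q * (q - 2))) = Nat.card G * ((q * (q - 1)) * f₁) := by
      have h1 : Q - 1 = q * (q - 1) := by
        rw [Nat.mul_sub, mul_one, ← sq]; omega
      rw [h1] at hc₁
      nlinarith
    exact arith_one hq27 (Nat.eq_of_mul_eq_mul_left hM this)
  -- second torus
  have hQa₁ : Q / Nat.card (centralizer {z₁}) ≠ 1 := by
    intro h
    obtain ⟨t, ht⟩ := hd₁
    rw [ht, Nat.mul_div_cancel_left _ Nat.card_pos] at h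
    rw [h, mul_one] at ht
    exact hcase1 ht.symm
  obtain ⟨p₂, hp₂, hp₂Q⟩ := Nat.exists_prime_and_dvd hQa₁
  obtain ⟨z₂, hz₂1, hz₂Q, hz₂p, hz₂⟩ := exists_torus hp₂ (hp₂Q.trans (Nat.div_dvd_of_dvd hd₁)) hQG hcyc hdvd
  obtain ⟨f₂, hf₂, ha₂, hs₂, hn₂, hc₂⟩ := hfacts z₂ hz₂1 hz₂Q
  have hd₂ := hdvd z₂ hz₂1 hz₂Q
  have hcop12 := coprime_of hQG hcyc hdvd hz₁1 hz₁Q hz₂1 hz₂Q hp₂Q hz₂p
  have hdisj12 := disjoint_conjSet hcop12
  have hd12 : Nat.card (centralizer {z₁}) * Nat.card (centralizer {z₂}) ∣ Q := hcop12.mul_dvd_of_dvd_of_dvd hd₁ hd₂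
  have hcase2 : Nat.card (centralizer {z₁}) * Nat.card (centralizer {z₂}) = Q := by
    by_contra hne
    obtain ⟨t, ht⟩ := hd12
    have ht1 : t ≠ 1 := by
      rintro rfl
      rw [mul_one] at ht
      exact hne ht.symm
    obtain ⟨p₃, hp₃, hp₃t⟩ := Nat.exists_prime_and_dvd ht1
    have h13 : p₃ ∣ Q / Nat.card (centralizer {z₁}) := by
      rw [ht, mul_assoc, Nat.mul_div_cancel_left _ Nat.card_pos]
      exact hp₃t.mul_left _
    have h23 : p₃ ∣ Q / Nat.card (centralizer {z₂}) := by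
      have : Q = Nat.card (centralizer {z₂}) * (Nat.card (centralizer {z₁}) * t) := by rw [ht]; ring
      rw [this, Nat.mul_div_cancel_left _ Nat.card_pos]
      exact hp₃t.mul_left _
    obtain ⟨z₃, hz₃1, hz₃Q, hz₃p, hz₃⟩ := exists_torus hp₃ (h13.trans (Nat.div_dvd_of_dvd hd₁)) hQG hcyc hdvd
    obtain ⟨f₃, hf₃, ha₃, hs₃, hn₃, hc₃⟩ := hfacts z₃ hz₃1 hz₃Q
    have hcop13 := coprime_of hQG hcyc hdvd hz₁1 hz₁Q hz₃1 hz₃Q h13 hz₃p
    have hcop23 := coprime_of hQG hcyc hdvd hz₂1 hz₂Q hz₃1 hz₃Q h23 hz₃p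
    have hdisj13 := disjoint_conjSet hcop13
    have hdisj23 := disjoint_conjSet hcop23
    have hle : Nat.card (conjSet (centralizer {z₁})) + Nat.card (conjSet (centralizer {z₂})) +
        Nat.card (conjSet (centralizer {z₃})) ≤ Nat.card X := by
      rw [Nat.card_coe_set_eq, Nat.card_coe_set_eq, Nat.card_coe_set_eq, Nat.card_coe_set_eq,
        ← Set.ncard_union_eq hdisj12, ← Set.ncard_union_eq (Set.disjoint_union_left.mpr ⟨hdisj13, hdisj23⟩)]
      exact Set.ncard_le_ncard (Set.union_subset (Set.union_subset hs₁ hs₂) hs₃)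
    exact arith_three hq27 hQq hM ha₁ ha₂ ha₃ hf₁ hf₂ hf₃ hc₁ hc₂ hc₃ hle htot
  -- exactly two classes
  have hcov : ∀ x : G, x ≠ 1 → orderOf x ∣ Q →
      x ∈ conjSet (centralizer {z₁}) ∨ x ∈ conjSet (centralizer {z₂}) := by
    intro x hx1 hxQ
    have : orderOf x ≠ 1 := by rwa [Ne, orderOf_eq_one_iff]
    obtain ⟨p, hp, hpx⟩ := Nat.exists_prime_and_dvd this
    have h1 : p ∣ Nat.card (centralizer {z₁}) * Nat.card (centralizer {z₂}) := by
      rw [hcase2]; exact hpx.trans hxQ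
    rcases (Nat.Prime.dvd_mul hp).mp h1 with h | h
    · left; exact mem_conjSet_of_dvd hp hQG hcyc hdvd hx1 hxQ hz₁1 hz₁Q hpx h
    · right; exact mem_conjSet_of_dvd hp hQG hcyc hdvd hx1 hxQ hz₂1 hz₂Q hpx h
  have hXeq : conjSet (centralizer {z₁}) ∪ conjSet (centralizer {z₂}) = X := by
    apply Set.Subset.antisymm (Set.union_subset hs₁ hs₂)
    rintro x ⟨hx1, hxQ⟩
    exact hcov x hx1 hxQ
  have hsum : Nat.card X = Nat.card (conjSet (centralizer {z₁})) + Nat.card (conjSet (centralizer {z₂})) := by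
    rw [← hXeq, Nat.card_coe_set_eq, Nat.card_coe_set_eq, Nat.card_coe_set_eq, Set.ncard_union_eq hdisj12]
  obtain ⟨hff, hgg, hab⟩ : f₁ = 1 ∧ f₂ = 1 ∧
      Nat.card (centralizer {z₁}) + Nat.card (centralizer {z₂}) = 2 * (q + 1) := by
    apply arith_two hq27 hQq ha₁ ha₂ hcase2 hf₁ hf₂
    apply Nat.eq_of_mul_eq_mul_left hM
    have e1 : 6 * Q * Nat.card (conjSet (centralizer {z₁})) =
        Nat.card G * ((Nat.card (centralizer {z₁}) - 1) * f₁ * Nat.card (centralizer {z₂})) := by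
      rw [← hcase2]
      calc _ = (6 * Nat.card (centralizer {z₁}) * Nat.card (conjSet (centralizer {z₁}))) * Nat.card (centralizer {z₂}) := by ring
        _ = _ := by rw [hc₁]; ring
    have e2 : 6 * Q * Nat.card (conjSet (centralizer {z₂})) =
        Nat.card G * ((Nat.card (centralizer {z₂}) - 1) * f₂ * Nat.card (centralizer {z₁})) := by
      rw [← hcase2]
      calc _ = (6 * Nat.card (centralizer {z₂}) * Nat.card (conjSet (centralizer {z₂}))) * Nat.card (centralizer {z₁}) := by ring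
        _ = _ := by rw [hc₂]; ring
    rw [mul_add, ← e1, ← e2, ← mul_add, ← hsum]
    calc 6 * Q * Nat.card X = 2 * (3 * Q * Nat.card X) := by ring
      _ = _ := by rw [htot]; ring
  rw [hff, mul_one] at hn₁
  rw [hgg, mul_one] at hn₂
  rcases arith_final hQq hr2 hrq hcase2 hab with ⟨e1, e2⟩ | ⟨e1, e2⟩
  · refine ⟨centralizer {z₁}, centralizer {z₂}, hcyc z₁ hz₁1 hz₁Q, hcyc z₂ hz₂1 hz₂Q, e1, e2, ?_, ?_,
      hself z₁ hz₁1 hz₁Q, hself z₂ hz₂1 hz₂Q, ?_⟩
    · rw [hn₁, e1]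
    · rw [hn₂, e2]
    · intro x hx1 hxQ
      rcases hcov x hx1 hxQ with ⟨-, g, hg⟩ | ⟨-, g, hg⟩
      · exact ⟨g⁻¹, Or.inl (by simpa using hg)⟩
      · exact ⟨g⁻¹, Or.inr (by simpa using hg)⟩
  · refine ⟨centralizer {z₂}, centralizer {z₁}, hcyc z₂ hz₂1 hz₂Q, hcyc z₁ hz₁1 hz₁Q, e2, e1, ?_, ?_,
      hself z₂ hz₂1 hz₂Q, hself z₁ hz₁1 hz₁Q, ?_⟩
    · rw [hn₂, e2]
    · rw [hn₁, e1]
    · intro x hx1 hxQ
      rcases hcov x hx1 hxQ with ⟨-, g, hg⟩ | ⟨-, g, hg⟩
      · exact ⟨g⁻¹, Or.inr (by simpa using hg)⟩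
      · exact ⟨g⁻¹, Or.inl (by simpa using hg)⟩

end Cfsg.Agent.LieRecognition.ReeCount
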