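import Cfsg.Agent.LieRecognition.ReeSeven
import Cfsg.Agent.ChevalleyStructure.ReeFixed
import Cfsg.Agent.S1023
set_option linter.all false

set_option autoImplicit false

/-!
The faithful 7-dimensional representation of the small Ree group `²G₂(q)` (`twistedG2 K (3^m)`), with
invariant bilinear form, determinant one, a nonzero fixed vector for every element, and the relation
`θ (block on L/W) = block on W`, which gives `tr(R)^(3e) = tr(R²) - tr(R)² + tr(R)`.
-/

namespace Cfsg.Agent.LieRecognition.ReeSevenGroup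

open Cfsg.Lie ReeSevenTable ReeSevenEntries ReeSeven
open Cfsg.Agent.ChevalleyStructure.ReeFixed (Fixed IsTheta sh lg)

open scoped Matrix

variable {K : Type*} [Field K]

theorem good_pow {M : Matrix chevG2.Idx chevG2.Idx K} (hM : Good M) (n : ℕ) : Good (M ^ n) := by
  induction n with
  | zero => rw [pow_zero]; exact Good.one
  | succ n ih => rw [pow_succ]; exact ih.mul hM

section CharThree

variable [CharP K 3]

/-- a good matrix which is trivial on the ideal is trivial -/
theorem good_eq_one {M : Matrix chevG2.Idx chevG2.Idx K} (hM : Good M) (h : wb M = 1) : M = 1 := by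
  have key : ∀ k j, M (pos k) (pos j) = if j = k then 1 else 0 := by
    intro k j
    have h1 := hM.eqv j
    rw [h, one_mul, mul_one] at h1
    have h2 := congrArg (fun X => (lm K k * X).trace) h1
    simp only [Matrix.mul_sum, Matrix.trace_sum, Matrix.mul_smul, Matrix.trace_smul, trace_lm_am,
      smul_eq_mul] at h2
    rw [h2]
    simp
  ext i j
  obtain ⟨i, rfl⟩ := pos_bijective.2 i
  obtain ⟨j, rfl⟩ := pos_bijective.2 j
  rw [key, ReeSeven.one_pos]
  simp only [eq_comm]

theorem det_bm_ne : (bm K).det ≠ 0 := by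
  have h := congrArg Matrix.det (bm_mul_bm (K := K))
  rw [Matrix.det_mul, Matrix.det_one] at h
  exact left_ne_zero_of_mul_eq_one h

theorem good_det_sq {M : Matrix chevG2.Idx chevG2.Idx K} (hM : Good M) : (wb M).det ^ 2 = 1 := by
  have h := congrArg Matrix.det hM.bil
  rw [Matrix.det_mul, Matrix.det_mul, Matrix.det_transpose] at h
  have h2 : ((wb M).det ^ 2) * (bm K).det = 1 * (bm K).det := by linear_combination h
  exact mul_right_cancel₀ det_bm_ne h2

theorem x_det (r : ℕ) (t : K) : (wb (chevG2.x K r t)).det = 1 := by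
  have h3 : (3 : K) = 0 := by exact_mod_cast CharP.cast_eq_zero K 3
  have h1 : chevG2.x K r t = chevG2.x K r (2 * t) * chevG2.x K r (2 * t) := by
    by_cases hr : r < chevG2.nroots
    · rw [Cfsg.Agent.S1023.result chevG2 (by simp) r hr (2 * t) (2 * t)]
      congr 1
      linear_combination (-t) * h3
    · unfold ChevalleyDatum.x
      rw [dif_neg hr, dif_neg hr, one_mul]
  rw [h1, wb_mul (x_good r _).zero, Matrix.det_mul, ← sq]
  exact good_det_sq (x_good r _)

omit [CharP K 3] in
theorem wordMat_cons (p : ℕ × K) (w : List (ℕ × K)) :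
    chevG2.wordMat K (p :: w) = chevG2.x K p.1 p.2 * chevG2.wordMat K w := by
  simp [ChevalleyDatum.wordMat]

theorem word_det (w : List (ℕ × K)) : (wb (chevG2.wordMat K w)).det = 1 := by
  induction w with
  | nil =>
    show (wb (1 : Matrix chevG2.Idx chevG2.Idx K)).det = 1
    rw [wb_one, Matrix.det_one]
  | cons p w ih =>
    rw [wordMat_cons, wb_mul (word_good w).zero, Matrix.det_mul, ih, x_det, one_mul]

/-- the group of good matrices with determinant one on the ideal -/
def goodGroup (K : Type*) [Field K] [CharP K 3] [Finite K] : Subgroup (GL chevG2.Idx K) where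
  carrier := {g | Good (g : Matrix chevG2.Idx chevG2.Idx K) ∧ (wb (g : Matrix chevG2.Idx chevG2.Idx K)).det = 1}
  one_mem' := ⟨Good.one, by
    show (wb (1 : Matrix chevG2.Idx chevG2.Idx K)).det = 1
    rw [wb_one, Matrix.det_one]⟩
  mul_mem' := by
    rintro a b ⟨ha, ha'⟩ ⟨hb, hb'⟩
    refine ⟨ha.mul hb, ?_⟩
    show (wb ((a : Matrix chevG2.Idx chevG2.Idx K) * (b : Matrix chevG2.Idx chevG2.Idx K))).det = 1
    rw [wb_mul hb.zero, Matrix.det_mul, ha', hb', one_mul]
  inv_mem' := by
    rintro a ⟨ha, ha'⟩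
    have hfin : Finite (GL chevG2.Idx K) := inferInstance
    have h : a⁻¹ = a ^ (orderOf a - 1) := by
      rw [inv_eq_iff_mul_eq_one, ← pow_succ', Nat.sub_add_cancel (orderOf_pos a), pow_orderOf_eq_one]
    have hg : Good ((a⁻¹ : GL chevG2.Idx K) : Matrix chevG2.Idx chevG2.Idx K) := by
      rw [h, Units.val_pow_eq_pow_val]
      exact good_pow ha _
    refine ⟨hg, ?_⟩
    have h1 : (a : Matrix chevG2.Idx chevG2.Idx K) * ((a⁻¹ : GL chevG2.Idx K) : Matrix chevG2.Idx chevG2.Idx K) = 1 := by
      rw [← Units.val_mul, mul_inv_cancel, Units.val_one]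
    have h2 := congrArg (fun X => (wb X).det) h1
    simp only [wb_mul hg.zero, Matrix.det_mul, ha', one_mul, wb_one, Matrix.det_one] at h2
    exact h2

theorem mem_goodGroup [Finite K] {g : GL chevG2.Idx K} : g ∈ goodGroup K ↔
    Good (g : Matrix chevG2.Idx chevG2.Idx K) ∧ (wb (g : Matrix chevG2.Idx chevG2.Idx K)).det = 1 := Iff.rfl

theorem genSubgroup_le [Finite K] (S : Set (List (ℕ × K))) : chevG2.genSubgroup K S ≤ goodGroup K := by
  unfold ChevalleyDatum.genSubgroup
  rw [Subgroup.closure_le]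
  rintro g ⟨w, -, hw⟩
  refine mem_goodGroup.2 ?_
  rw [hw]
  exact ⟨word_good w, word_det w⟩

theorem twistedG2_le [Finite K] (e : ℕ) : twistedG2 K e ≤ goodGroup K := genSubgroup_le _

theorem group_le [Finite K] : chevG2.group K ≤ goodGroup K := by
  unfold ChevalleyDatum.group
  rw [Subgroup.closure_le]
  rintro g ⟨r, t, hg⟩
  refine mem_goodGroup.2 ?_
  have h : (g : Matrix chevG2.Idx chevG2.Idx K) = chevG2.x K r.val t := by
    unfold ChevalleyDatum.x
    rw [dif_pos r.2]
    exact hg
  rw [h]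
  exact ⟨x_good _ _, x_det _ _⟩

/-- The 7-dimensional representation on the short root ideal. -/
noncomputable def rho (K : Type*) [Field K] [CharP K 3] [Finite K] : ↥(goodGroup K) →* GL (Fin 7) K where
  toFun g := ⟨wb (g.1 : Matrix chevG2.Idx chevG2.Idx K), wb ((g⁻¹).1 : Matrix chevG2.Idx chevG2.Idx K), by
      rw [← wb_mul (g⁻¹).2.1.zero, ← Units.val_mul, ← Subgroup.coe_mul, mul_inv_cancel]
      exact wb_one, by
      rw [← wb_mul g.2.1.zero, ← Units.val_mul, ← Subgroup.coe_mul, inv_mul_cancel]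
      exact wb_one⟩
  map_one' := Units.ext wb_one
  map_mul' g h := Units.ext (wb_mul h.2.1.zero)

theorem rho_val [Finite K] (g : ↥(goodGroup K)) :
    ((rho K g : GL (Fin 7) K) : Matrix (Fin 7) (Fin 7) K) = wb (g.1 : Matrix chevG2.Idx chevG2.Idx K) := rfl

theorem rho_injective [Finite K] : Function.Injective (rho K) := by
  rw [injective_iff_map_eq_one]
  intro g hg
  have h : wb (g.1 : Matrix chevG2.Idx chevG2.Idx K) = 1 := congrArg Units.val hg
  exact Subtype.ext (Units.ext (good_eq_one g.2.1 h))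

theorem rho_det [Finite K] (g : ↥(goodGroup K)) :
    ((rho K g : GL (Fin 7) K) : Matrix (Fin 7) (Fin 7) K).det = 1 := g.2.2

theorem rho_bil [Finite K] (g : ↥(goodGroup K)) :
    ((rho K g : GL (Fin 7) K) : Matrix (Fin 7) (Fin 7) K)ᵀ * bm K * (rho K g : GL (Fin 7) K) = bm K := g.2.1.bil

/-- an isometry of determinant one of the 7-dimensional space has the eigenvalue one -/
theorem det_sub_one {R : Matrix (Fin 7) (Fin 7) K} (h : Rᵀ * bm K * R = bm K) (hd : R.det = 1) :
    (R - 1).det = 0 := by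
  have h3 : (3 : K) = 0 := by exact_mod_cast CharP.cast_eq_zero K 3
  have h1 : Rᵀ * bm K * (R - 1) = - ((R - 1)ᵀ * bm K) := by
    rw [Matrix.mul_sub, h, mul_one, Matrix.transpose_sub, Matrix.transpose_one, Matrix.sub_mul, one_mul]
    abel
  have h2 := congrArg Matrix.det h1
  rw [Matrix.det_mul, Matrix.det_mul, Matrix.det_neg, Matrix.det_mul, Matrix.det_transpose,
    Matrix.det_transpose, hd, Fintype.card_fin] at h2
  have h4 : (bm K).det * (R - 1).det = 0 := by
    linear_combination (-1 : K) * h2 + ((bm K).det * (R - 1).det) * h3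
  exact (mul_eq_zero.1 h4).resolve_left det_bm_ne

/-- every element of the representation fixes a nonzero vector -/
theorem exists_fixed [Finite K] (g : ↥(goodGroup K)) : ∃ v : Fin 7 → K, v ≠ 0 ∧
    ((rho K g : GL (Fin 7) K) : Matrix (Fin 7) (Fin 7) K) *ᵥ v = v := by
  obtain ⟨v, hv, h⟩ := Matrix.exists_mulVec_eq_zero_iff.2 (det_sub_one (rho_bil g) (rho_det g))
  refine ⟨v, hv, ?_⟩
  rw [Matrix.sub_mulVec, Matrix.one_mulVec] at h
  exact sub_eq_zero.1 h

/-- The 7-dimensional representation of the small Ree group. -/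
noncomputable def ree (K : Type*) [Field K] [CharP K 3] [Finite K] (e : ℕ) :
    ↥(twistedG2 K e) →* GL (Fin 7) K := (rho K).comp (Subgroup.inclusion (twistedG2_le e))

theorem ree_val [Finite K] (e : ℕ) (g : ↥(twistedG2 K e)) :
    ((ree K e g : GL (Fin 7) K) : Matrix (Fin 7) (Fin 7) K) = wb (g.1 : Matrix chevG2.Idx chevG2.Idx K) := rfl

theorem ree_injective [Finite K] (e : ℕ) : Function.Injective (ree K e) :=
  rho_injective.comp (Subgroup.inclusion_injective _)

theorem ree_det [Finite K] (e : ℕ) (g : ↥(twistedG2 K e)) :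
    ((ree K e g : GL (Fin 7) K) : Matrix (Fin 7) (Fin 7) K).det = 1 := rho_det _

theorem ree_bil [Finite K] (e : ℕ) (g : ↥(twistedG2 K e)) :
    ((ree K e g : GL (Fin 7) K) : Matrix (Fin 7) (Fin 7) K)ᵀ * bm K * (ree K e g : GL (Fin 7) K) = bm K :=
  rho_bil _

theorem ree_exists_fixed [Finite K] (e : ℕ) (g : ↥(twistedG2 K e)) : ∃ v : Fin 7 → K, v ≠ 0 ∧
    ((ree K e g : GL (Fin 7) K) : Matrix (Fin 7) (Fin 7) K) *ᵥ v = v := exists_fixed _

end CharThree

end Cfsg.Agent.LieRecognition.ReeSevenGroup
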