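import Mathlib
import Cfsg.Agent.LieRecognition.ReeCount
import Cfsg.Agent.LieRecognition.ReeSevenGroup
set_option linter.all false

-- part: LieRecognition/ReeTorusSeven
section
/-!
Elements of order dividing `q² - q + 1` in a finite group with a faithful seven-dimensional
representation of determinant one over the field with `q` elements: the centraliser is cyclic, and the
normaliser of the centraliser has index dividing six over it.
-/

set_option autoImplicit false

namespace Cfsg.Agent.LieRecognition.ReeTorusSeven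

open Matrix Subgroup

section Linear

theorem map_mulVec_comp {K E ι : Type*} [Field K] [Field E] [Algebra K E] [Fintype ι]
    (σ : E →ₐ[K] E) (A : Matrix ι ι K) (v : ι → E) :
    (A.map (algebraMap K E)) *ᵥ (fun j => σ (v j)) = fun j => σ (((A.map (algebraMap K E)) *ᵥ v) j) := by
  ext j
  simp [mulVec, dotProduct, map_sum, map_mul]

/-- An operator of finite order prime to the characteristic, different from `1`, has an eigenvalue
different from `1`. -/
theorem exists_eigenvector {E V : Type*} [Field E] [IsAlgClosed E] [AddCommGroup V] [Module E V]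
    [FiniteDimensional E V] {p : ℕ} (hp : (p : E) ≠ 0) (T : Module.End E V) (hT : T ^ p = 1) (hT1 : T ≠ 1) :
    ∃ (l : E) (v : V), v ≠ 0 ∧ T v = l • v ∧ l ≠ 1 := by
  set W := LinearMap.range (T - 1) with hW
  have hinv : ∀ w ∈ W, T w ∈ W := by
    rintro w ⟨u, rfl⟩
    refine ⟨T u, ?_⟩
    simp
  have hne : Nontrivial W := by
    rw [Submodule.nontrivial_iff_ne_bot, hW, Ne, LinearMap.range_eq_bot, sub_eq_zero]
    exact hT1
  obtain ⟨l, hl⟩ := Module.End.exists_eigenvalue (T.restrict hinv)
  obtain ⟨w, hw⟩ := hl.exists_hasEigenvector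
  have hw0 : (w : V) ≠ 0 := by
    intro h
    exact hw.2 (Subtype.ext h)
  have hTw : T (w : V) = l • (w : V) := by
    have := congrArg Subtype.val hw.apply_eq_smul
    simpa using this
  refine ⟨l, w, hw0, hTw, ?_⟩
  rintro rfl
  rw [one_smul] at hTw
  obtain ⟨u, hu⟩ := w.2
  have hTu : T u = u + w := by
    have : T u - u = w := by simpa using hu
    rw [← this]; abel
  have hpow : ∀ k : ℕ, (T ^ k) u = u + (k : E) • (w : V) := by
    intro k
    induction k with
    | zero => simp
    | succ k ih =>
      rw [pow_succ', Module.End.mul_apply, ih, map_add, map_smul, hTw, hTu, Nat.cast_succ, add_smul, one_smul]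
      abel
  have h := hpow p
  rw [hT, Module.End.one_apply] at h
  have h2 : (p : E) • (w : V) = 0 := by
    have := h
    rw [left_eq_add] at this
    exact this
  rcases smul_eq_zero.mp h2 with h3 | h3
  · exact hp h3
  · exact hw0 h3

/-- A matrix of prime order `p` acting on an odd-dimensional (dimension seven) space over the field with
`q` elements, `q` of order six modulo `p`, has a non-zero fixed vector. -/
theorem exists_fixed {K ι : Type*} [Field K] [Fintype K] [Fintype ι] [DecidableEq ι]
    (hι : Fintype.card ι = 7) {p : ℕ} [hp : Fact p.Prime] (hq : orderOf (Fintype.card K : ZMod p) = 6)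
    (A : Matrix ι ι K) (hA : A ^ p = 1) : ∃ u : ι → K, u ≠ 0 ∧ A *ᵥ u = u := by
  classical
  by_contra hcon
  push Not at hcon
  let f : Function.End (ι → K) := fun v => A *ᵥ v
  have hpow : ∀ k : ℕ, ∀ v, (f ^ k) v = (A ^ k) *ᵥ v := by
    intro k
    induction k with
    | zero => intro v; simp [Function.End.one_def]
    | succ k ih =>
      intro v
      rw [pow_succ, pow_succ]
      change (f ^ k) (f v) = _
      rw [ih, ← mulVec_mulVec]
  have hf : f ^ p ^ 1 = 1 := by
    funext v
    rw [pow_one, hpow, hA, one_mulVec]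
    rfl
  have h1 := Equiv.Perm.card_fixedPoints_modEq (α := ι → K) (f := f) hf
  have h2 : Fintype.card (Function.fixedPoints f) = 1 := by
    rw [Fintype.card_eq_one_iff]
    refine ⟨⟨0, by change A *ᵥ (0 : ι → K) = 0; simp⟩, ?_⟩
    rintro ⟨v, hv⟩
    apply Subtype.ext
    by_contra hne
    exact hcon v hne hv
  rw [h2, Fintype.card_fun, hι, ← ZMod.natCast_eq_natCast_iff] at h1
  push_cast at h1
  have h3 : (Fintype.card K : ZMod p) ^ 6 = 1 := by rw [← hq]; exact pow_orderOf_eq_one _
  rw [pow_succ, h3, one_mul] at h1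
  rw [h1, orderOf_one] at hq
  norm_num at hq

/-- The eigenvalues. -/
def ev {E : Type*} [Field E] (q : ℕ) (l : E) : Option (Fin 6) → E
  | none => 1
  | some i => l ^ (q ^ (i : ℕ))

theorem ev_injective {E : Type*} [Field E] {q p : ℕ} [hp : Fact p.Prime]
    (hq : orderOf (q : ZMod p) = 6) {l : E} (hl : l ^ p = 1) (hl1 : l ≠ 1) :
    Function.Injective (ev q l) := by
  have hlo : orderOf l = p := orderOf_eq_prime hl hl1
  have hq0 : (q : ZMod p) ≠ 0 := by
    intro h
    rw [h] at hq
    have : (0 : ZMod p) ^ 6 = 1 := by rw [← hq]; exact pow_orderOf_eq_one _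
    norm_num at this
  have key : ∀ i : Fin 6, l ^ (q ^ (i : ℕ)) ≠ 1 := by
    intro i h
    rw [← orderOf_dvd_iff_pow_eq_one, hlo, ← ZMod.natCast_eq_zero_iff] at h
    push_cast at h
    exact pow_ne_zero _ hq0 h
  rintro (_ | i) (_ | j) h
  · rfl
  · exact absurd h.symm (key j)
  · exact absurd h (key i)
  · have h' : l ^ (q ^ (i : ℕ)) = l ^ (q ^ (j : ℕ)) := h
    have hl0 : l ≠ 0 := by
      rintro rfl
      rw [zero_pow hp.out.ne_zero] at hl
      exact zero_ne_one hl
    have hu : (Units.mk0 l hl0) ^ (q ^ (i : ℕ)) = (Units.mk0 l hl0) ^ (q ^ (j : ℕ)) := by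
      apply Units.ext
      simpa using h'
    rw [pow_eq_pow_iff_modEq, ← orderOf_units, Units.val_mk0, hlo] at hu
    have h2 : (q : ZMod p) ^ (i : ℕ) = (q : ZMod p) ^ (j : ℕ) := by
      have : ((q ^ (i : ℕ) : ℕ) : ZMod p) = ((q ^ (j : ℕ) : ℕ) : ZMod p) := by
        rw [ZMod.natCast_eq_natCast_iff]; exact hu
      exact_mod_cast this
    have hinj := pow_injOn_Iio_orderOf (x := (q : ZMod p))
    have h3 : (i : ℕ) = j := hinj (by rw [hq]; exact i.2) (by rw [hq]; exact j.2) h2
    rw [Fin.ext h3]


/-- The eigenbasis of a matrix of order `p` over the algebraic closure. -/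
theorem exists_basis {K E ι : Type*} [Field K] [Fintype K] [Field E] [Algebra K E] [IsAlgClosed E]
    [Fintype ι] [DecidableEq ι]
    (hι : Fintype.card ι = 7) {p : ℕ} [hp : Fact p.Prime] (hpE : (p : E) ≠ 0)
    (hq : orderOf (Fintype.card K : ZMod p) = 6)
    (A : Matrix ι ι K) (hA : A ^ p = 1) (hA1 : A ≠ 1) :
    ∃ (l : E) (b : Module.Basis (Option (Fin 6)) E (ι → E)), l ^ p = 1 ∧ l ≠ 1 ∧
      (∀ i, (A.map (algebraMap K E)) *ᵥ (b i) = ev (Fintype.card K) l i • b i) ∧
      (∀ i : Fin 6, b (some i) = fun j => (b (some 0) j) ^ ((Fintype.card K) ^ (i : ℕ))) := by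
  set q := Fintype.card K with hqdef
  set A' : Matrix ι ι E := A.map (algebraMap K E) with hA'
  have hA'p : A' ^ p = 1 := by
    rw [hA', ← Matrix.map_pow, hA, Matrix.map_one _ (map_zero _) (map_one _)]
  have hA'1 : A' ≠ 1 := by
    intro h
    apply hA1
    apply Matrix.map_injective (algebraMap K E).injective
    change A' = _
    rw [h]
    exact (Matrix.map_one _ (map_zero _) (map_one _)).symm
  obtain ⟨l, v, hv0, hv, hl1⟩ := exists_eigenvector hpE (Matrix.mulVecLin A')
    (by
      rw [← Matrix.toLin'_apply', ← Matrix.toLin'_pow, hA'p, Matrix.toLin'_one]; rfl)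
    (by
      rw [← Matrix.toLin'_apply']
      intro h
      apply hA'1
      apply Matrix.toLin'.injective
      rw [h, Matrix.toLin'_one]; rfl)
  rw [Matrix.mulVecLin_apply] at hv
  obtain ⟨u, hu0, hu⟩ := exists_fixed hι hq A hA
  have hlp : l ^ p = 1 := by
    have hpow : ∀ k : ℕ, (A' ^ k) *ᵥ v = l ^ k • v := by
      intro k
      induction k with
      | zero => simp
      | succ k ih =>
        rw [pow_succ, ← mulVec_mulVec, hv, mulVec_smul, ih, smul_smul, pow_succ, mul_comm]
    have h := hpow p
    rw [hA'p, one_mulVec] at h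
    have h2 : (l ^ p - 1) • v = 0 := by rw [sub_smul, one_smul, ← h, sub_self]
    rcases smul_eq_zero.mp h2 with h3 | h3
    · exact sub_eq_zero.mp h3
    · exact absurd h3 hv0
  -- Frobenius
  let F : E →ₐ[K] E := FiniteField.frobeniusAlgHom K E
  have hF : ∀ (i : ℕ) (a : E), (F ^ i) a = a ^ (q ^ i) := by
    intro i
    induction i with
    | zero => intro a; simp
    | succ i ih =>
      intro a
      rw [pow_succ, AlgHom.mul_apply, ih]
      change (a ^ q) ^ (q ^ i) = _
      rw [← pow_mul, pow_succ, mul_comm]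
  let w : Option (Fin 6) → (ι → E)
    | none => fun j => algebraMap K E (u j)
    | some i => fun j => (v j) ^ (q ^ (i : ℕ))
  have hw : ∀ i, A' *ᵥ (w i) = ev q l i • w i := by
    rintro (_ | i)
    · change A' *ᵥ (fun j => algebraMap K E (u j)) = (1 : E) • (fun j => algebraMap K E (u j))
      rw [one_smul]
      ext j
      have := congrArg (fun x => algebraMap K E (x j)) hu
      simpa [mulVec, dotProduct, hA', map_sum] using this
    · have h := map_mulVec_comp (F ^ (i : ℕ)) A v
      have e1 : (fun j => (F ^ (i : ℕ)) (v j)) = w (some i) := by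
        ext j; exact hF _ _
      rw [e1] at h
      change A' *ᵥ w (some i) = _
      rw [h, ← hA', hv]
      ext j
      simp only [Pi.smul_apply, smul_eq_mul, hF]
      exact mul_pow _ _ _
  have hw0 : ∀ i, w i ≠ 0 := by
    rintro (_ | i) h
    · apply hu0
      ext j
      have := congrFun h j
      change algebraMap K E (u j) = 0 at this
      simpa using this
    · apply hv0
      ext j
      have := congrFun h j
      change (v j) ^ (q ^ (i : ℕ)) = 0 at this
      exact pow_eq_zero_iff (pow_ne_zero _ (Fintype.card_ne_zero)) |>.mp this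
  have hli : LinearIndependent E w := by
    apply Module.End.eigenvectors_linearIndependent' (Matrix.mulVecLin A') (ev q l) (ev_injective hq hlp hl1) w
    intro i
    refine ⟨?_, hw0 i⟩
    rw [Module.End.mem_eigenspace_iff, Matrix.mulVecLin_apply]
    exact hw i
  have hcard : Fintype.card (Option (Fin 6)) = Module.finrank E (ι → E) := by
    rw [Module.finrank_fintype_fun_eq_card, hι]; rfl
  refine ⟨l, basisOfLinearIndependentOfCardEqFinrank hli hcard, hlp, hl1, ?_, ?_⟩
  · intro i
    rw [coe_basisOfLinearIndependentOfCardEqFinrank]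
    exact hw i
  · intro i
    rw [coe_basisOfLinearIndependentOfCardEqFinrank]
    ext j
    change (v j) ^ (q ^ (i : ℕ)) = ((v j) ^ (q ^ 0)) ^ (q ^ (i : ℕ))
    rw [pow_zero, pow_one]

/-- Matrices commuting with a diagonal operator with distinct eigenvalues are diagonal. -/
theorem eq_smul_of_commute {E ι κ : Type*} [Field E] [Fintype ι] [DecidableEq ι] [Finite κ]
    (b : Module.Basis κ E (ι → E)) {μ : κ → E} (hμ : Function.Injective μ) (A C : Matrix ι ι E)
    (hA : ∀ i, A *ᵥ (b i) = μ i • b i) (hC : A * C = C * A) (i : κ) :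
    ∃ c : E, C *ᵥ (b i) = c • b i := by
  classical
  refine ⟨b.repr (C *ᵥ b i) i, ?_⟩
  have h1 : A *ᵥ (C *ᵥ b i) = μ i • (C *ᵥ b i) := by
    rw [mulVec_mulVec, hC, ← mulVec_mulVec, hA, mulVec_smul]
  have : Fintype κ := Fintype.ofFinite κ
  have h2 : ∀ j, j ≠ i → b.repr (C *ᵥ b i) j = 0 := by
    intro j hj
    have h3 : b.repr (A *ᵥ (C *ᵥ b i)) j = μ j * b.repr (C *ᵥ b i) j := by
      conv_lhs => rw [← b.sum_repr (C *ᵥ b i)]
      rw [mulVec_sum]
      simp only [mulVec_smul, hA, map_sum, map_smul, Finsupp.coe_finsetSum, Finset.sum_apply,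
        Finsupp.smul_apply, Module.Basis.repr_self, smul_eq_mul, Finsupp.single_apply]
      rw [Finset.sum_eq_single j]
      · simp [mul_comm]
      · intro k _ hk
        simp [hk]
      · intro h; exact absurd (Finset.mem_univ j) h
    rw [h1, map_smul, Finsupp.smul_apply, smul_eq_mul] at h3
    have h4 : (μ i - μ j) * b.repr (C *ᵥ b i) j = 0 := by rw [sub_mul, h3, sub_self]
    rcases mul_eq_zero.mp h4 with h5 | h5
    · exact absurd (hμ (sub_eq_zero.mp h5)).symm hj
    · exact h5
  conv_lhs => rw [← b.sum_repr (C *ᵥ b i)]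
  rw [Finset.sum_eq_single i]
  · intro j _ hj
    rw [h2 j hj, zero_smul]
  · intro h; exact absurd (Finset.mem_univ i) h

end Linear

section Group

variable {G : Type*} [Group G] {K ι : Type*} [Field K] [Fintype K] [Fintype ι] [DecidableEq ι]

/-- Data for an element of prime order: the character on the centraliser and the eigenvalue. -/
theorem exists_char (hι : Fintype.card ι = 7) {p : ℕ} [hp : Fact p.Prime] (hpK : (p : K) ≠ 0)
    (hq : orderOf (Fintype.card K : ZMod p) = 6) (ρ : G →* GL ι K) (hρ : Function.Injective ρ)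
    (hdet : ∀ g, (ρ g : Matrix ι ι K).det = 1) {x : G} (hx : orderOf x = p) :
    ∃ χ : centralizer {x} →* AlgebraicClosure K, Function.Injective χ ∧
      ∀ k : ℕ, (∃ n : G, n⁻¹ * x * n = x ^ k) → ∃ i : Fin 6, (k : ZMod p) = (Fintype.card K : ZMod p) ^ (i : ℕ) := by
  set E := AlgebraicClosure K with hE
  set A : Matrix ι ι K := (ρ x : Matrix ι ι K) with hA
  have hpow : ∀ k : ℕ, A ^ k = (ρ (x ^ k) : Matrix ι ι K) := by
    intro k; rw [map_pow]; simp [hA]
  have hAp : A ^ p = 1 := by
    rw [hpow, ← hx, pow_orderOf_eq_one, map_one]; rfl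
  have hA1 : A ≠ 1 := by
    intro h
    have : ρ x = 1 := Units.ext h
    rw [← map_one ρ] at this
    have := hρ this
    rw [this, orderOf_one] at hx
    exact hp.out.one_lt.ne hx
  have hpE : (p : E) ≠ 0 := by
    intro h
    apply hpK
    apply (algebraMap K E).injective
    rw [map_natCast, h, map_zero]
  obtain ⟨l, b, hlp, hl1, hb, hbF⟩ := exists_basis (E := E) hι hpE hq A hAp hA1
  have hinj := ev_injective hq hlp hl1
  have hlo : orderOf l = p := orderOf_eq_prime hlp hl1
  -- action of an element of the centraliser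
  have hmul : ∀ g h : G, (ρ (g * h) : Matrix ι ι K).map (algebraMap K E) =
      (ρ g : Matrix ι ι K).map (algebraMap K E) * (ρ h : Matrix ι ι K).map (algebraMap K E) := by
    intro g h
    rw [map_mul, Units.val_mul, Matrix.map_mul]
  have hex : ∀ c : centralizer {x}, ∀ i, ∃ t : E,
      ((ρ c : Matrix ι ι K).map (algebraMap K E)) *ᵥ (b i) = t • b i := by
    intro c i
    apply eq_smul_of_commute b hinj (A.map (algebraMap K E)) _ hb
    have hc : (c : G) * x = x * c := mem_centralizer_singleton_iff.mp c.2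
    rw [hA, ← hmul, ← hmul, hc]
  choose ch hch using hex
  have hb0 : ∀ i, b i ≠ 0 := fun i => b.ne_zero i
  have huniq : ∀ {i} {s t : E}, s • b i = t • b i → s = t := by
    intro i s t h
    have : (s - t) • b i = 0 := by rw [sub_smul, h, sub_self]
    rcases smul_eq_zero.mp this with h | h
    · exact sub_eq_zero.mp h
    · exact absurd h (hb0 i)
  let χ : centralizer {x} →* E :=
  { toFun := fun c => ch c (some 0)
    map_one' := by
      apply huniq (i := some 0)
      rw [← hch]
      simp
    map_mul' := by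
      intro c d
      apply huniq (i := some 0)
      rw [← hch, Subgroup.coe_mul, hmul, ← mulVec_mulVec, hch, mulVec_smul, hch, smul_smul, mul_comm] }
  refine ⟨χ, ?_, ?_⟩
  · rw [injective_iff_map_eq_one]
    intro c hc
    have hc0 : ((ρ c : Matrix ι ι K).map (algebraMap K E)) *ᵥ (b (some 0)) = b (some 0) := by
      rw [hch]
      have : ch c (some 0) = 1 := hc
      rw [this, one_smul]
    -- Frobenius
    let F : E →ₐ[K] E := FiniteField.frobeniusAlgHom K E
    have hF : ∀ (i : ℕ) (a : E), (F ^ i) a = a ^ (Fintype.card K ^ i) := by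
      intro i
      induction i with
      | zero => intro a; simp
      | succ i ih =>
        intro a
        rw [pow_succ, AlgHom.mul_apply, ih]
        change (a ^ Fintype.card K) ^ (Fintype.card K ^ i) = _
        rw [← pow_mul, pow_succ, mul_comm]
    have hci : ∀ i : Fin 6, ch c (some i) = 1 := by
      intro i
      apply huniq (i := some i)
      rw [← hch, one_smul]
      have e1 : b (some i) = fun j => (F ^ (i : ℕ)) (b (some 0) j) := by
        rw [hbF i]; ext j; rw [hF]
      rw [e1, map_mulVec_comp, hc0]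
    -- determinant
    have hdetE : ((ρ c : Matrix ι ι K).map (algebraMap K E)).det = 1 := by
      have := congrArg (algebraMap K E) (hdet c)
      rw [map_one, RingHom.map_det] at this
      exact this
    have hdet2 : ((ρ c : Matrix ι ι K).map (algebraMap K E)).det = ∏ i, ch c i := by
      rw [← LinearMap.det_toLin', ← LinearMap.det_toMatrix b]
      have : LinearMap.toMatrix b b (Matrix.toLin' ((ρ c : Matrix ι ι K).map (algebraMap K E))) =
          Matrix.diagonal (ch c) := by
        ext i j
        rw [LinearMap.toMatrix_apply, Matrix.toLin'_apply, hch, map_smul, Finsupp.smul_apply,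
          Module.Basis.repr_self, Finsupp.single_apply, Matrix.diagonal_apply, smul_eq_mul]
        by_cases h : i = j
        · subst h; simp
        · rw [if_neg h, if_neg (Ne.symm h), mul_zero]
      rw [this, Matrix.det_diagonal]
    rw [hdetE, Fintype.prod_option, Finset.prod_eq_one (fun i _ => hci i), mul_one] at hdet2
    have hall : ∀ i, ch c i = 1 := by
      rintro (_ | i)
      · exact hdet2.symm
      · exact hci i
    have hone : (ρ c : Matrix ι ι K).map (algebraMap K E) = 1 := by
      apply Matrix.toLin'.injective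
      apply b.ext
      intro i
      rw [Matrix.toLin'_apply, hch, hall, one_smul, Matrix.toLin'_one]; rfl
    have h1 : (ρ c : Matrix ι ι K) = 1 := by
      apply Matrix.map_injective (algebraMap K E).injective
      change (ρ c : Matrix ι ι K).map (algebraMap K E) = _
      rw [hone]
      exact (Matrix.map_one _ (map_zero _) (map_one _)).symm
    have h2 : ρ c = 1 := Units.ext h1
    rw [← map_one ρ] at h2
    exact Subtype.ext (hρ h2)
  · rintro k ⟨n, hn⟩
    -- `λ^k` is an eigenvalue
    have hbk : ∀ k : ℕ, (A.map (algebraMap K E)) ^ k *ᵥ (b (some 0)) = (l ^ k) • b (some 0) := by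
      intro k
      induction k with
      | zero => simp
      | succ k ih =>
        rw [pow_succ, ← mulVec_mulVec, hb, mulVec_smul, ih, smul_smul, pow_succ, mul_comm]
        congr 2
        change l ^ (Fintype.card K ^ ((0 : Fin 6) : ℕ)) = l
        simp
    set N := (ρ n : Matrix ι ι K).map (algebraMap K E) with hN
    have h1 : A.map (algebraMap K E) * N = N * (A.map (algebraMap K E)) ^ k := by
      have e1 : x * n = n * x ^ k := by rw [← hn]; group
      have e2 := hmul x n
      rw [e1, hmul, ← hpow, Matrix.map_pow] at e2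
      exact e2.symm
    have h2 : A.map (algebraMap K E) *ᵥ (N *ᵥ b (some 0)) = l ^ k • (N *ᵥ b (some 0)) := by
      rw [mulVec_mulVec, h1, ← mulVec_mulVec, hbk, mulVec_smul]
    have hNb : N *ᵥ b (some 0) ≠ 0 := by
      intro h
      have : (ρ n⁻¹ : Matrix ι ι K).map (algebraMap K E) *ᵥ (N *ᵥ b (some 0)) = b (some 0) := by
        rw [mulVec_mulVec, hN, ← hmul, inv_mul_cancel, map_one]
        simp
      rw [h, mulVec_zero] at this
      exact hb0 _ this.symm
    -- hence `λ^k` is one of the `ev i`
    obtain ⟨i, hi⟩ : ∃ i, l ^ k = ev (Fintype.card K) l i := by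
      by_contra hcon
      push Not at hcon
      apply hNb
      apply b.ext_elem
      intro j
      rw [map_zero, Finsupp.zero_apply]
      have h3 : b.repr (A.map (algebraMap K E) *ᵥ (N *ᵥ b (some 0))) j =
          ev (Fintype.card K) l j * b.repr (N *ᵥ b (some 0)) j := by
        conv_lhs => rw [← b.sum_repr (N *ᵥ b (some 0))]
        rw [mulVec_sum]
        simp only [mulVec_smul, hb, map_sum, map_smul, Finsupp.coe_finsetSum, Finset.sum_apply,
          Finsupp.smul_apply, Module.Basis.repr_self, smul_eq_mul, Finsupp.single_apply]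
        rw [Finset.sum_eq_single j]
        · simp [mul_comm]
        · intro k _ hk
          simp [hk]
        · intro h; exact absurd (Finset.mem_univ j) h
      rw [h2, map_smul, Finsupp.smul_apply, smul_eq_mul] at h3
      have h4 : (l ^ k - ev (Fintype.card K) l j) * b.repr (N *ᵥ b (some 0)) j = 0 := by rw [sub_mul, h3, sub_self]
      rcases mul_eq_zero.mp h4 with h5 | h5
      · exact absurd (sub_eq_zero.mp h5) (hcon j)
      · exact h5
    have hl0 : l ≠ 0 := by
      rintro rfl
      rw [zero_pow hp.out.ne_zero] at hlp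
      exact zero_ne_one hlp
    rcases i with _ | i
    · exfalso
      change l ^ k = 1 at hi
      rw [← orderOf_dvd_iff_pow_eq_one, hlo, ← hx, orderOf_dvd_iff_pow_eq_one] at hi
      rw [hi] at hn
      have : x = 1 := by
        have : x = n * (n⁻¹ * x * n) * n⁻¹ := by group
        rw [this, hn]; group
      rw [this, orderOf_one] at hx
      exact hp.out.one_lt.ne hx
    · refine ⟨i, ?_⟩
      have hi' : l ^ k = l ^ (Fintype.card K ^ (i : ℕ)) := hi
      have hu : (Units.mk0 l hl0) ^ k = (Units.mk0 l hl0) ^ (Fintype.card K ^ (i : ℕ)) := by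
        apply Units.ext
        simpa using hi'
      rw [pow_eq_pow_iff_modEq, ← orderOf_units, Units.val_mk0, hlo, ← ZMod.natCast_eq_natCast_iff] at hu
      rw [hu]; push_cast; rfl

/-- If `x` has prime order and is conjugated inside `⟨x⟩` only to powers `x^k`, `k` a power of `a`,
`a` of order six modulo `p`, then `|N(⟨x⟩)|` divides `6 |C(x)|`. -/
theorem card_normalizer_zpowers [Finite G] {p : ℕ} [hp : Fact p.Prime] {a : ZMod p} (ha : a ^ 6 = 1) {x : G}
    (hx : orderOf x = p)
    (h : ∀ k : ℕ, (∃ n : G, n⁻¹ * x * n = x ^ k) → ∃ i : Fin 6, (k : ZMod p) = a ^ (i : ℕ)) :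
    Nat.card (normalizer (zpowers x : Set G)) ∣ 6 * Nat.card (centralizer {x}) := by
  classical
  set f := (zpowers x).normalizerMonoidHom with hf
  have hZ : Nat.card (zpowers x) = p := by rw [Nat.card_zpowers, hx]
  have hcycR : IsCyclic f.range := by
    have : IsCyclic (MulAut (zpowers x)) := by
      have e := IsCyclic.mulAutMulEquiv (zpowers x)
      rw [hZ] at e
      exact isCyclic_of_injective e.toMonoidHom e.injective
    infer_instance
  have hpow6 : ∀ g ∈ f.range, g ^ 6 = 1 := by
    rintro g ⟨n, rfl⟩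
    obtain ⟨k, hk⟩ : ∃ k : ℕ, ((f n ⟨x, mem_zpowers x⟩ : zpowers x) : G) = x ^ k := by
      have := (f n ⟨x, mem_zpowers x⟩).2
      rw [mem_zpowers_iff_mem_range_orderOf] at this
      obtain ⟨k, -, hk⟩ := Finset.mem_image.mp this
      exact ⟨k, hk.symm⟩
    have hn : ((f n ⟨x, mem_zpowers x⟩ : zpowers x) : G) = (n : G) * x * (n : G)⁻¹ := rfl
    obtain ⟨i, hi⟩ := h k ⟨(n : G)⁻¹, by rw [inv_inv, ← hn, hk]⟩
    have hstep : ∀ j : ℕ, (f n) ((⟨x, mem_zpowers x⟩ : zpowers x) ^ j) =
        (⟨x, mem_zpowers x⟩ : zpowers x) ^ (k * j) := by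
      intro j
      rw [map_pow]
      have : (f n) (⟨x, mem_zpowers x⟩ : zpowers x) = (⟨x, mem_zpowers x⟩ : zpowers x) ^ k := by
        apply Subtype.ext; rw [hk]; rfl
      rw [this, ← pow_mul]
    have hiter : ∀ j : ℕ, ((f n) ^ j) (⟨x, mem_zpowers x⟩ : zpowers x) =
        (⟨x, mem_zpowers x⟩ : zpowers x) ^ (k ^ j) := by
      intro j
      induction j with
      | zero => simp
      | succ j ih => rw [pow_succ', MulAut.mul_apply, ih, hstep, pow_succ']
    have h6 : ((f n) ^ 6) (⟨x, mem_zpowers x⟩ : zpowers x) = ⟨x, mem_zpowers x⟩ := by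
      rw [hiter]
      conv_rhs => rw [← pow_one (⟨x, mem_zpowers x⟩ : zpowers x)]
      rw [pow_eq_pow_iff_modEq]
      have ho : orderOf (⟨x, mem_zpowers x⟩ : zpowers x) = p := by
        rw [← Subgroup.orderOf_coe, hx]
      rw [ho, ← ZMod.natCast_eq_natCast_iff]
      push_cast
      rw [hi, ← pow_mul, mul_comm, pow_mul, ha, one_pow]
    ext z
    obtain ⟨j, hj⟩ : ∃ j : ℤ, (⟨x, mem_zpowers x⟩ : zpowers x) ^ j = z := by
      obtain ⟨j, hj⟩ := mem_zpowers_iff.mp z.2
      exact ⟨j, Subtype.ext (by simpa using hj)⟩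
    rw [← hj, map_zpow, h6]; rfl
  have hR : Nat.card f.range ∣ 6 := by
    obtain ⟨g, hg⟩ := IsCyclic.exists_ofOrder_eq_natCard (α := f.range)
    rw [← hg, orderOf_dvd_iff_pow_eq_one]
    exact Subtype.ext (hpow6 g g.2)
  have hker : Nat.card f.ker = Nat.card (centralizer {x}) := by
    rw [hf, normalizerMonoidHom_ker, Nat.card_congr (subgroupOfEquivOfLe (centralizer_le_normalizer _)).toEquiv,
      zpowers_eq_closure, centralizer_closure]
  have := f.ker.card_mul_index
  rw [index_ker, hker] at this
  rw [← this, mul_comm 6]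
  exact Nat.mul_dvd_mul_left _ hR

/-- The order of `q` modulo a prime divisor of `q² - q + 1` is six. -/
theorem orderOf_eq_six {p q : ℕ} [hp : Fact p.Prime] (hq : 1 ≤ q) (h5 : 5 ≤ p) (h : p ∣ q ^ 2 - q + 1) :
    orderOf (q : ZMod p) = 6 := by
  have hqq : q ≤ q ^ 2 := by nlinarith
  have h1 : (q : ZMod p) ^ 2 - q + 1 = 0 := by
    have := (ZMod.natCast_eq_zero_iff _ _).mpr h
    push_cast [hqq] at this
    exact this
  have h3 : (q : ZMod p) ^ 3 = -1 := by linear_combination (q + 1 : ZMod p) * h1
  have hp2 : (2 : ZMod p) ≠ 0 := by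
    intro h
    have : ((2 : ℕ) : ZMod p) = 0 := by exact_mod_cast h
    rw [ZMod.natCast_eq_zero_iff] at this
    have := Nat.le_of_dvd (by norm_num) this
    omega
  have hp3 : (3 : ZMod p) ≠ 0 := by
    intro h
    have : ((3 : ℕ) : ZMod p) = 0 := by exact_mod_cast h
    rw [ZMod.natCast_eq_zero_iff] at this
    have := Nat.le_of_dvd (by norm_num) this
    omega
  apply orderOf_eq_of_pow_and_pow_div_prime (by norm_num)
  · linear_combination (((q : ZMod p) ^ 3 - 1)) * h3
  · intro r hr hr6
    have : r = 2 ∨ r = 3 := by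
      have h6 : r ∣ 2 * 3 := hr6
      rcases (Nat.Prime.dvd_mul hr).mp h6 with h | h
      · left; exact (Nat.prime_dvd_prime_iff_eq hr Nat.prime_two).mp h
      · right; exact (Nat.prime_dvd_prime_iff_eq hr Nat.prime_three).mp h
    rcases this with rfl | rfl
    · change (q : ZMod p) ^ 3 ≠ 1
      rw [h3]
      intro h
      apply hp2
      linear_combination -h
    · change (q : ZMod p) ^ 2 ≠ 1
      intro h
      have h4 : (q : ZMod p) = -1 := by linear_combination h3 - (q : ZMod p) * h
      rw [h4] at h1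
      apply hp3
      linear_combination h1

/-- **Elements of order dividing `q² - q + 1`.** -/
theorem isCyclic_centralizer [Finite G] (hι : Fintype.card ι = 7) {m : ℕ}
    (hK : Fintype.card K = 3 ^ (2 * m + 1))
    (ρ : G →* GL ι K) (hρ : Function.Injective ρ)
    (hdet : ∀ g, (ρ g : Matrix ι ι K).det = 1) {x : G} (hx1 : x ≠ 1)
    (hx : orderOf x ∣ (3 ^ (2 * m + 1)) ^ 2 - 3 ^ (2 * m + 1) + 1) :
    IsCyclic (centralizer {x}) ∧
      Nat.card (normalizer (centralizer {x} : Set G)) ∣ 6 * Nat.card (centralizer {x}) := by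
  classical
  have hox : orderOf x ≠ 1 := by rwa [Ne, orderOf_eq_one_iff]
  obtain ⟨p, hp, hpx⟩ := Nat.exists_prime_and_dvd hox
  have hpf : Fact p.Prime := ⟨hp⟩
  have hpQ := hpx.trans hx
  have hp5 : 5 ≤ p := ReeCount.five_le_of_dvd hp.one_lt.ne' hpQ
  have hq : orderOf (Fintype.card K : ZMod p) = 6 := by
    rw [hK]
    exact orderOf_eq_six (Nat.one_le_pow _ _ (by norm_num)) hp5 hpQ
  have hpK : (p : K) ≠ 0 := by
    intro h0
    have h3 : (3 : K) = 0 := by
      have h1 := FiniteField.cast_card_eq_zero K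
      rw [hK] at h1
      push_cast at h1
      exact pow_eq_zero_iff (by omega) |>.mp h1
    have hcop : Nat.Coprime p 3 := by
      rw [Nat.coprime_primes hp Nat.prime_three]; omega
    have h2 := Nat.isCoprime_iff_coprime.mpr hcop
    obtain ⟨a, b, hab⟩ := h2
    have h4 := congrArg (Int.cast : ℤ → K) hab
    push_cast at h4
    rw [h0, h3] at h4
    simp at h4
  set x' := x ^ (orderOf x / p) with hx'
  have hx'o : orderOf x' = p := orderOf_pow_orderOf_div (orderOf_pos x).ne' hpx
  obtain ⟨χ, hχ, hk⟩ := exists_char hι hpK hq ρ hρ hdet hx'o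
  have hcyc' : IsCyclic (centralizer {x'}) := isCyclic_of_injective_ringHom χ hχ
  have hcomm : ∀ u ∈ centralizer {x'}, ∀ v ∈ centralizer {x'}, u * v = v * u := by
    intro u hu v hv
    obtain ⟨c, hc⟩ := IsCyclic.exists_generator (α := centralizer {x'})
    obtain ⟨i, hi⟩ := mem_zpowers_iff.mp (hc ⟨u, hu⟩)
    obtain ⟨j, hj⟩ := mem_zpowers_iff.mp (hc ⟨v, hv⟩)
    have h : (⟨u, hu⟩ : centralizer {x'}) * ⟨v, hv⟩ = ⟨v, hv⟩ * ⟨u, hu⟩ := by
      rw [← hi, ← hj, ← _root_.zpow_add, ← _root_.zpow_add, add_comm]
    exact congrArg Subtype.val h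
  have hCeq : centralizer {x} = centralizer {x'} := by
    apply le_antisymm
    · intro z hz
      rw [mem_centralizer_singleton_iff] at hz ⊢
      rw [hx']
      exact (Commute.pow_right hz _)
    · intro z hz
      rw [mem_centralizer_singleton_iff]
      apply hcomm z hz x
      rw [mem_centralizer_singleton_iff, hx']
      exact (Commute.refl x).pow_right _
  rw [hCeq]
  refine ⟨hcyc', ?_⟩
  have h6 : (Fintype.card K : ZMod p) ^ 6 = 1 := by rw [← hq]; exact pow_orderOf_eq_one _
  refine Dvd.dvd.trans ?_ (card_normalizer_zpowers h6 hx'o hk)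
  apply Subgroup.card_dvd_of_le
  -- `N(C(x')) ≤ N(⟨x'⟩)`
  intro n hn
  have hx'C : x' ∈ centralizer {x'} := by rw [mem_centralizer_singleton_iff]
  -- `⟨x'⟩` is the set of elements of `C` with `p`-th power `1`
  have hchar : ∀ y ∈ centralizer {x'}, y ^ p = 1 → y ∈ zpowers x' := by
    intro y hy hyp
    have h1 : ∀ z ∈ zpowers x', z ∈ centralizer {x'} := by
      intro z hz
      rw [mem_centralizer_singleton_iff]
      obtain ⟨j, rfl⟩ := mem_zpowers_iff.mp hz
      exact ((Commute.refl x').zpow_left j)
    let _ : Fintype (centralizer {x'}) := Fintype.ofFinite _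
    have hcard := IsCyclic.card_pow_eq_one_le (α := centralizer {x'}) (n := p) hp.pos
    by_contra hny
    -- the set `{z ∈ C | z^p = 1}` contains `⟨x'⟩ ∪ {y}`
    have hsub : (Set.ncard ({z : centralizer {x'} | z ^ p = 1})) ≤ p := by
      rw [Set.ncard_eq_toFinset_card']
      convert hcard using 2
      ext z; simp
    have hZs : Set.ncard ({z : centralizer {x'} | (z : G) ∈ zpowers x'}) = p := by
      have : Nat.card (zpowers x') = p := by rw [Nat.card_zpowers, hx'o]
      rw [← this, ← Nat.card_coe_set_eq]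
      refine Nat.card_congr ⟨fun z => ⟨z.1, z.2⟩, fun z => ⟨⟨z.1, h1 z.1 z.2⟩, z.2⟩, ?_, ?_⟩
      · intro z; rfl
      · intro z; rfl
    have hins : insert (⟨y, hy⟩ : centralizer {x'}) {z : centralizer {x'} | (z : G) ∈ zpowers x'} ⊆
        {z : centralizer {x'} | z ^ p = 1} := by
      intro z hz
      rcases hz with rfl | hz
      · exact Subtype.ext hyp
      · obtain ⟨j, hj⟩ := mem_zpowers_iff.mp (show (z : G) ∈ zpowers x' from hz)
        apply Subtype.ext
        rw [Subgroup.coe_pow, ← hj, ← zpow_natCast, ← _root_.zpow_mul, mul_comm, _root_.zpow_mul, zpow_natCast,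
          ← hx'o, pow_orderOf_eq_one, _root_.one_zpow]
        rfl
    have h2 := Set.ncard_le_ncard hins (Set.toFinite _)
    have hny' : (⟨y, hy⟩ : centralizer {x'}) ∉ {z : centralizer {x'} | (z : G) ∈ zpowers x'} := hny
    rw [Set.ncard_insert_of_notMem hny', hZs] at h2
    omega
  have hconj : ∀ n ∈ normalizer (centralizer {x'} : Set G), n * x' * n⁻¹ ∈ zpowers x' := by
    intro n hn
    apply hchar
    · exact (mem_normalizer_iff.mp hn x').mp hx'C
    · rw [conj_pow, ← hx'o, pow_orderOf_eq_one]; group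
  rw [mem_normalizer_iff]
  intro z
  constructor
  · intro hz
    obtain ⟨j, rfl⟩ := mem_zpowers_iff.mp hz
    rw [← conj_zpow]
    exact zpow_mem (hconj n hn) j
  · intro hz
    obtain ⟨j, hj⟩ := mem_zpowers_iff.mp hz
    have h1 := hconj n⁻¹ (inv_mem hn)
    rw [inv_inv] at h1
    have : z = (n⁻¹ * x' * n) ^ j := by
      have h2 : (n⁻¹ * x' * n) ^ j = n⁻¹ * x' ^ j * n := by
        have := conj_zpow (a := n⁻¹) (b := x') (i := j)
        rwa [inv_inv] at this
      rw [h2, hj]; group
    rw [this]
    exact zpow_mem h1 j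

end Group

end Cfsg.Agent.LieRecognition.ReeTorusSeven
end

-- part: LieRecognition/ReeTorusTw
section
/-!
Elements of order dividing `q² - q + 1` in the small Ree group `²G₂(q)`, `q = 3^(2m+1)`.
-/

set_option autoImplicit false

namespace Cfsg.Agent.LieRecognition.ReeTorusTw

open Subgroup

/-- In the small Ree group, the centraliser of an element of order dividing `q² - q + 1` is cyclic and its
normaliser has order dividing six times its order. -/
theorem isCyclic_centralizer {K : Type*} [Field K] [Fintype K] {m : ℕ}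
    (hK : Fintype.card K = 3 ^ (2 * m + 1)) {x : ↥(Cfsg.Lie.twistedG2 K (3 ^ m))} (hx1 : x ≠ 1)
    (hx : orderOf x ∣ (3 ^ (2 * m + 1)) ^ 2 - 3 ^ (2 * m + 1) + 1) :
    IsCyclic (centralizer {x}) ∧
      Nat.card (normalizer (centralizer {x} : Set ↥(Cfsg.Lie.twistedG2 K (3 ^ m)))) ∣
        6 * Nat.card (centralizer {x}) := by
  have : Fact (Nat.Prime 3) := ⟨Nat.prime_three⟩
  have : CharP K 3 := charP_of_card_eq_prime_pow hK
  exact ReeTorusSeven.isCyclic_centralizer (by simp) hK (ReeSevenGroup.ree K (3 ^ m))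
    (ReeSevenGroup.ree_injective ..) (fun g => ReeSevenGroup.ree_det ..) hx1 hx

end Cfsg.Agent.LieRecognition.ReeTorusTw
end
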